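import Groth.Agent.HenLineLib.Line
import Groth.Agent.Henselization.Fibre
import Groth.Agent.AbhyankarAbs.Local
import Mathlib.RingTheory.RegularLocalRing.Polynomial

/-!
# The henselized line is regular over the points of height at most one
-/

set_option autoImplicit false
set_option linter.style.haveILetI false
set_option backward.isDefEq.respectTransparency false

universe u

open IsLocalRing Polynomial

noncomputable section

namespace Groth.Agent.HenLineLib

/-- Polynomials over a ring which is regular at the contraction of `p` are regular at `p`. -/
theorem isRegularLocalRing_polynomial {R : Type u} [CommRing R] [IsNoetherianRing R] (p : Ideal R[X]) [p.IsPrime]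
    (hreg : IsRegularLocalRing (Localization.AtPrime (p.comap C))) : IsRegularLocalRing (Localization.AtPrime p) := by
  let q := p.comap C
  let S := (Localization.AtPrime q)[X]
  let pc := Submonoid.map Polynomial.C.toMonoidHom q.primeCompl
  let : Algebra R[X] S := algebra R (Localization.AtPrime q)
  have : IsLocalization pc S := Polynomial.isLocalization _ _
  let pS := p.map (algebraMap R[X] S)
  have disj : Disjoint (pc : Set R[X]) (p : Set R[X]) := by
    simpa [pc, q] using! Set.disjoint_image_left.mpr
      (Set.disjoint_compl_left_iff_subset.mpr (fun _ a ↦ a))
  have : pS.IsPrime := IsLocalization.isPrime_of_isPrime_disjoint pc _ _ ‹_› disj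
  have : IsLocalization.AtPrime (Localization.AtPrime pS) p := by
    convert IsLocalization.isLocalization_isLocalization_atPrime_isLocalization pc
      (Localization.AtPrime pS) pS
    exact (IsLocalization.under_map_of_isPrime_disjoint pc _ ‹_› disj).symm
  have eq : Ideal.comap C pS = maximalIdeal (Localization.AtPrime q) := by
    rw [← IsLocalization.map_under q.primeCompl _ (Ideal.comap C pS),
      ← IsLocalization.map_under q.primeCompl _ (maximalIdeal (Localization.AtPrime q))]
    simp only [Ideal.comap_comap, S, pS]
    rw [← Polynomial.algebraMap_eq (R := Localization.AtPrime q),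
      ← IsScalarTower.algebraMap_eq R (Localization.AtPrime q) (Localization.AtPrime q)[X],
      IsScalarTower.algebraMap_eq R R[X] (Localization.AtPrime q)[X], ← Ideal.comap_comap,
      ← Ideal.under_def R[X], IsLocalization.under_map_of_isPrime_disjoint pc _ ‹_› disj]
    simp [q, IsLocalization.AtPrime.under_maximalIdeal (Localization.AtPrime q) q]
  have := isRegularLocalRing_localization_atPrime_of_comap_eq_maximalIdeal _ pS eq
  exact IsRegularLocalRing.of_ringEquiv (R := Localization.AtPrime pS) (IsLocalization.algEquiv p.primeCompl
    (Localization.AtPrime pS) (Localization.AtPrime p)).toRingEquiv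

/-- The local ring of a normal domain at a prime of height at most one is regular. -/
theorem isRegularLocalRing_of_height_le_one {A : Type u} [CommRing A] [IsDomain A] [IsNoetherianRing A]
    [IsIntegrallyClosed A] (p : Ideal A) [p.IsPrime] (hp : p.height ≤ 1) :
    IsRegularLocalRing (Localization.AtPrime p) := by
  rcases eq_or_ne p ⊥ with rfl | hp0
  · letI : Field (Localization.AtPrime (⊥ : Ideal A)) := IsField.toField <| by
      simp [isField_iff_maximalIdeal_eq, ← Localization.AtPrime.map_eq_maximalIdeal]
    infer_instance
  · haveI := AbhyankarAbs.isDVR_of_height_one p (le_antisymm hp (Order.one_le_iff_pos.2 (pos_iff_ne_zero.2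
      (fun h => hp0 (Ideal.height_eq_zero_iff_eq_bot.1 h)))))
    infer_instance

variable {A : Type u} [CommRing A] [IsLocalRing A] (P : Ideal (Polynomial A)) [P.IsPrime]
  (B : Type u) [CommRing B] [IsLocalRing B] [Algebra (Localization.AtPrime P) B]
  [IsLocalHom (algebraMap (Localization.AtPrime P) B)] [_root_.Hensel.IsHenselization (Localization.AtPrime P) B]

/-- The structure map of the henselized line. -/
def lineMap : A →+* B :=
  (algebraMap (Localization.AtPrime P) B).comp ((algebraMap (Polynomial A) (Localization.AtPrime P)).comp C)

include P in
/-- The henselized line is Noetherian. -/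
theorem isNoetherianRing_line [IsNoetherianRing A] : IsNoetherianRing B := by
  obtain ⟨e⟩ := Henselization.exists_algEquiv_of_isHenselization (Localization.AtPrime P) B
  exact (Henselization.isNoetherianRing_of_equiv e).2 inferInstance

/-- The henselized line is regular over the points of height at most one. -/
theorem isRegularLocalRing_line [IsNoetherianRing A] [IsDomain A] [IsIntegrallyClosed A] (q : Ideal B) [q.IsPrime]
    (hq : (q.comap (lineMap P B)).height ≤ 1) : IsRegularLocalRing (Localization.AtPrime q) := by
  let R₀ := Localization.AtPrime P
  haveI := isNoetherianRing_line P B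
  obtain ⟨e⟩ := Henselization.exists_algEquiv_of_isHenselization R₀ B
  have hF : Henselization.FineFibres R₀ B := Henselization.fineFibres_of_equiv e
  refine (hF.isRegularLocalRing_atPrime q (q.under R₀)).2 ?_
  let Q := (q.under R₀).comap (algebraMap (Polynomial A) R₀)
  haveI : Q.IsPrime := Ideal.IsPrime.comap _
  haveI := isRegularLocalRing_polynomial Q (isRegularLocalRing_of_height_le_one (A := A) _ hq)
  haveI : IsLocalization.AtPrime (Localization.AtPrime (q.under R₀)) Q :=
    IsLocalization.isLocalization_isLocalization_atPrime_isLocalization P.primeCompl _ (q.under R₀)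
  exact IsRegularLocalRing.of_ringEquiv (IsLocalization.algEquiv Q.primeCompl
    (Localization.AtPrime Q) (Localization.AtPrime (q.under R₀))).toRingEquiv

end Groth.Agent.HenLineLib
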