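import Groth.Agent.HenLineLib.Rigidity
import Groth.Agent.HenLineLib.Regular
import Groth.Agent.MoriLib.Main
import Groth.Agent.PurityLib.Global
import Mathlib.RingTheory.Etale.Locus

/-!
# Covers of the henselized line unramified in codimension one and split on the zero section
-/

set_option autoImplicit false
set_option linter.style.haveILetI false
set_option backward.isDefEq.respectTransparency false

universe u

open IsLocalRing

noncomputable section

namespace Groth.Agent.HenLineLib

/-- A normal domain is the intersection of its localizations away from a family not contained in any prime of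
height at most one. -/
theorem extendsFrac_of_height {A : Type u} [CommRing A] [IsDomain A] [IsNoetherianRing A] [IsIntegrallyClosed A]
    {r : ℕ} (α : Fin r → A) (h : ∀ p : Ideal A, p.IsPrime → p.height ≤ 1 → ∃ i, α i ∉ p) : ExtendsFrac A α := by
  intro x hx
  obtain ⟨y, c, hc, rfl⟩ := IsFractionRing.div_surjective (A := A) x
  have hc0 : c ≠ 0 := nonZeroDivisors.ne_zero hc
  have hc' : algebraMap A (FractionRing A) c ≠ 0 := (map_ne_zero_iff _ (IsFractionRing.injective A (FractionRing A))).2 hc0
  by_cases hdvd : c ∣ y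
  · obtain ⟨d, rfl⟩ := hdvd
    exact ⟨d, by rw [map_mul, mul_div_cancel_left₀ _ hc']⟩
  obtain ⟨P, hP, hcP, hPmem⟩ := MoriLib.exists_dvrPrime hc0 hdvd
  obtain ⟨hPp, -⟩ := id hP
  haveI := hPp
  have hht : P.height ≤ 1 := (MoriLib.height_of_htOne ⟨hPp, fun h0 => hc0 (by simpa [h0] using hcP),
    fun r hr hr0 hle => by haveI := hr; exact hP.eq_of_le hr0 hle⟩).le
  obtain ⟨i, hi⟩ := h P hPp hht
  obtain ⟨n, z, hz⟩ := hx i
  refine absurd (hPmem (α i ^ n) z (IsFractionRing.injective A (FractionRing A) ?_)) fun h' => hi (hPp.mem_of_pow_mem n h')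
  rw [map_mul, map_mul, map_pow, ← hz]
  field_simp

/-- Over a point of height at most one a cover unramified in codimension one is etale. -/
theorem isEtaleAt_of_height_le_one {B C M : Type u} [CommRing B] [IsDomain B] [CommRing C] [IsDomain C]
    [IsIntegrallyClosed C] [Algebra B C] [Module.Finite B C] [FaithfulSMul B C] [Field M] [Algebra C M]
    [IsFractionRing C M] (hunr : ∀ (Q : Ideal C) [Q.IsPrime], Q.height ≤ 1 → Algebra.IsUnramifiedAt B Q)
    (Q : Ideal C) [Q.IsPrime] (q : Ideal B) [q.IsPrime] (hq : Q.under B = q)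
    (hreg : IsRegularLocalRing (Localization.AtPrime q)) : Algebra.IsEtaleAt B Q := by
  let R := Localization.AtPrime q
  let S := Algebra.algebraMapSubmonoid C q.primeCompl
  let Cq := Localization S
  have hS : S ≤ nonZeroDivisors C := by
    rintro _ ⟨s, hs, rfl⟩
    exact mem_nonZeroDivisors_of_ne_zero ((map_ne_zero_iff _ (FaithfulSMul.algebraMap_injective B C)).2
      fun h0 => hs (h0 ▸ q.zero_mem))
  haveI : IsDomain Cq := IsLocalization.isDomain_of_le_nonZeroDivisors Cq hS
  haveI : IsIntegrallyClosed Cq := isIntegrallyClosed_of_isLocalization Cq S hS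
  haveI : FaithfulSMul R Cq := (faithfulSMul_iff_algebraMap_injective R Cq).2 (by
    rw [injective_iff_map_eq_zero]
    intro x hx
    obtain ⟨b, s, rfl⟩ := IsLocalization.exists_mk'_eq q.primeCompl x
    have h1 := congrArg (algebraMap R Cq) (IsLocalization.mk'_spec R b s)
    rw [map_mul, hx, zero_mul, ← IsScalarTower.algebraMap_apply B R Cq, IsScalarTower.algebraMap_apply B C Cq] at h1
    rw [IsLocalization.mk'_eq_zero_iff]
    refine ⟨1, ?_⟩
    rw [FaithfulSMul.algebraMap_injective B C (IsLocalization.injective Cq hS (h1.symm.trans (map_zero _).symm) |>.trans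
      (map_zero _).symm)]
    simp)
  haveI := RegLocal.isDomain (R := R)
  haveI : Algebra.Etale R Cq := PurityLib.etale_of_unramified_codim_one fun P hP hP1 => by
    let P₀ := P.comap (algebraMap C Cq)
    haveI : P₀.IsPrime := Ideal.IsPrime.comap _
    haveI := hunr P₀ ((IsLocalization.height_under S P).trans_le hP1)
    haveI : IsLocalization.AtPrime (Localization.AtPrime P) P₀ :=
      IsLocalization.isLocalization_isLocalization_atPrime_isLocalization S _ P
    haveI : Algebra.FormallyUnramified B (Localization.AtPrime P) :=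
      Algebra.FormallyUnramified.of_equiv ((IsLocalization.algEquiv P₀.primeCompl (Localization.AtPrime P₀)
        (Localization.AtPrime P)).restrictScalars B)
    exact Algebra.FormallyUnramified.of_restrictScalars B R _
  have hdisj : Disjoint (S : Set C) (Q : Set C) := Set.disjoint_left.2 (by
    rintro _ ⟨s, hs, rfl⟩ h
    exact hs (hq ▸ h))
  let Q' := Q.map (algebraMap C Cq)
  haveI : Q'.IsPrime := IsLocalization.isPrime_of_isPrime_disjoint S Cq Q ‹_› hdisj
  haveI : IsLocalization.AtPrime (Localization.AtPrime Q') Q := by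
    convert IsLocalization.isLocalization_isLocalization_atPrime_isLocalization S (Localization.AtPrime Q') Q'
    exact (IsLocalization.under_map_of_isPrime_disjoint S Cq ‹_› hdisj).symm
  haveI : Algebra.FormallyEtale B R := Algebra.FormallyEtale.of_isLocalization q.primeCompl
  haveI : Algebra.FormallyEtale B Cq := Algebra.FormallyEtale.comp B R Cq
  haveI : Algebra.FormallyEtale Cq (Localization.AtPrime Q') := Algebra.FormallyEtale.of_isLocalization Q'.primeCompl
  haveI : Algebra.FormallyEtale B (Localization.AtPrime Q') := Algebra.FormallyEtale.comp B Cq _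
  exact Algebra.FormallyEtale.of_equiv ((IsLocalization.algEquiv Q.primeCompl (Localization.AtPrime Q')
    (Localization.AtPrime Q)).restrictScalars B)

/-- **Covers of the henselized line which are unramified in codimension one and split on the zero section are
trivial.** -/
theorem finrank_eq_one_of_unramified {A : Type u} [CommRing A] [IsDomain A] [IsNoetherianRing A]
    [IsIntegrallyClosed A] [HenselianLocalRing A] (P : Ideal (Polynomial A)) [P.IsPrime]
    (hP : P = (maximalIdeal A).map Polynomial.C ⊔ Ideal.span {Polynomial.X})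
    (B : Type u) [CommRing B] [HenselianLocalRing B] [Algebra (Localization.AtPrime P) B]
    [IsLocalHom (algebraMap (Localization.AtPrime P) B)] [_root_.Hensel.IsHenselization (Localization.AtPrime P) B]
    (ι : B →+* PowerSeries A) [IsLocalHom ι] (hι : ι.Flat) (hιc : ∀ x, ι (lineMap P B x) = PowerSeries.C x)
    (F M : Type u) [Field F] [Algebra B F] [IsFractionRing B F] [Field M] [Algebra F M] [FiniteDimensional F M]
    [Algebra.IsSeparable F M] [Algebra B M] [IsScalarTower B F M]
    (C : Type u) [CommRing C] [Algebra B C] [Algebra C M] [IsScalarTower B C M] [IsIntegralClosure C B M]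
    (hunr : ∀ (Q : Ideal C) [Q.IsPrime], Q.height ≤ 1 → Algebra.IsUnramifiedAt B Q)
    (ψ : Fin (Module.finrank F M) → (C →+* A)) (hψ : Function.Injective ψ)
    (hψB : ∀ k b, ψ k (algebraMap B C b) = PowerSeries.constantCoeff (ι b)) :
    Module.finrank F M = 1 := by
  classical
  haveI := isNoetherianRing_line P B
  haveI := isDomain ι hι
  haveI := isIntegrallyClosed ι hι
  have hj : ∀ x, ι (lineMap P B x) = PowerSeries.C x := hιc
  haveI : Module.Finite B C := IsIntegralClosure.finite B F M C
  have hinjC : Function.Injective (algebraMap C M) := IsIntegralClosure.algebraMap_injective C B M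
  haveI : IsDomain C := hinjC.isDomain _
  haveI : IsFractionRing C M := IsIntegralClosure.isFractionRing_of_finite_extension B F M C
  haveI : IsIntegrallyClosed C := (isIntegrallyClosed_iff M).2 fun {x} hx =>
    (IsIntegralClosure.isIntegral_iff (A := C) (R := B) (B := M)).1 (isIntegral_trans x hx)
  haveI : FaithfulSMul B C := (faithfulSMul_iff_algebraMap_injective B C).2 fun x y h => by
    have h2 := congrArg (algebraMap C M) h
    rw [← IsScalarTower.algebraMap_apply, ← IsScalarTower.algebraMap_apply, IsScalarTower.algebraMap_apply B F M,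
      IsScalarTower.algebraMap_apply B F M] at h2
    exact IsFractionRing.injective B F ((algebraMap F M).injective h2)
  haveI : IsNoetherianRing C := IsNoetherianRing.of_finite B C
  haveI : Algebra.FinitePresentation B C := Algebra.FinitePresentation.of_finiteType.1 inferInstance
  let φ : A →+* C := (algebraMap B C).comp (lineMap P B)
  let I : Ideal C := PrimeSpectrum.vanishingIdeal (Algebra.etaleLocus B C)ᶜ
  have hI : PrimeSpectrum.zeroLocus (I : Set C) = (Algebra.etaleLocus B C)ᶜ := by
    rw [PrimeSpectrum.zeroLocus_vanishingIdeal_eq_closure, IsClosed.closure_eq Algebra.isOpen_etaleLocus.isClosed_compl]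
  let J : Ideal A := I.comap φ
  have hlow : ∀ (Q : Ideal C) [Q.IsPrime], (Q.comap φ).height ≤ 1 → ¬ I ≤ Q := fun Q _ hQ hle => by
    have h1 := isEtaleAt_of_height_le_one (M := M) hunr Q (Q.under B) rfl
      (isRegularLocalRing_line P B (Q.under B) hQ)
    have h2 : (⟨Q, ‹_›⟩ : PrimeSpectrum C) ∈ PrimeSpectrum.zeroLocus (I : Set C) := hle
    rw [hI] at h2
    exact h2 h1
  have hJ : ∀ p : Ideal A, p.IsPrime → p.height ≤ 1 → ¬ J ≤ p := fun p hp hp1 hle => by
    have hIrad : I.radical = I := Ideal.radical_eq_iff.2 (PrimeSpectrum.isRadical_vanishingIdeal _)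
    have hfin := I.finite_minimalPrimes_of_isNoetherianRing
    have h1 : hfin.toFinset.inf (fun Q => Q.comap φ) ≤ p := by
      refine le_trans ?_ hle
      intro a ha
      show φ a ∈ I
      rw [← hIrad, ← Ideal.sInf_minimalPrimes, Submodule.mem_sInf]
      intro Q hQ
      have h2 := Finset.inf_le (f := fun Q : Ideal C => Q.comap φ) (hfin.mem_toFinset.2 hQ) ha
      exact h2
    obtain ⟨Q, hQ, hQp⟩ := (hp.inf_le').1 h1
    haveI := (hfin.mem_toFinset.1 hQ).1.1
    exact hlow Q ((Ideal.height_mono hQp).trans hp1) (hfin.mem_toFinset.1 hQ).1.2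
  obtain ⟨s, hs⟩ := (IsNoetherian.noetherian J : J.FG)
  let t := s.filter fun a => a ≠ 0
  let α : Fin t.card → A := fun i => (t.equivFin.symm i).1
  have hα : ∀ p : Ideal A, p.IsPrime → p.height ≤ 1 → ∃ i, α i ∉ p := fun p hp hp1 => by
    by_contra! h
    refine hJ p hp hp1 (hs ▸ Ideal.span_le.2 fun a ha => ?_)
    rcases eq_or_ne a 0 with rfl | ha0
    · exact p.zero_mem
    · have := h (t.equivFin ⟨a, Finset.mem_filter.2 ⟨ha, ha0⟩⟩)
      simpa [α] using this
  obtain ⟨i₀, -⟩ := hα ⊥ Ideal.isPrime_bot (by simp)
  refine finrank_eq_one ι hι (lineMap P B) hj α (extendsFrac_of_height α hα) i₀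
    (fun i => (Finset.mem_filter.1 (t.equivFin.symm i).2).2) F M C (fun i => ?_) ψ hψ hψB
  refine Algebra.basicOpen_subset_etaleLocus_iff.1 fun Q hQ => ?_
  by_contra hQ'
  have h1 : Q ∈ PrimeSpectrum.zeroLocus (I : Set C) := hI ▸ hQ'
  exact (PrimeSpectrum.mem_basicOpen _ _).1 hQ (h1 (hs ▸ Ideal.subset_span (Finset.mem_filter.1 (t.equivFin.symm i).2).1 :
    α i ∈ J))

end Groth.Agent.HenLineLib
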