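import Groth.Agent.Henselization.Properties
import Groth.Agent.Henselization.Transfer
import Groth.Agent.Henselization.Basic
import Groth.Agent.Hensel.Basic
import Groth.Agent.NagataLib.PowerSeries
import Mathlib.RingTheory.MvPowerSeries.Equiv
import Mathlib.RingTheory.AdicCompletion.AsTensorProduct
import Mathlib.RingTheory.Flat.EquationalCriterion
import Mathlib.RingTheory.RingHom.Flat
import Mathlib.RingTheory.PowerSeries.Inverse

/-!
# The henselized affine line maps faithfully flatly to power series
-/

set_option autoImplicit false
set_option linter.style.haveILetI false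

universe u

open IsLocalRing

noncomputable section

namespace Groth.Agent.HenLineLib

/-- Polynomials are flat in power series. -/
theorem flat_coeToPowerSeries (A : Type u) [CommRing A] [IsNoetherianRing A] :
    (Polynomial.coeToPowerSeries.ringHom (R := A)).Flat := by
  let e0 : Polynomial A →+* MvPolynomial Unit A := (MvPolynomial.uniqueAlgEquiv A Unit).symm.toRingEquiv.toRingHom
  let I := MvPolynomial.idealOfVars Unit A
  let e1 : AdicCompletion I (MvPolynomial Unit A) →+* PowerSeries A :=
    (MvPowerSeries.toAdicCompletionAlgEquiv Unit A).toRingEquiv.symm.toRingHom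
  have h : Polynomial.coeToPowerSeries.ringHom (R := A) =
      (e1.comp (algebraMap (MvPolynomial Unit A) (AdicCompletion I (MvPolynomial Unit A)))).comp e0 := by
    have key : ∀ p : MvPolynomial Unit A, e1 (algebraMap _ _ p) = (p : MvPowerSeries Unit A) := fun p => by
      apply (MvPowerSeries.toAdicCompletionAlgEquiv Unit A).toRingEquiv.injective
      rw [show (MvPowerSeries.toAdicCompletionAlgEquiv Unit A).toRingEquiv (e1 (algebraMap _ _ p)) = algebraMap _ _ p from
        RingEquiv.apply_symm_apply _ _]
      exact (MvPowerSeries.toAdicCompletion_coe p).symm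
    refine Polynomial.ringHom_ext (fun a => ?_) ?_
    · rw [RingHom.comp_apply, RingHom.comp_apply, key, show e0 (Polynomial.C a) = MvPolynomial.C a from
        (MvPolynomial.uniqueAlgEquiv A Unit).symm.commutes a, MvPolynomial.coe_C]
      exact Polynomial.coe_C a
    · rw [RingHom.comp_apply, RingHom.comp_apply, key, show e0 Polynomial.X = MvPolynomial.X () from by simp [e0],
        MvPolynomial.coe_X]
      exact Polynomial.coe_X
  rw [h]
  exact (RingHom.Flat.of_bijective (MvPolynomial.uniqueAlgEquiv A Unit).symm.bijective).comp
    (RingHom.Flat.comp (RingHom.flat_algebraMap_iff.2 inferInstance)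
      (RingHom.Flat.of_bijective (MvPowerSeries.toAdicCompletionAlgEquiv Unit A).toRingEquiv.symm.bijective))

/-- Power series over a henselian local ring form a henselian local ring. -/
theorem henselianLocalRing_powerSeries (A : Type u) [CommRing A] [HenselianLocalRing A] :
    HenselianLocalRing (PowerSeries A) := by
  let I : Ideal (PowerSeries A) := Ideal.span {PowerSeries.X}
  haveI : IsAdicComplete I (PowerSeries A) := NagataLib.isAdicComplete_X A
  haveI : HenselianRing (PowerSeries A) I := IsAdicComplete.henselianRing _ _
  let c : PowerSeries A →+* A := PowerSeries.constantCoeff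
  have hc : Function.Surjective c := fun a => ⟨PowerSeries.C a, PowerSeries.constantCoeff_C a⟩
  have hker : RingHom.ker c = I := by
    ext x; rw [RingHom.mem_ker, Ideal.mem_span_singleton, PowerSeries.X_dvd_iff]
  let e : A ≃+* PowerSeries A ⧸ I := (RingHom.quotientKerEquivOfSurjective hc).symm.trans (Ideal.quotEquivOfEq hker)
  have hle : I ≤ maximalIdeal (PowerSeries A) := by
    rw [← hker]; exact le_maximalIdeal (RingHom.ker_ne_top c)
  have hmap : (maximalIdeal (PowerSeries A)).map (Ideal.Quotient.mk I) = (maximalIdeal A).map (e : A →+* _) := by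
    haveI : ((maximalIdeal A).map (e : A →+* PowerSeries A ⧸ I)).IsMaximal :=
      (Ideal.isMaximal_map_iff_of_bijective _ e.bijective).2 inferInstance
    haveI : IsLocalRing (PowerSeries A ⧸ I) := e.isLocalRing
    haveI : ((maximalIdeal (PowerSeries A)).map (Ideal.Quotient.mk I)).IsMaximal :=
      (Ideal.map_eq_top_or_isMaximal_of_surjective _ Ideal.Quotient.mk_surjective inferInstance).resolve_left fun h => by
        have := congrArg (Ideal.comap (Ideal.Quotient.mk I)) h
        rw [Ideal.comap_map_of_surjective' _ Ideal.Quotient.mk_surjective, Ideal.mk_ker, sup_eq_left.2 hle,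
          Ideal.comap_top] at this
        exact (maximalIdeal.isMaximal (PowerSeries A)).ne_top this
    exact (eq_maximalIdeal inferInstance).trans (eq_maximalIdeal inferInstance).symm
  haveI : HenselianRing (PowerSeries A ⧸ I) ((maximalIdeal (PowerSeries A)).map (Ideal.Quotient.mk I)) := by
    rw [hmap]
    exact Hensel.of_ringEquiv e
  exact (Hensel.henselianRing_maximalIdeal_iff).1 (Hensel.of_quotient hle)

/-- The henselized line maps to power series by a local flat map. -/
theorem exists_toPowerSeries (A : Type u) [CommRing A] [HenselianLocalRing A] [IsNoetherianRing A]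
    (P : Ideal (Polynomial A)) [P.IsPrime] (hP : P = (maximalIdeal A).map Polynomial.C ⊔ Ideal.span {Polynomial.X})
    (B : Type u) [CommRing B] [IsLocalRing B] [Algebra (Localization.AtPrime P) B]
    [IsLocalHom (algebraMap (Localization.AtPrime P) B)] [_root_.Hensel.IsHenselization (Localization.AtPrime P) B] :
    ∃ ι : B →+* PowerSeries A, IsLocalHom ι ∧ ι.Flat ∧ ∀ f : Polynomial A,
      ι (algebraMap (Localization.AtPrime P) B (algebraMap (Polynomial A) (Localization.AtPrime P) f)) = (f : PowerSeries A) := by
  let R₀ := Localization.AtPrime P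
  haveI := henselianLocalRing_powerSeries A
  let c : Polynomial A →+* PowerSeries A := Polynomial.coeToPowerSeries.ringHom
  have hmax : ∀ s : Polynomial A, c s ∈ maximalIdeal (PowerSeries A) ↔ s.coeff 0 ∈ maximalIdeal A := fun s => by
    rw [mem_maximalIdeal, mem_maximalIdeal, mem_nonunits_iff, mem_nonunits_iff, PowerSeries.isUnit_iff_constantCoeff]
    simp [c, Polynomial.constantCoeff_coe]
  have hPmem : ∀ s : Polynomial A, s ∈ P ↔ s.coeff 0 ∈ maximalIdeal A := fun s => by
    constructor
    · intro hs
      suffices P ≤ (maximalIdeal A).comap Polynomial.constantCoeff from this hs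
      rw [hP, sup_le_iff, Ideal.map_le_iff_le_comap, Ideal.span_singleton_le_iff_mem]
      exact ⟨fun a ha => by simpa using ha, by simp⟩
    · intro hs
      rw [hP, ← Polynomial.X_mul_divX_add s]
      exact Submodule.add_mem _
        (Ideal.mul_mem_right _ _ (Ideal.mem_sup_right (Ideal.mem_span_singleton_self _)))
        (Ideal.mem_sup_left (Ideal.mem_map_of_mem _ hs))
  have hu : ∀ s : P.primeCompl, IsUnit (c s) := fun s => by
    by_contra h
    exact s.2 ((hPmem s).2 ((hmax s).1 ((mem_maximalIdeal _).2 h)))
  let f : R₀ →+* PowerSeries A := IsLocalization.lift (M := P.primeCompl) hu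
  haveI hf : IsLocalHom f := ⟨fun x hx => by
    obtain ⟨p, s, rfl⟩ := IsLocalization.exists_mk'_eq P.primeCompl x
    rw [IsLocalization.AtPrime.isUnit_mk'_iff (S := R₀) P]
    intro hp
    rw [IsLocalization.lift_mk', Units.isUnit_mul_units] at hx
    exact (mem_maximalIdeal _).1 ((hmax p).2 ((hPmem p).1 hp)) hx⟩
  obtain ⟨ι, hι, -⟩ := _root_.Hensel.IsHenselization.universal (R := R₀) (S := B) (PowerSeries A) f hf
  have hιc : ∀ p, ι (algebraMap R₀ B (algebraMap (Polynomial A) R₀ p)) = c p := fun p => by
    rw [← RingHom.comp_apply ι, hι]; exact IsLocalization.lift_eq _ p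
  refine ⟨ι, ?_, ?_, hιc⟩
  · refine ((local_hom_TFAE ι).out 0 2 rfl rfl).2 ?_
    obtain ⟨e⟩ := Henselization.exists_algEquiv_of_isHenselization R₀ B
    rw [← Henselization.map_maximalIdeal_of_equiv e, Ideal.map_map, hι]
    exact ((local_hom_TFAE f).out 0 2 rfl rfl).1 hf
  · obtain ⟨e⟩ := Henselization.exists_algEquiv_of_isHenselization R₀ B
    let ε : Henselization.HenselizationRing R₀ →+* B := e.toRingEquiv.toRingHom
    suffices (ι.comp ε).Flat by
      have h2 := (RingHom.Flat.of_bijective (f := e.toRingEquiv.symm.toRingHom) e.toRingEquiv.symm.bijective).comp this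
      convert h2
      ext b
      simp [ε]
    let η := ι.comp ε
    have hηf : η.comp (algebraMap R₀ _) = f := by
      ext r
      simp [η, ε, ← hι]
    letI : Algebra R₀ (PowerSeries A) := f.toAlgebra
    haveI : Module.Flat R₀ (PowerSeries A) := by
      letI : Algebra (Polynomial A) (PowerSeries A) := c.toAlgebra
      haveI : IsScalarTower (Polynomial A) R₀ (PowerSeries A) :=
        IsScalarTower.of_algebraMap_eq fun p => (IsLocalization.lift_eq hu p).symm
      haveI : Module.Flat (Polynomial A) (PowerSeries A) := flat_coeToPowerSeries A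
      exact (Module.flat_iff_of_isLocalization R₀ P.primeCompl _).2 inferInstance
    letI : Algebra (Henselization.HenselizationRing R₀) (PowerSeries A) := η.toAlgebra
    show Module.Flat (Henselization.HenselizationRing R₀) (PowerSeries A)
    classical
    refine Module.Flat.of_forall_isTrivialRelation fun {l g x} hgx => ?_
    obtain ⟨i, hi⟩ := Henselization.exists_lift_finset (Finset.univ.image g)
    choose y hy using fun k => hi (g k) (Finset.mem_image_of_mem g (Finset.mem_univ k))
    letI : Algebra i.L (PowerSeries A) := (η.comp (Henselization.ι i).toRingHom).toAlgebra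
    haveI : IsScalarTower R₀ i.L (PowerSeries A) := IsScalarTower.of_algebraMap_eq fun r => by
      show f r = η (Henselization.ι i (algebraMap R₀ i.L r))
      rw [AlgHom.commutes, ← RingHom.comp_apply η, hηf]
    haveI := i.etale
    haveI : Algebra.FormallyUnramified i.S i.L :=
      Algebra.FormallyUnramified.of_isLocalization (Rₘ := Localization.AtPrime i.q) i.q.primeCompl
    haveI : Algebra.FormallyUnramified R₀ i.L := Algebra.FormallyUnramified.comp R₀ i.S i.L
    haveI : IsLocalization i.q.primeCompl i.L := Localization.isLocalization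
    haveI : Algebra.EssFiniteType i.S i.L := Algebra.EssFiniteType.of_isLocalization i.L i.q.primeCompl
    haveI : Algebra.EssFiniteType R₀ i.L := Algebra.EssFiniteType.comp R₀ i.S i.L
    haveI : Module.Flat i.L (PowerSeries A) := Algebra.FormallyUnramified.flat_of_restrictScalars R₀ i.L _
    obtain ⟨k, a, z, hz, ha⟩ := Module.Flat.isTrivialRelation_of_sum_smul_eq_zero (R := i.L) (f := y) (x := x) (by
      rw [← hgx]
      refine Finset.sum_congr rfl fun j _ => ?_
      rw [Algebra.smul_def, Algebra.smul_def, ← hy j]
      rfl)
    refine ⟨k, fun p q => Henselization.ι i (a p q), z, fun p => ?_, fun q => ?_⟩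
    · rw [hz p]
      refine Finset.sum_congr rfl fun q _ => ?_
      rw [Algebra.smul_def, Algebra.smul_def]
      rfl
    · simp only [← hy, ← map_mul, ← map_sum, ha q, map_zero]

end Groth.Agent.HenLineLib
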