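import Groth.Agent.HenLineLib.Union
import Groth.Agent.HenLineLib.Setup
import Groth.Agent.MoriLib.Main

/-!
# Comparison of the henselized lines over two stages
-/

set_option autoImplicit false
set_option linter.style.haveILetI false
set_option backward.isDefEq.respectTransparency false

universe u

open IsLocalRing Polynomial

noncomputable section

namespace Groth.Agent.HenLineLib

variable {R : Type u} [CommRing R] [IsLocalRing R]

/-- The comparison map between the henselized lines over two subrings, compatible with power series. -/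
theorem exists_compare [IsDomain R] (P : Ideal R[X]) [P.IsPrime]
    (B : Type u) [CommRing B] [IsDomain B] [IsLocalRing B] [Algebra (Localization.AtPrime P) B]
    [IsLocalHom (algebraMap (Localization.AtPrime P) B)] [_root_.Hensel.IsHenselization (Localization.AtPrime P) B]
    {A A' : Subring R} (hle : A ≤ A') [IsIntegrallyClosed A'] [IsLocalRing A] [IsLocalRing A'] [HenselianLocalRing A']
    [IsLocalHom A.subtype]
    (ι : lineAt P A →+* PowerSeries A) [IsLocalHom ι]
    (hιc : ∀ f : A[X], ι (polyMap (originAt P A) (lineAt P A) f) = (f : PowerSeries A))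
    (ι' : lineAt P A' →+* PowerSeries A') [IsLocalHom ι']
    (hι'c : ∀ f : A'[X], ι' (polyMap (originAt P A') (lineAt P A') f) = (f : PowerSeries A')) :
    ∃ g : lineAt P A →+* lineAt P A', IsLocalHom g ∧ (lineHom P B A').comp g = lineHom P B A ∧
      (∀ f : A[X], g (polyMap (originAt P A) (lineAt P A) f) =
        polyMap (originAt P A') (lineAt P A') (f.map (Subring.inclusion hle))) ∧
      ∀ b, ι' (g b) = PowerSeries.map (Subring.inclusion hle) (ι b) := by
  have hinj := lineHom_injective P B A'
  choose g hg using fun b : lineAt P A => range_lineHom_mono P B hle ⟨b, rfl⟩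
  let G : lineAt P A →+* lineAt P A' :=
    { toFun := g
      map_one' := hinj (by rw [hg, map_one, map_one])
      map_mul' := fun p q => hinj (by rw [hg, map_mul, map_mul, hg, hg])
      map_zero' := hinj (by rw [hg, map_zero, map_zero])
      map_add' := fun p q => hinj (by rw [hg, map_add, map_add, hg, hg]) }
  have hcomp : (lineHom P B A').comp G = lineHom P B A := RingHom.ext hg
  haveI hGl : IsLocalHom G := by
    haveI : IsLocalHom ((lineHom P B A').comp G) := by rw [hcomp]; infer_instance
    exact ⟨fun a ha => IsLocalHom.map_nonunit (f := (lineHom P B A').comp G) a (ha.map (lineHom P B A'))⟩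
  have hpoly : ∀ f : A[X], G (polyMap (originAt P A) (lineAt P A) f) =
      polyMap (originAt P A') (lineAt P A') (f.map (Subring.inclusion hle)) := fun f => hinj (by
    rw [← RingHom.comp_apply, hcomp, lineHom_poly, lineHom_poly, Polynomial.map_map]
    rfl)
  refine ⟨G, hGl, hcomp, hpoly, RingHom.congr_fun (g := (PowerSeries.map (Subring.inclusion hle)).comp ι) (f := ι'.comp G) ?_⟩
  haveI := henselianLocalRing_powerSeries A'
  let φ := (ι'.comp G).comp (algebraMap (Localization.AtPrime (originAt P A)) (lineAt P A))
  haveI : IsLocalHom φ := by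
    haveI : IsLocalHom (ι'.comp G) := RingHom.isLocalHom_comp _ _
    exact RingHom.isLocalHom_comp _ _
  refine (_root_.Hensel.IsHenselization.universal (R := Localization.AtPrime (originAt P A)) (S := lineAt P A)
    (PowerSeries A') φ inferInstance).unique rfl ?_
  refine IsLocalization.ringHom_ext (originAt P A).primeCompl (RingHom.ext fun f => ?_)
  show PowerSeries.map (Subring.inclusion hle) (ι (polyMap (originAt P A) (lineAt P A) f)) =
    ι' (G (polyMap (originAt P A) (lineAt P A) f))
  rw [hιc, hpoly, hι'c]
  ext n
  rw [PowerSeries.coeff_map, Polynomial.coeff_coe, Polynomial.coeff_coe, Polynomial.coeff_map]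

/-- A prime of height one of a Noetherian normal domain is locally generated by one of its elements. -/
theorem exists_local_generator {A : Type u} [CommRing A] [IsDomain A] [IsNoetherianRing A] [IsIntegrallyClosed A]
    (p : Ideal A) [p.IsPrime] (hp : p.height = 1) :
    ∃ π ∈ p, π ≠ 0 ∧ ∀ a ∈ p, ∃ s c : A, s ∉ p ∧ s * a = c * π := by
  haveI := AbhyankarAbs.isDVR_of_height_one p hp
  let L := Localization.AtPrime p
  obtain ⟨ϖ, hϖ⟩ := IsDiscreteValuationRing.exists_irreducible L
  obtain ⟨π, s, hs⟩ := IsLocalization.exists_mk'_eq p.primeCompl ϖ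
  have hπ : algebraMap A L π = ϖ * algebraMap A L s := by rw [← hs, IsLocalization.mk'_spec]
  refine ⟨π, ?_, fun h => hϖ.ne_zero ?_, fun a ha => ?_⟩
  · rw [← IsLocalization.AtPrime.to_map_mem_maximal_iff L p, hπ, hϖ.maximalIdeal_eq]
    exact Ideal.mul_mem_right _ _ (Ideal.mem_span_singleton_self ϖ)
  · rw [← hs, h, IsLocalization.mk'_zero]
  · have h1 : algebraMap A L a ∈ maximalIdeal L := (IsLocalization.AtPrime.to_map_mem_maximal_iff L p a).2 ha
    rw [hϖ.maximalIdeal_eq, Ideal.mem_span_singleton] at h1
    obtain ⟨w, hw⟩ := h1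
    obtain ⟨c, t, ht⟩ := IsLocalization.exists_mk'_eq p.primeCompl w
    refine ⟨(s : A) * t, c, fun h => ((‹p.IsPrime›.mem_or_mem h).elim s.2 t.2), ?_⟩
    apply IsLocalization.injective L p.primeCompl_le_nonZeroDivisors
    rw [map_mul, map_mul, map_mul, hw, hπ, ← IsLocalization.mk'_spec L c t, ht]
    ring

/-- The primes of height one containing a nonzero element are finitely many. -/
theorem finite_height_one {A : Type u} [CommRing A] [IsDomain A] [IsNoetherianRing A] {f : A} (hf : f ≠ 0) :
    {p : Ideal A | p.IsPrime ∧ p.height = 1 ∧ f ∈ p}.Finite := by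
  refine (Ideal.finite_minimalPrimes_of_isNoetherianRing A (Ideal.span {f})).subset ?_
  rintro p ⟨hp, hp1, hfp⟩
  refine ⟨⟨hp, Ideal.span_le.2 (Set.singleton_subset_iff.2 hfp)⟩, fun q ⟨hq, hfq⟩ hle => ?_⟩
  refine ((MoriLib.htOne_of_height hp1).2.2 q hq (fun h => hf ?_) hle).ge
  simpa [h] using hfq (Ideal.mem_span_singleton_self f)

end Groth.Agent.HenLineLib
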