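import Groth.Agent.HenLineLib.Galois
import Groth.Prelude.Def_FEt
import Mathlib.AlgebraicGeometry.Morphisms.FlatMono
import Mathlib.AlgebraicGeometry.Morphisms.Separated

/-!
# Connected Galois covers of a normal domain without Galois extensions are trivial
-/

set_option autoImplicit false
set_option linter.style.haveILetI false
set_option backward.isDefEq.respectTransparency false
set_option maxHeartbeats 1000000

universe u

open CategoryTheory CategoryTheory.Limits AlgebraicGeometry

noncomputable section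

namespace Groth.Agent.HenLineLib

/-- A finite étale connected scheme with a section is the base. -/
theorem isIso_of_section {X Y : Scheme.{u}} (h : Y ⟶ X) [IsFinite h] [AlgebraicGeometry.Etale h] [ConnectedSpace Y]
    [Nonempty X] (s : X ⟶ Y) (hs : s ≫ h = 𝟙 X) : IsIso h := by
  haveI : AlgebraicGeometry.Etale (s ≫ h) := by rw [hs]; infer_instance
  haveI : AlgebraicGeometry.Etale s := AlgebraicGeometry.Etale.of_comp s h
  haveI : IsClosedImmersion (s ≫ h) := by rw [hs]; infer_instance
  haveI : IsClosedImmersion s := IsClosedImmersion.of_comp s h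
  haveI : IsOpenImmersion s := IsOpenImmersion.of_flat_of_mono s
  have hr : Set.range s = Set.univ :=
    IsClopen.eq_univ ⟨s.isClosedEmbedding.isClosed_range, s.isOpenEmbedding.isOpen_range⟩ (Set.range_nonempty _)
  haveI : IsIso s := isIso_of_isOpenImmersion_of_opensRange_eq_top s (TopologicalSpace.Opens.ext hr)
  have he : h = inv s := by
    rw [← cancel_epi s, hs, IsIso.hom_inv_id]
  rw [he]
  infer_instance

/-- A finite étale surjection to a normal domain without Galois extensions, with a group of automorphisms which is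
transitive on geometric fibres, has a section. -/
theorem exists_section_of_galois {L F : Type u} [CommRing L] [IsDomain L] [IsIntegrallyClosed L] [Field F]
    [Algebra L F] [IsFractionRing L F] {W : Scheme.{u}} (h : W ⟶ Spec (CommRingCat.of L)) [IsFinite h]
    [AlgebraicGeometry.Etale h] [Surjective h] (G : Type*) [Group G] (c : G → (W ⟶ W)) (hc : ∀ g, c g ≫ h = h)
    (hmul : ∀ g g', c (g * g') = c g ≫ c g')
    (htrans : ∀ (Ω : Type u) [Field Ω] [IsAlgClosed Ω] (s s' : Spec (CommRingCat.of Ω) ⟶ W), s ≫ h = s' ≫ h →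
      ∃ g, s ≫ c g = s')
    (hN : NoGaloisExt L F (Nat.card G)) : ∃ s : Spec (CommRingCat.of L) ⟶ W, s ≫ h = 𝟙 _ := by
  haveI : IsAffine W := isAffine_of_isAffineHom h
  let g : CommRingCat.of L ⟶ Γ(W, ⊤) := Spec.preimage (W.isoSpec.inv ≫ h)
  have hg : Spec.map g = W.isoSpec.inv ≫ h := Spec.map_preimage _
  haveI : AlgebraicGeometry.Etale (Spec.map g) := by rw [hg]; infer_instance
  haveI : IsFinite (Spec.map g) := by rw [hg]; infer_instance
  haveI : Surjective (Spec.map g) := by rw [hg]; infer_instance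
  letI : Algebra L Γ(W, ⊤) := g.hom.toAlgebra
  haveI : Algebra.Etale L Γ(W, ⊤) :=
    RingHom.etale_algebraMap.1 ((HasRingHomProperty.Spec_iff (P := @AlgebraicGeometry.Etale)).1 inferInstance)
  haveI : Module.Finite L Γ(W, ⊤) := RingHom.finite_algebraMap.1 ((IsFinite.SpecMap_iff g).1 inferInstance)
  haveI : FaithfulSMul L Γ(W, ⊤) := (faithfulSMul_iff_algebraMap_injective L Γ(W, ⊤)).2 (by
    rw [injective_iff_map_eq_zero]
    intro a ha
    by_contra h0
    obtain ⟨w, hw⟩ := ‹Surjective (Spec.map g)›.surj (⟨⊥, Ideal.isPrime_bot⟩ : PrimeSpectrum L)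
    have hmem : a ∈ ((Spec.map g) w).asIdeal := by
      show g.hom a ∈ w.asIdeal
      rw [show g.hom a = 0 from ha]
      exact zero_mem _
    rw [hw] at hmem
    exact h0 ((Submodule.mem_bot L).1 hmem))
  let τE : G → (Γ(W, ⊤) ⟶ Γ(W, ⊤)) := fun x => Spec.preimage (W.isoSpec.inv ≫ c x ≫ W.isoSpec.hom)
  have hτE : ∀ x, Spec.map (τE x) = W.isoSpec.inv ≫ c x ≫ W.isoSpec.hom := fun x => Spec.map_preimage _
  have hcomm : ∀ x, g ≫ τE x = g := fun x => Spec.map_injective (by
    rw [Spec.map_comp, hτE, hg]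
    simp only [Category.assoc, Iso.hom_inv_id_assoc, hc])
  let τA : G → (Γ(W, ⊤) →ₐ[L] Γ(W, ⊤)) := fun x =>
    { (τE x).hom with commutes' := fun r => ConcreteCategory.congr_hom (hcomm x) r }
  obtain ⟨r, hr⟩ := exists_retraction (F := F) Γ(W, ⊤) G hN τA (fun a b => by
    have h1 : τE (a * b) = τE b ≫ τE a := Spec.map_injective (by
      rw [Spec.map_comp, hτE, hτE, hτE, hmul]
      simp)
    refine AlgHom.ext fun x => ?_
    exact ConcreteCategory.congr_hom h1 x) (fun x y hxy => by
    obtain ⟨a, ha⟩ := htrans _ (Spec.map (CommRingCat.ofHom x) ≫ W.isoSpec.inv)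
      (Spec.map (CommRingCat.ofHom y) ≫ W.isoSpec.inv) (by
        rw [Category.assoc, Category.assoc, ← hg, ← Spec.map_comp, ← Spec.map_comp]
        exact congrArg Spec.map (CommRingCat.hom_ext hxy))
    refine ⟨a, ?_⟩
    have h1 : τE a ≫ CommRingCat.ofHom x = CommRingCat.ofHom y := Spec.map_injective (by
      rw [Spec.map_comp, hτE, ← Category.assoc, ← Category.assoc, ha,
        Category.assoc, Iso.inv_hom_id, Category.comp_id])
    exact congrArg CommRingCat.Hom.hom h1)
  refine ⟨Spec.map (CommRingCat.ofHom r) ≫ W.isoSpec.inv, ?_⟩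
  rw [Category.assoc, ← hg, ← Spec.map_comp, show g ≫ CommRingCat.ofHom r = 𝟙 _ from CommRingCat.hom_ext hr,
    Spec.map_id]

/-- A connected finite étale cover of a normal domain without Galois extensions, with a transitive group of
automorphisms, is trivial. -/
theorem isIso_of_galois {L F : Type u} [CommRing L] [IsDomain L] [IsIntegrallyClosed L] [Field F] [Algebra L F]
    [IsFractionRing L F] {Z : Scheme.{u}} (e : Spec (CommRingCat.of L) ≅ Z) (Y : FEt.Cat Z) [ConnectedSpace Y.left]
    (hgal : ∀ (Ω : Type u) [Field Ω] [IsAlgClosed Ω] (ξ : Spec (CommRingCat.of Ω) ⟶ Z)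
      (s s' : FEt.fiberObj ξ Y), ∃ σ : Aut Y, (FEt.fiber ξ).map σ.hom s = s')
    (hN : NoGaloisExt L F (Nat.card (Aut Y))) : IsIso Y.hom := by
  haveI : IsFinite Y.hom := Y.prop.1
  haveI : AlgebraicGeometry.Etale Y.hom := Y.prop.2
  let W := Y.left
  let h : W ⟶ Spec (CommRingCat.of L) := Y.hom ≫ e.inv
  haveI : ConnectedSpace ↥W := ‹ConnectedSpace ↥Y.left›
  haveI : AlgebraicGeometry.Etale h := inferInstance
  haveI : IsFinite h := inferInstance
  suffices hh : IsIso h by
    haveI := hh
    exact IsIso.of_isIso_comp_right Y.hom e.inv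
  haveI : Nonempty ↥(Spec (CommRingCat.of L)) := ⟨(⟨⊥, Ideal.isPrime_bot⟩ : PrimeSpectrum L)⟩
  haveI : PreconnectedSpace ↥(Spec (CommRingCat.of L)) :=
    inferInstanceAs (PreconnectedSpace (PrimeSpectrum L))
  haveI : Surjective h := ⟨Set.range_eq_univ.1 (IsClopen.eq_univ
    ⟨h.isClosedMap.isClosed_range, h.isOpenMap.isOpen_range⟩ (Set.range_nonempty _))⟩
  obtain ⟨s, hs⟩ := exists_section_of_galois (F := F) h (Aut Y) (fun x => x.inv.left) (fun x => by
      show x.inv.left ≫ Y.hom ≫ e.inv = Y.hom ≫ e.inv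
      rw [← Category.assoc, MorphismProperty.Over.w])
    (fun a b => by
      show (a.inv ≫ b.inv).left = _
      rfl)
    (fun Ω _ _ s s' hss => by
      obtain ⟨σ, hσ⟩ := hgal Ω (s ≫ Y.hom) ⟨s, rfl⟩ ⟨s', by
        rw [← cancel_mono e.inv, Category.assoc, Category.assoc]
        exact hss.symm⟩
      exact ⟨σ⁻¹, congrArg Subtype.val hσ⟩) hN
  exact isIso_of_section h s hs

end Groth.Agent.HenLineLib
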