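import Groth.Agent.PropPi1.LimBC
import Groth.Agent.DimFormulaLib.LocalDim
import Groth.Agent.S0646
import Groth.Agent.S0101
import Mathlib.RingTheory.AlgebraicIndependent.TranscendenceBasis

/-!
# Constant sheaves on limits of affine curves

An algebra of transcendence degree at most one over a field is the union of finitely generated subalgebras, which
are affine curves.  So vanishing for affine curves passes to it.
-/

set_option autoImplicit false
set_option linter.style.haveILetI false
set_option backward.isDefEq.respectTransparency false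
set_option backward.isDefEq.respectTransparency.types false
set_option maxHeartbeats 1000000
set_option synthInstance.maxHeartbeats 400000

universe u

open CategoryTheory CategoryTheory.Limits AlgebraicGeometry Opposite

noncomputable section

namespace Groth.Agent.HenLineLib

attribute [local instance] Groth.Agent.S0101.result

/-- Finitely generated subalgebras of an algebra of transcendence degree at most one have dimension at most one. -/
theorem ringKrullDim_le_one {K Γ : Type u} [Field K] [CommRing Γ] [IsDomain Γ] [Algebra K Γ]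
    (htr : Algebra.trdeg K Γ ≤ 1) (S : Subalgebra K Γ) (hS : S.FG) : ringKrullDim S ≤ 1 := by
  haveI : Algebra.FiniteType K S := (Subalgebra.fg_iff_finiteType S).1 hS
  have h1 : Algebra.trdeg K S ≤ 1 := (trdeg_le_of_injective S.val Subtype.val_injective).trans htr
  obtain ⟨n, hn⟩ := Cardinal.lt_aleph0.1 (lt_of_le_of_lt h1 Cardinal.one_lt_aleph0)
  rw [DimFormulaLib.ringKrullDim_eq_trdeg K n hn]
  rw [hn] at h1
  exact_mod_cast h1

/-- **Vanishing for affine curves passes to algebras of transcendence degree at most one.** -/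
theorem subsingleton_H_of_trdeg_le_one {K Γ : Type u} [Field K] [CommRing Γ] [IsDomain Γ] [Algebra K Γ]
    (htr : Algebra.trdeg K Γ ≤ 1) (M : Type) [AddCommGroup M] (q : ℕ)
    (hcd : ∀ (X : Scheme.{u}) [IsAffine X] (f : X ⟶ Spec (CommRingCat.of K)) [LocallyOfFiniteType f],
      topologicalKrullDim X ≤ 1 → Subsingleton (EtCoh.H X (EtCoh.const X M) q)) :
    Subsingleton (EtCoh.H (Spec (CommRingCat.of Γ)) (EtCoh.const _ M) q) := by
  let Xs := PropPi1.fgSys K Γ
  let c := PropPi1.fgCone K Γ
  obtain ⟨i₀⟩ : Nonempty (PropPi1.FgIdx K Γ) := inferInstance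
  haveI : ∀ a, IsAffine (Xs.obj a) := fun a => inferInstanceAs (IsAffine ((PropPi1.fgSys K Γ).obj a))
  let F₀ := EtCoh.const (Xs.obj (op i₀)) M
  have hvan : ∀ j, Subsingleton (EtCoh.H (Xs.obj (op j)) (EtCoh.const _ M) q) := fun j => by
    haveI : Algebra.FiniteType K j.1 := (Subalgebra.fg_iff_finiteType j.1).1 j.2
    let f := (PropPi1.fgToBase K Γ).app (op j)
    haveI : LocallyOfFiniteType f :=
      (HasRingHomProperty.Spec_iff (P := @LocallyOfFiniteType)).2 (RingHom.finiteType_algebraMap.2 ‹_›)
    refine hcd _ f ?_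
    exact (PrimeSpectrum.topologicalKrullDim_eq_ringKrullDim j.1).trans_le (ringKrullDim_le_one htr j.1 j.2)
  suffices hs : Subsingleton (EtCoh.H c.pt ((EtCoh.pull (c.π.app (op i₀))).obj F₀) q) from
    @Function.Injective.subsingleton _ _ _ (ConcreteCategory.bijective_of_isIso
      ((EtCoh.HF c.pt q).map (EtCore.pullConst (c.π.app (op i₀)) M).inv)).1 hs
  refine subsingleton_of_forall_eq 0 fun x => ?_
  obtain ⟨j, hj, y, rfl⟩ := (S0646.result Xs (fun _ _ φ => inferInstanceAs (IsAffineHom ((PropPi1.fgSys K Γ).map φ)))
    (fun a => inferInstance) (fun a => inferInstance) c (PropPi1.isLimitFgCone K Γ) i₀ F₀ q).1 x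
  haveI := hvan j
  haveI : Subsingleton (EtCoh.H (Xs.obj (op j)) ((EtCoh.pull (Xs.map (homOfLE hj).op)).obj F₀) q) :=
    @Function.Injective.subsingleton _ _ _ (ConcreteCategory.bijective_of_isIso
      ((EtCoh.HF (Xs.obj (op j)) q).map (EtCore.pullConst (Xs.map (homOfLE hj).op) M).hom)).1 (hvan j)
  rw [Subsingleton.elim y 0, map_zero]

end Groth.Agent.HenLineLib
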