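import Groth.Agent.HenLineLib.Split
import Groth.Agent.Hensel.Local
import Mathlib.FieldTheory.Galois.Basic
import Mathlib.FieldTheory.PrimitiveElement
import Mathlib.RingTheory.Unramified.Field
import Mathlib.RingTheory.Unramified.Finite
import Mathlib.LinearAlgebra.TensorProduct.Basis
import Mathlib.RingTheory.PowerBasis
import Mathlib.Algebra.Polynomial.Eval.Irreducible

/-!
# Descent of a Galois extension to a subfield, and separability of specializations
-/

set_option autoImplicit false
set_option linter.style.haveILetI false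
set_option backward.isDefEq.respectTransparency false

universe u

open TensorProduct Polynomial IntermediateField

noncomputable section

namespace Groth.Agent.HenLineLib

section Fields

variable {F₁ F M : Type u} [Field F₁] [Field F] [Field M] [Algebra F₁ F] [Algebra F M] [Algebra F₁ M]
  [IsScalarTower F₁ F M]

/-- Values of polynomials with coefficients in the subfield. -/
theorem mem_adjoin_of_lifts (θ : M) {q : F[X]} (hq : q ∈ Polynomial.lifts (algebraMap F₁ F)) :
    aeval θ q ∈ F₁⟮θ⟯ := by
  obtain ⟨q₁, rfl⟩ := hq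
  rw [coe_mapRingHom, aeval_map_algebraMap]
  exact algebra_adjoin_le_adjoin F₁ _ (Polynomial.aeval_mem_adjoin_singleton F₁ θ)

variable [FiniteDimensional F M] (θ : M) (hθ : F⟮θ⟯ = ⊤) (hg : minpoly F θ ∈ Polynomial.lifts (algebraMap F₁ F))

include hg in
/-- The minimal polynomial descends. -/
theorem exists_minpoly_map : IsIntegral F₁ θ ∧ (minpoly F₁ θ).map (algebraMap F₁ F) = minpoly F θ := by
  have hi : IsIntegral F θ := IsIntegral.of_finite F θ
  obtain ⟨q, hq, -, hqm⟩ := Polynomial.lifts_and_degree_eq_and_monic hg (minpoly.monic hi)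
  have h0 : aeval θ q = 0 := by
    rw [← aeval_map_algebraMap F θ q, hq, minpoly.aeval]
  refine ⟨⟨q, hqm, by rwa [← aeval_def]⟩, ?_⟩
  have hirr : Irreducible q := by
    have hirr' : Irreducible (q.map (algebraMap F₁ F)) := hq ▸ minpoly.irreducible hi
    exact Polynomial.Monic.irreducible_of_irreducible_map (algebraMap F₁ F) q hqm hirr'
  rw [← minpoly.eq_of_irreducible_of_monic hirr h0 hqm, hq]

include hθ hg in
/-- The degree is unchanged. -/
theorem finrank_adjoin_eq : Module.finrank F₁ F₁⟮θ⟯ = Module.finrank F M := by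
  obtain ⟨hi, hmap⟩ := exists_minpoly_map θ hg
  rw [adjoin.finrank hi, ← natDegree_map (algebraMap F₁ F), hmap, ← adjoin.finrank (IsIntegral.of_finite F θ), hθ,
    IntermediateField.finrank_top']

include hg in
theorem finiteDimensional_adjoin_theta : FiniteDimensional F₁ F₁⟮θ⟯ :=
  adjoin.finiteDimensional (exists_minpoly_map θ hg).1

variable [IsGalois F M] (hroots : ∀ r : M, aeval r (minpoly F θ) = 0 →
  ∃ q ∈ Polynomial.lifts (algebraMap F₁ F), aeval θ q = r)

include hg hroots in
/-- The descended extension is Galois. -/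
theorem isGalois_adjoin : IsGalois F₁ F₁⟮θ⟯ := by
  obtain ⟨hi, hmap⟩ := exists_minpoly_map θ hg
  have hsep : (minpoly F₁ θ).Separable := by
    rw [← Polynomial.separable_map (algebraMap F₁ F), hmap]
    exact Algebra.IsSeparable.isSeparable F θ
  have hspl : ((minpoly F₁ θ).map (algebraMap F₁ M)).Splits := by
    rw [IsScalarTower.algebraMap_eq F₁ F M, ← Polynomial.map_map, hmap]
    exact Normal.splits inferInstance θ
  have heq : adjoin F₁ ((minpoly F₁ θ).rootSet M) = F₁⟮θ⟯ := by
    refine le_antisymm (adjoin_le_iff.2 fun r hr => ?_) (adjoin_simple_le_iff.2 (subset_adjoin F₁ _ ?_))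
    · have hr' : aeval r (minpoly F θ) = 0 := by
        rw [← hmap, aeval_map_algebraMap]
        exact (Polynomial.mem_rootSet.1 hr).2
      obtain ⟨q, hq, rfl⟩ := hroots r hr'
      exact mem_adjoin_of_lifts θ hq
    · rw [Polynomial.mem_rootSet]
      exact ⟨minpoly.ne_zero hi, minpoly.aeval F₁ θ⟩
  have := IntermediateField.adjoin_rootSet_isSplittingField hspl
  rw [heq] at this
  haveI := this
  exact IsGalois.of_separable_splitting_field hsep

include hθ hg in
/-- The tensor square of the descended extension embeds. -/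
theorem exists_tensor_injective : ∃ Φ : F₁⟮θ⟯ ⊗[F₁] F₁⟮θ⟯ →ₐ[F₁] M ⊗[F] M,
    Function.Injective Φ ∧ ∀ a b, Φ (a ⊗ₜ b) = (a : M) ⊗ₜ[F] (b : M) := by
  let M₁ := F₁⟮θ⟯
  let v : M₁ →ₐ[F₁] M := M₁.val
  let Φ : M₁ ⊗[F₁] M₁ →ₐ[F₁] M ⊗[F] M := Algebra.TensorProduct.lift
    ((Algebra.TensorProduct.includeLeft (S := F) (A := M) (B := M)).restrictScalars F₁ |>.comp v)
    ((Algebra.TensorProduct.includeRight (R := F) (A := M) (B := M)).restrictScalars F₁ |>.comp v)
    fun _ _ => Commute.all _ _
  have hΦ : ∀ a b, Φ (a ⊗ₜ b) = (a : M) ⊗ₜ[F] (b : M) := fun a b => by simp [Φ, v]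
  refine ⟨Φ, ?_, hΦ⟩
  obtain ⟨hi, hmap⟩ := exists_minpoly_map θ hg
  let b₁ := (adjoin.powerBasis hi).basis
  have hd : (minpoly F θ).natDegree = (adjoin.powerBasis hi).dim := by
    rw [adjoin.powerBasis_dim, ← natDegree_map (algebraMap F₁ F), hmap]
  have hli : LinearIndependent F fun k : Fin (adjoin.powerBasis hi).dim => ((b₁ k : M₁) : M) := by
    have h := (linearIndependent_pow (K := F) θ).comp (Fin.cast hd.symm) (Fin.cast_injective _)
    convert h using 1
    funext k
    simp [b₁]
  have hspan : Fintype.card (Fin (adjoin.powerBasis hi).dim) = Module.finrank F M := by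
    rw [Fintype.card_fin, ← hd, ← adjoin.finrank (IsIntegral.of_finite F θ), hθ, IntermediateField.finrank_top']
  haveI : Nonempty (Fin (adjoin.powerBasis hi).dim) := ⟨⟨0, (adjoin.powerBasis hi).dim_pos⟩⟩
  let b := basisOfLinearIndependentOfCardEqFinrank hli hspan
  have hli2 : LinearIndependent F₁ fun p => Φ (b₁.tensorProduct b₁ p) := by
    have h := (b.tensorProduct b).linearIndependent.restrict_scalars (R := F₁) (by
      intro x y h
      exact (algebraMap F₁ F).injective (by simpa [Algebra.smul_def] using h))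
    convert h using 1
    funext p
    obtain ⟨k, l⟩ := p
    rw [Module.Basis.tensorProduct_apply, Module.Basis.tensorProduct_apply, hΦ]
    simp [b]
  rw [injective_iff_map_eq_zero]
  intro z hz
  apply (b₁.tensorProduct b₁).repr.injective
  ext p
  rw [map_zero, Finsupp.zero_apply]
  have h2 : ∑ p, (b₁.tensorProduct b₁).repr z p • Φ (b₁.tensorProduct b₁ p) = 0 := by
    rw [← Module.Basis.sum_repr (b₁.tensorProduct b₁) z, map_sum] at hz; simpa only [map_smul] using hz
  exact Fintype.linearIndependent_iff.1 hli2 _ h2 p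

include hθ hg in
/-- Annihilation descends to the subfield. -/
theorem annihilate_descend {n : ℕ} (x y : Fin n → F₁⟮θ⟯)
    (h : ∀ z : M, ((1 : M) ⊗ₜ[F] z - z ⊗ₜ[F] (1 : M)) * ∑ i, (y i : M) ⊗ₜ[F] (x i : M) = 0) (z : F₁⟮θ⟯) :
    ((1 : F₁⟮θ⟯) ⊗ₜ[F₁] z - z ⊗ₜ[F₁] (1 : F₁⟮θ⟯)) * ∑ i, y i ⊗ₜ[F₁] x i = 0 := by
  obtain ⟨Φ, hΦi, hΦ⟩ := exists_tensor_injective θ hθ hg
  apply hΦi
  rw [map_mul, map_sub, map_zero, map_sum, hΦ, hΦ]
  simp only [hΦ]
  exact h z

end Fields

section Separable

/-- The annihilated elements are closed under inverses. -/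
theorem annihilate_inverse {K E : Type u} [CommRing K] [CommRing E] [Algebra K E] (w : E ⊗[K] E) {p q : E}
    (hpq : p * q = 1) (h : ((1 : E) ⊗ₜ[K] p - p ⊗ₜ[K] (1 : E)) * w = 0) :
    ((1 : E) ⊗ₜ[K] q - q ⊗ₜ[K] (1 : E)) * w = 0 := by
  have e : (1 : E) ⊗ₜ[K] q - q ⊗ₜ[K] (1 : E) = -((q ⊗ₜ[K] q) * ((1 : E) ⊗ₜ[K] p - p ⊗ₜ[K] (1 : E))) := by
    rw [mul_sub, Algebra.TensorProduct.tmul_mul_tmul, Algebra.TensorProduct.tmul_mul_tmul, mul_one, mul_comm q p,
      hpq, neg_sub]
  rw [e, neg_mul, mul_assoc, h, mul_zero, neg_zero]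

/-- The annihilated elements are closed under products. -/
theorem annihilate_mul {K E : Type u} [CommRing K] [CommRing E] [Algebra K E] (w : E ⊗[K] E) {p q : E}
    (hp : ((1 : E) ⊗ₜ[K] p - p ⊗ₜ[K] (1 : E)) * w = 0) (hq : ((1 : E) ⊗ₜ[K] q - q ⊗ₜ[K] (1 : E)) * w = 0) :
    ((1 : E) ⊗ₜ[K] (p * q) - (p * q) ⊗ₜ[K] (1 : E)) * w = 0 := by
  rw [show (1 : E) ⊗ₜ[K] (p * q) - (p * q) ⊗ₜ[K] (1 : E) =
      ((1 : E) ⊗ₜ[K] p) * ((1 : E) ⊗ₜ[K] q - q ⊗ₜ[K] (1 : E)) +
        (q ⊗ₜ[K] (1 : E)) * ((1 : E) ⊗ₜ[K] p - p ⊗ₜ[K] (1 : E)) by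
    simp only [mul_sub, Algebra.TensorProduct.tmul_mul_tmul, one_mul, mul_one, mul_comm q p]; abel,
    add_mul, mul_assoc, hq, mul_zero, mul_assoc, hp, mul_zero, add_zero]

/-- The image of a separability element after inverting the factor. -/
theorem exists_image_sepElem {B C K E : Type u} [CommRing B] [CommRing C] [Algebra B C] [CommRing K] [CommRing E]
    [Algebra K E] [Algebra B K] [Algebra B E] [IsScalarTower B K E] {b : B} {t : C ⊗[B] C} (ht : IsSepElem B b t)
    (η : C →ₐ[B] E) (u : E) (hu : u * algebraMap B E b = 1) :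
    ∃ w : E ⊗[K] E, Algebra.TensorProduct.lmul' K w = 1 ∧
      ∀ c, ((1 : E) ⊗ₜ[K] η c - η c ⊗ₜ[K] (1 : E)) * w = 0 := by
  let h : C ⊗[B] C →ₐ[B] E ⊗[K] E := Algebra.TensorProduct.lift
    (((Algebra.TensorProduct.includeLeft (S := K) (A := E) (B := E)).restrictScalars B).comp η)
    (((Algebra.TensorProduct.includeRight (R := K) (A := E) (B := E)).restrictScalars B).comp η)
    fun _ _ => Commute.all _ _
  have e : ((Algebra.TensorProduct.lmul' K).restrictScalars B).comp h = η.comp (Algebra.TensorProduct.lmul' B) := by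
    ext <;> simp [h]
  refine ⟨(u ⊗ₜ[K] (1 : E)) * h t, ?_, fun c => ?_⟩
  · rw [map_mul, show Algebra.TensorProduct.lmul' K (h t) = η (Algebra.TensorProduct.lmul' B t) from
      AlgHom.congr_fun e t, ht.lmul, AlgHom.commutes, Algebra.TensorProduct.lmul'_apply_tmul, mul_one, hu]
  · have h1 := congrArg h (ht.annihilate c)
    rw [map_mul, map_sub, map_zero] at h1
    rw [mul_left_comm]
    simp only [h, Algebra.TensorProduct.lift_tmul, map_one, mul_one, one_mul, AlgHom.comp_apply,
      AlgHom.restrictScalars_apply, Algebra.TensorProduct.includeLeft_apply,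
      Algebra.TensorProduct.includeRight_apply] at h1
    rw [h1, mul_zero]

/-- A field generated by annihilated elements is unramified. -/
theorem formallyUnramified_of_generated {K E : Type u} [Field K] [Field E] [Algebra K E] [FiniteDimensional K E]
    {G : Set E} (hG : IntermediateField.adjoin K G = ⊤) (w : E ⊗[K] E)
    (hw1 : Algebra.TensorProduct.lmul' K w = 1) (hw : ∀ g ∈ G, ((1 : E) ⊗ₜ[K] g - g ⊗ₜ[K] (1 : E)) * w = 0) :
    Algebra.FormallyUnramified K E := by
  refine Algebra.FormallyUnramified.iff_exists_tensorProduct.2 ⟨w, fun s => ?_, hw1⟩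
  have hs : s ∈ IntermediateField.adjoin K G := hG ▸ IntermediateField.mem_top
  induction hs using IntermediateField.adjoin_induction with
  | mem x hx => exact hw x hx
  | algebraMap r => rw [← Algebra.TensorProduct.tmul_one_eq_one_tmul, sub_self, zero_mul]
  | add x y _ _ hx hy => rw [tmul_add, add_tmul, add_sub_add_comm, add_mul, hx, hy, add_zero]
  | inv x _ hx =>
    rcases eq_or_ne x 0 with rfl | hx0
    · rw [inv_zero, tmul_zero, zero_tmul, sub_zero, zero_mul]
    exact annihilate_inverse w (mul_inv_cancel₀ hx0) hx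
  | mul x y _ _ hx hy => exact annihilate_mul w hx hy

/-- Specializations of an algebra with a separability element are separable. -/
theorem isSeparable_of_sepElem {B C KA L : Type u} [CommRing B] [CommRing C] [Algebra B C] [Algebra.FiniteType B C]
    [Algebra.IsIntegral B C] [Field KA] [Field L] [Algebra KA L] (ε : B →+* KA) {b : B} {t : C ⊗[B] C}
    (ht : IsSepElem B b t) (hb : ε b ≠ 0) (χ : C →+* L) (hχ : ∀ x, χ (algebraMap B C x) = algebraMap KA L (ε x))
    (c : C) : IsSeparable KA (χ c) := by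
  classical
  letI : Algebra B KA := ε.toAlgebra
  letI : Algebra B L := ((algebraMap KA L).comp ε).toAlgebra
  haveI : IsScalarTower B KA L := IsScalarTower.of_algebraMap_eq' rfl
  let χ' : C →ₐ[B] L := { χ with commutes' := hχ }
  obtain ⟨gens, hgens⟩ := (inferInstance : Algebra.FiniteType B C).1
  obtain ⟨E, hEdef⟩ : ∃ E : IntermediateField KA L, E = adjoin KA (χ '' (gens : Set C)) := ⟨_, rfl⟩
  haveI : FiniteDimensional KA E := by
    rw [hEdef]
    haveI : Finite (χ '' (gens : Set C)) := ((gens.finite_toSet).image χ).to_subtype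
    exact IntermediateField.finiteDimensional_adjoin fun x hx => by
      obtain ⟨g, -, rfl⟩ := hx
      exact ((Algebra.IsIntegral.isIntegral (R := B) g).map χ').tower_top
  have hgen : ∀ g ∈ gens, χ g ∈ E := fun g hg => by rw [hEdef]; exact subset_adjoin KA _ ⟨g, hg, rfl⟩
  have hmem : ∀ c, χ c ∈ E := fun c => by
    have hc : c ∈ Algebra.adjoin B (gens : Set C) := hgens ▸ Algebra.mem_top
    induction hc using Algebra.adjoin_induction with
    | mem x hx => exact hgen x hx
    | algebraMap r => rw [hχ]; exact E.algebraMap_mem _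
    | add x y _ _ hx hy => rw [map_add]; exact add_mem hx hy
    | mul x y _ _ hx hy => rw [map_mul]; exact mul_mem hx hy
  letI : Algebra B E := ((algebraMap KA E).comp ε).toAlgebra
  haveI : IsScalarTower B KA E := IsScalarTower.of_algebraMap_eq' rfl
  let η : C →ₐ[B] E :=
    { toFun := fun c => ⟨χ c, hmem c⟩
      map_one' := Subtype.ext (map_one χ)
      map_mul' := fun p q => Subtype.ext (map_mul χ p q)
      map_zero' := Subtype.ext (map_zero χ)
      map_add' := fun p q => Subtype.ext (map_add χ p q)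
      commutes' := fun r => Subtype.ext (hχ r) }
  obtain ⟨w, hw1, hw⟩ := exists_image_sepElem (K := KA) ht η (algebraMap KA E (ε b))⁻¹
    (inv_mul_cancel₀ ((map_ne_zero_iff _ (algebraMap KA E).injective).2 hb))
  haveI : Algebra.FormallyUnramified KA E := by
    refine formallyUnramified_of_generated (G := η '' (gens : Set C)) (IntermediateField.lift_injective E ?_) w hw1 ?_
    · rw [IntermediateField.lift_adjoin, IntermediateField.lift_top, ← Set.image_comp]
      exact hEdef.symm
    · rintro _ ⟨g, -, rfl⟩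
      exact hw g
  haveI : Algebra.IsSeparable KA E := Algebra.FormallyUnramified.isSeparable KA E
  have hx : (minpoly KA (⟨χ c, hmem c⟩ : E)).Separable := Algebra.IsSeparable.isSeparable KA _
  rw [← minpoly.algHom_eq E.val (fun p q h => Subtype.ext h) (⟨χ c, hmem c⟩ : E), IntermediateField.val_mk] at hx
  exact hx

/-- A finite domain over a henselian local ring is local. -/
theorem isLocalRing_of_finite_domain (A B : Type u) [CommRing A] [HenselianLocalRing A] [CommRing B] [IsDomain B]
    [Algebra A B] [Module.Finite A B] : IsLocalRing B := by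
  obtain ⟨J, _, Cj, _, hloc, ⟨e⟩⟩ := Hensel.exists_pi_local_of_henselian A B
  haveI : IsDomain (∀ k, Cj k) := e.toMulEquiv.symm.isDomain
  haveI := hloc
  classical
  haveI : Nonempty J := by
    by_contra hJ
    rw [not_nonempty_iff] at hJ
    exact one_ne_zero (α := ∀ k, Cj k) (Subsingleton.elim _ _)
  haveI : Subsingleton J := ⟨fun p q => by
    by_contra hpq
    have h0 : (Pi.single p (1 : Cj p) : ∀ k, Cj k) * Pi.single q (1 : Cj q) = 0 := funext fun k => by
      rcases eq_or_ne k p with rfl | hk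
      · simp [hpq]
      · simp [hk]
    rcases mul_eq_zero.1 h0 with h | h
    · exact one_ne_zero (α := Cj p) (by simpa using congrFun h p)
    · exact one_ne_zero (α := Cj q) (by simpa using congrFun h q)⟩
  let p := Classical.arbitrary J
  haveI : Unique J := uniqueOfSubsingleton p
  exact ((RingEquiv.piUnique Cj).symm.trans e.symm).isLocalRing

end Separable

end Groth.Agent.HenLineLib
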