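import Groth.Agent.HenLineLib.Stage
import Groth.Agent.HenLineLib.Descent
import Groth.Agent.Hensel.Idempotent
import Mathlib.RingTheory.DedekindDomain.IntegralClosure
import Mathlib.FieldTheory.SeparableClosure

/-!
# Finite separable extensions of stages
-/

set_option autoImplicit false
set_option linter.style.haveILetI false
set_option backward.isDefEq.respectTransparency false

universe u

open IsLocalRing

noncomputable section

namespace Groth.Agent.HenLineLib

/-- The fraction field of an absolutely integrally closed domain is algebraically closed. -/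
theorem isAlgClosed_fractionRing {R : Type u} [CommRing R] [IsDomain R] (hR : AICCover.MonicRoot R) (K : Type u)
    [Field K] [Algebra R K] [IsFractionRing R K] : IsAlgClosed K :=
  (hR.of_isLocalization (nonZeroDivisors R) (S := K)).isAlgClosed

/-- A finite local algebra over a henselian local ring is henselian. -/
theorem henselianLocalRing_of_finite (A B : Type u) [CommRing A] [HenselianLocalRing A] [CommRing B] [IsLocalRing B]
    [Algebra A B] [Module.Finite A B] : HenselianLocalRing B := by
  rw [← Hensel.henselianRing_maximalIdeal_iff]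
  haveI := Hensel.of_isIntegral (I := maximalIdeal A) B
  refine Hensel.of_le_radical (I := (maximalIdeal A).map (algebraMap A B)) ?_
  rw [Ideal.radical_eq_sInf]
  refine le_sInf fun P ⟨hP, hPp⟩ => ?_
  have hm : (P.comap (algebraMap A B)).IsMaximal := by
    rw [← (maximalIdeal.isMaximal A).eq_of_le (Ideal.comap_ne_top _ hPp.ne_top) (Ideal.map_le_iff_le_comap.1 hP)]
    exact maximalIdeal.isMaximal A
  exact (eq_maximalIdeal (Ideal.isMaximal_of_isIntegral_of_isMaximal_comap P hm)).ge

/-- Separable integral elements lie in a finite extension of the stage. -/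
theorem exists_stage_ext {R : Type u} [CommRing R] [IsDomain R] [IsLocalRing R] (hR : AICCover.MonicRoot R)
    (A : Subring R) (hA : IsStage A) [Algebra (FractionRing A) (FractionRing R)]
    (hcomp : ∀ a : A, algebraMap (FractionRing A) (FractionRing R) (algebraMap A (FractionRing A) a) =
      algebraMap R (FractionRing R) a)
    (V : Finset R) (hV : ∀ v ∈ V, IsSeparable (FractionRing A) (algebraMap R (FractionRing R) v) ∧ A.subtype.IsIntegralElem v) :
    ∃ (A' : Subring R) (hle : A ≤ A'), IsStage A' ∧ (Subring.inclusion hle).Finite ∧ ↑V ⊆ (A' : Set R) := by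
  classical
  let K := FractionRing R
  let KA := FractionRing A
  haveI := hA.noetherian
  haveI := hA.integrallyClosed
  haveI := hA.henselian
  haveI := hA.isLocalHom
  haveI : IsScalarTower A KA K := IsScalarTower.of_algebraMap_eq fun a => (hcomp a).symm
  obtain ⟨E, hE⟩ : ∃ E : IntermediateField KA K, E = IntermediateField.adjoin KA ((algebraMap R K) '' (V : Set R)) :=
    ⟨_, rfl⟩
  haveI : Algebra.IsSeparable KA E := by
    rw [hE, IntermediateField.isSeparable_adjoin_iff_isSeparable]
    rintro _ ⟨v, hv, rfl⟩
    exact (hV v hv).1
  haveI : FiniteDimensional KA E := by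
    rw [hE]
    haveI : Finite ((algebraMap R K) '' (V : Set R)) := (V.finite_toSet.image _).to_subtype
    refine IntermediateField.finiteDimensional_adjoin ?_
    rintro _ ⟨v, hv, rfl⟩
    exact (hV v hv).1.isIntegral
  haveI : IsScalarTower A KA E := inferInstance
  let S : Subalgebra A R :=
    integralClosure A R ⊓ (E.toSubalgebra.restrictScalars A).comap (IsScalarTower.toAlgHom A R K)
  have hS : ∀ x : R, x ∈ S ↔ IsIntegral A x ∧ algebraMap R K x ∈ E := fun x => Iff.rfl
  have hSint : Algebra.IsIntegral A S := ⟨fun x =>
    (isIntegral_algHom_iff S.val Subtype.val_injective).1 ((hS x).1 x.2).1⟩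
  letI : Algebra S E :=
    ({ toFun := fun x => ⟨algebraMap R K x, ((hS x).1 x.2).2⟩
       map_one' := Subtype.ext (map_one (algebraMap R K))
       map_mul' := fun p q => Subtype.ext (map_mul (algebraMap R K) p.1 q.1)
       map_zero' := Subtype.ext (map_zero (algebraMap R K))
       map_add' := fun p q => Subtype.ext (map_add (algebraMap R K) p.1 q.1) } : S →+* E).toAlgebra
  have hSE : ∀ x : S, ((algebraMap S E x : E) : K) = algebraMap R K x := fun x => rfl
  have hAE : ∀ a : A, ((algebraMap A E a : E) : K) = algebraMap R K a := fun a => by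
    rw [IsScalarTower.algebraMap_apply A KA E]; exact hcomp a
  haveI : IsScalarTower A S E := IsScalarTower.of_algebraMap_eq fun a => Subtype.ext ((hAE a).trans (hSE (algebraMap A S a)).symm)
  haveI : IsIntegralClosure S A E :=
    { algebraMap_injective := fun p q h => Subtype.ext (IsFractionRing.injective R K (congrArg Subtype.val h))
      isIntegral_iff := fun {y} => by
        constructor
        · intro hy
          let v : E →ₐ[A] K := (E.val).restrictScalars A
          have hyK : IsIntegral A (y : K) := hy.map v
          obtain ⟨x, hx⟩ := hR.mem_range (hyK.tower_top (A := R))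
          have hxi : IsIntegral A x := by
            refine (isIntegral_algHom_iff (IsScalarTower.toAlgHom A R K) (IsFractionRing.injective R K)).1 ?_
            rwa [IsScalarTower.coe_toAlgHom', hx]
          exact ⟨⟨x, (hS x).2 ⟨hxi, hx ▸ y.2⟩⟩, Subtype.ext hx⟩
        · rintro ⟨x, rfl⟩
          exact (hSint.isIntegral x).map (IsScalarTower.toAlgHom A S E) }
  haveI : Module.Finite A S := IsIntegralClosure.finite A KA E S
  haveI : IsFractionRing S E := IsIntegralClosure.isFractionRing_of_finite_extension A KA E S
  haveI : IsIntegrallyClosed S := (isIntegrallyClosed_iff E).2 fun {x} hx =>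
    (IsIntegralClosure.isIntegral_iff (A := S) (R := A) (B := E)).1 (isIntegral_trans x hx)
  haveI : IsNoetherianRing S := IsNoetherianRing.of_finite A S
  haveI : IsLocalRing S := isLocalRing_of_finite_domain A S
  haveI : HenselianLocalRing S := henselianLocalRing_of_finite A S
  have hle : A ≤ S.toSubring := fun a ha => S.algebraMap_mem ⟨a, ha⟩
  refine ⟨S.toSubring, hle, ⟨‹IsNoetherianRing S›, ‹IsIntegrallyClosed S›, ‹HenselianLocalRing S›, ⟨fun x hx => ?_⟩⟩,
    ?_, fun v hv => ?_⟩
  · let p : Ideal S := (maximalIdeal R).comap S.val.toRingHom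
    haveI : p.IsPrime := Ideal.IsPrime.comap _
    have hp : p.comap (algebraMap A S) = maximalIdeal A := by
      ext a
      show algebraMap A R a ∈ maximalIdeal R ↔ _
      exact ⟨fun h hu => h (hu.map A.subtype), fun h => map_nonunit A.subtype a h⟩
    have hpm : p.IsMaximal := Ideal.isMaximal_of_isIntegral_of_isMaximal_comap p
      (hp.symm ▸ maximalIdeal.isMaximal A)
    by_contra hxu
    have hxm : (x : S) ∈ p := (eq_maximalIdeal hpm).symm ▸ (mem_maximalIdeal _).2 hxu
    exact hxm hx
  · have : (algebraMap A S).Finite := RingHom.finite_algebraMap.2 inferInstance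
    exact this
  · refine (hS v).2 ⟨(hV v hv).2, ?_⟩
    rw [hE]
    exact IntermediateField.subset_adjoin KA _ ⟨v, hv, rfl⟩

end Groth.Agent.HenLineLib
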