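import Groth.Agent.HenLineLib.Key
import Groth.Agent.SmoothBCLib.ClosedPoint

/-!
# The key input of smooth base change holds
-/

set_option autoImplicit false
set_option linter.style.haveILetI false
set_option backward.isDefEq.respectTransparency false
set_option backward.isDefEq.respectTransparency.types false

universe u

noncomputable section

namespace Groth.Agent.HenLineLib

/-- The key statement. -/
theorem henLineKey : SmoothBCLib.HenLineKey.{u} :=
  fun R _ _ _ hR P _ hP B _ _ _ _ _ K _ _ _ d hd q hq => subsingleton_H_henselLine R hR P hP B K d hd q hq

end Groth.Agent.HenLineLib
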