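import Groth.Agent.HenLineLib.GeomFibreRing
import Groth.Agent.HenLineLib.KeyHolds
import Groth.Agent.SmoothBCLib.Invariance
import Groth.Agent.GeomIrred.Basic

/-!
# Geometric fibres of the henselized line
-/

set_option autoImplicit false
set_option linter.style.haveILetI false
set_option backward.isDefEq.respectTransparency false
set_option backward.isDefEq.respectTransparency.types false
set_option maxHeartbeats 1000000

universe u

open CategoryTheory CategoryTheory.Limits AlgebraicGeometry IsLocalRing Polynomial Opposite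

noncomputable section

namespace Groth.Agent.HenLineLib

attribute [local instance] Groth.Agent.S0101.result

/-- Cohomology of `ℤ/ℓ` is unchanged by extensions of separably closed fields. -/
theorem subsingleton_H_const_ext_iff {k k' : Type u} [Field k] [IsSepClosed k] [Field k'] [IsSepClosed k']
    (i : k →+* k') {X : Scheme.{u}} (a : X ⟶ Spec (CommRingCat.of k)) (ℓ : ℕ) (hℓ : ℓ.Prime) (hk : (ℓ : k) ≠ 0)
    (q : ℕ) :
    Subsingleton (EtCoh.H (pullback a (Spec.map (CommRingCat.ofHom i))) (EtCoh.const _ (ZMod ℓ)) q) ↔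
      Subsingleton (EtCoh.H X (EtCoh.const X (ZMod ℓ)) q) := by
  let g := pullback.fst a (Spec.map (CommRingCat.ofHom i))
  have hmem : ℓ ∈ EtAcyc.primesInvertibleOn (Spec (CommRingCat.of k)) := by
    rw [SmoothBCLib.primesInvertibleOn_spec_field]
    exact ⟨hℓ, fun h => hk (h ▸ ringChar.Nat.cast_ringChar)⟩
  have hF : EtAcyc.IsLTorsion (EtAcyc.primesInvertibleOn (Spec (CommRingCat.of k))) (EtCoh.const X (ZMod ℓ)) :=
    CompBCLib.isLTorsion_of_killedBy ⟨hℓ.pos, fun p hp hd => (Nat.prime_dvd_prime_iff_eq hp hℓ).1 hd ▸ hmem⟩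
      (PBCLib.killedBy_const X ℓ)
  haveI : PreservesFiniteLimits (EtCoh.pull g) := Groth.Agent.S0101.result g
  exact Equiv.subsingleton_congr ((AddEquiv.ofBijective _
    (SmoothBCLib.bijective_Hpull_sepClosed_ext henLineKey i a (EtCoh.const X (ZMod ℓ)) hF q)).trans
      ((EtCoh.HF _ q).mapIso (EtCore.pullConst g (ZMod ℓ))).addCommGroupIsoToAddEquiv).toEquiv.symm

section

variable (A : Type u) [CommRing A] [HenselianLocalRing A]
  (P : Ideal A[X]) [P.IsPrime] (hP : P = (maximalIdeal A).map C ⊔ Ideal.span {X})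
  (B : Type u) [CommRing B] [IsLocalRing B] [Algebra (Localization.AtPrime P) B]
  [IsLocalHom (algebraMap (Localization.AtPrime P) B)] [_root_.Hensel.IsHenselization (Localization.AtPrime P) B]

include hP

/-- The cohomology of a geometric fibre vanishes in invertible degrees. -/
theorem subsingleton_H_geomFibre (K : Type u) [Field K] [IsAlgClosed K] [Algebra A K] (𝔭 : Ideal A) [𝔭.IsPrime]
    [Algebra 𝔭.ResidueField K] [IsScalarTower A 𝔭.ResidueField K] [Algebra.IsAlgebraic 𝔭.ResidueField K]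
    (d : ℕ) (hd : IsUnit (d : A)) (q : ℕ) (hq : 0 < q) : Subsingleton (EtCoh.H
        (pullback (Spec.map (CommRingCat.ofHom ((polyMap P B).comp C))) (Spec.map (CommRingCat.ofHom (algebraMap A K))))
        (EtCoh.const _ (ZMod d)) q) := by
  let R := integralClosure A K
  haveI : IsLocalRing R := isLocalRing_integralClosure A K
  haveI : IsLocalHom (algebraMap A R) := isLocalHom_integralClosure A K
  haveI : IsFractionRing R K := isFractionRing_integralClosure A K 𝔭
  have hR : AICCover.MonicRoot R := monicRoot_integralClosure A K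
  obtain ⟨P', hP'max, B', _, _, _, _, _, g, hP', -, h1⟩ := exists_line_model A R P hP B
  have hAK : CommRingCat.ofHom (algebraMap A R) ≫ CommRingCat.ofHom (algebraMap R K) =
      CommRingCat.ofHom (algebraMap A K) := rfl
  obtain ⟨e, -, -⟩ := exists_pullback_iso h1 (CommRingCat.ofHom (algebraMap R K))
  rw [hAK] at e
  exact @Equiv.subsingleton _ _ (PBCLib.nonempty_H_const_iso e (ZMod d) q).some.symm.toEquiv
    (henLineKey R hR P' hP' B' K d (by simpa using hd.map (algebraMap A R)) q hq)

/-- **Every geometric fibre of the henselized line is connected and acyclic.** -/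
theorem geomFibre_acyclic (Ω : Type u) [Field Ω] [IsSepClosed Ω] (σ : A →+* Ω) :
    Nonempty ↥(pullback (Spec.map (CommRingCat.ofHom ((polyMap P B).comp C))) (Spec.map (CommRingCat.ofHom σ))) ∧
    ConnectedSpace ↥(pullback (Spec.map (CommRingCat.ofHom ((polyMap P B).comp C))) (Spec.map (CommRingCat.ofHom σ))) ∧
    ∀ ℓ : ℕ, ℓ.Prime → IsUnit (ℓ : A) → ∀ q : ℕ, 0 < q → Subsingleton (EtCoh.H
      (pullback (Spec.map (CommRingCat.ofHom ((polyMap P B).comp C))) (Spec.map (CommRingCat.ofHom σ)))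
      (EtCoh.const _ (ZMod ℓ)) q) := by
  let Ω' := AlgebraicClosure Ω
  let i : Ω →+* Ω' := algebraMap Ω Ω'
  let 𝔭 := RingHom.ker σ
  haveI : 𝔭.IsPrime := RingHom.ker_isPrime σ
  let τ : 𝔭.ResidueField →+* Ω' := Ideal.ResidueField.lift 𝔭 (i.comp σ)
    (fun a ha => by rw [RingHom.mem_ker, RingHom.comp_apply, RingHom.mem_ker.1 ha, map_zero])
    (fun a ha => by
      rw [Submonoid.mem_comap, IsUnit.mem_submonoid_iff, isUnit_iff_ne_zero, RingHom.comp_apply,
        map_ne_zero_iff _ i.injective]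
      exact fun h => ha (RingHom.mem_ker.2 h))
  letI : Algebra 𝔭.ResidueField Ω' := τ.toAlgebra
  let K := AlgebraicClosure 𝔭.ResidueField
  let j : K →ₐ[𝔭.ResidueField] Ω' := IsAlgClosed.lift
  obtain ⟨L, _, _, _, l, k, F, _, _, _, h, -⟩ := exists_geomFibre_ring A P hP B K 𝔭
  have hσ : (j.toRingHom).comp (algebraMap A K) = i.comp σ := RingHom.ext fun a => by
    show j (algebraMap A K a) = _
    rw [IsScalarTower.algebraMap_apply A 𝔭.ResidueField K, AlgHom.commutes]
    exact Ideal.ResidueField.lift_algebraMap 𝔭 _ _ _ a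
  letI : Algebra K L := k.toAlgebra
  letI : Algebra K Ω' := j.toRingHom.toAlgebra
  haveI : IsDomain (TensorProduct K L Ω') := GeomIrred.isDomain_tensor
  have hp := isPullback_SpecMap_of_isPushout _ _ _ _ (h.paste_vert (CommRingCat.isPushout_tensorProduct K L Ω'))
  have hhom : Spec.map (CommRingCat.ofHom j.toRingHom) ≫ Spec.map (CommRingCat.ofHom (algebraMap A K)) =
      Spec.map (CommRingCat.ofHom i) ≫ Spec.map (CommRingCat.ofHom σ) := by
    rw [← Spec.map_comp, ← Spec.map_comp, ← CommRingCat.ofHom_comp, ← CommRingCat.ofHom_comp, hσ]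
  simp only [Spec.map_comp] at hp
  let φ := Spec.map (CommRingCat.ofHom ((polyMap P B).comp C))
  let a := pullback.snd φ (Spec.map (CommRingCat.ofHom σ))
  let aK := pullback.snd φ (Spec.map (CommRingCat.ofHom (algebraMap A K)))
  let e : pullback aK (Spec.map (CommRingCat.ofHom j.toRingHom)) ≅ pullback a (Spec.map (CommRingCat.ofHom i)) :=
    pullbackLeftPullbackSndIso φ _ _ ≪≫ pullback.congrHom rfl hhom ≪≫ (pullbackLeftPullbackSndIso φ _ _).symm
  let c := (hp.isoPullback ≪≫ (pullbackLeftPullbackSndIso φ _ _).symm ≪≫ e).hom ≫ pullback.fst a _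
  haveI : Surjective (Spec.map (CommRingCat.ofHom i)) := ⟨fun x => ⟨⟨⊥, Ideal.isPrime_bot⟩, Subsingleton.elim (α := PrimeSpectrum Ω) _ _⟩⟩
  have hsurj : Function.Surjective c := Scheme.Hom.surjective c
  refine ⟨⟨c ⟨⊥, Ideal.isPrime_bot⟩⟩, hsurj.connectedSpace c.continuous, fun ℓ hℓ hu q hq => ?_⟩
  have hK : (ℓ : K) ≠ 0 := fun h => not_isUnit_zero (h ▸ (by simpa using hu.map (algebraMap A K)) : IsUnit (0 : K))
  have hΩ : (ℓ : Ω) ≠ 0 := fun h => not_isUnit_zero (h ▸ (by simpa using hu.map σ) : IsUnit (0 : Ω))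
  refine (subsingleton_H_const_ext_iff i a ℓ hℓ hΩ q).1 ?_
  haveI := (subsingleton_H_const_ext_iff j.toRingHom aK ℓ hℓ hK q).2 (subsingleton_H_geomFibre A P hP B K 𝔭 ℓ hu q hq)
  exact (PBCLib.nonempty_H_const_iso e (ZMod ℓ) q).some.symm.toEquiv.subsingleton

end

end Groth.Agent.HenLineLib
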