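import Groth.Agent.HenLineLib.Regular
import Groth.Agent.HensBranch.Normal
import Groth.Agent.Henselization.Universal
import Groth.Agent.AICVanishLib.Local
import Groth.Agent.S2656
import Groth.Agent.S0566
import Groth.Agent.S0567
import Mathlib.RingTheory.FiniteType

/-!
# Absolutely integrally closed local domains as unions of Noetherian normal henselian local rings
-/

set_option autoImplicit false
set_option linter.style.haveILetI false
set_option backward.isDefEq.respectTransparency false

universe u

open IsLocalRing

noncomputable section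

namespace Groth.Agent.HenLineLib

/-- A Noetherian normal henselian local subring, with a local inclusion. -/
structure IsStage {R : Type u} [CommRing R] (A : Subring R) : Prop where
  noetherian : IsNoetherianRing A
  integrallyClosed : IsIntegrallyClosed A
  henselian : HenselianLocalRing A
  isLocalHom : IsLocalHom A.subtype

theorem isNagata_ulift_int : CAlg.IsNagata (ULift.{u} ℤ) := by
  haveI : IsPrincipalIdealRing (ULift.{u} ℤ) :=
    IsPrincipalIdealRing.of_surjective (ULift.ringEquiv (R := ℤ)).symm.toRingHom (ULift.ringEquiv (R := ℤ)).symm.surjective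
  haveI : IsDomain (ULift.{u} ℤ) := (ULift.ringEquiv (R := ℤ)).toMulEquiv.isDomain
  haveI : CharZero (ULift.{u} ℤ) := charZero_of_injective_ringHom
    (f := (ULift.ringEquiv (R := ℤ)).symm.toRingHom) (ULift.ringEquiv (R := ℤ)).symm.injective
  exact S2656.result _

/-- Finite sets of an absolutely integrally closed local domain lie in stages, functorially. -/
theorem exists_stages (R : Type u) [CommRing R] [IsDomain R] [IsLocalRing R] (hR : AICCover.MonicRoot R) :
    ∃ T : Finset R → Subring R, Monotone T ∧ ∀ s, IsStage (T s) ∧ ↑s ⊆ (T s : Set R) := by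
  classical
  haveI := AICVanishLib.henselianLocalRing_of_monicRoot hR
  letI : Algebra (ULift.{u} ℤ) R := ((Int.castRingHom R).comp (ULift.ringEquiv (R := ℤ)).toRingHom).toAlgebra
  let K := FractionRing R
  let R₀ : Finset R → Subalgebra (ULift.{u} ℤ) R := fun s => Algebra.adjoin _ (s : Set R)
  -- normalizations inside `R`
  have hN : ∀ s, ∃ N : Subring R, IsNoetherianRing N ∧ IsIntegrallyClosed N ∧ ∀ x : R, x ∈ N ↔
      IsIntegral (R₀ s) x ∧ ∃ a b : R₀ s, b ≠ 0 ∧ (b : R) * x = a := by
    intro s
    let S := R₀ s
    haveI : IsDomain S := inferInstance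
    haveI : Algebra.FiniteType (ULift.{u} ℤ) S := (Subalgebra.fg_iff_finiteType _).1 ⟨s, rfl⟩
    have hS : CAlg.IsN2 S :=
      ((S0567.result S).1 (S0566.result _ isNagata_ulift_int S)).2 S inferInstance
    let L := FractionRing S
    have hinj : Function.Injective ((algebraMap R K).comp (algebraMap S R)) :=
      (IsFractionRing.injective R K).comp Subtype.val_injective
    obtain ⟨g, hg⟩ : ∃ g : L →+* K, ∀ x, g (algebraMap S L x) = algebraMap R K x :=
      ⟨IsFractionRing.lift hinj, fun x => IsFractionRing.lift_algebraMap hinj x⟩
    let N₁ := integralClosure S L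
    haveI : Module.Finite S N₁ := hS L inferInstance
    have hgi : ∀ y : N₁, ∃ x : R, algebraMap R K x = g y := fun y => by
      obtain ⟨p, hp, hpy⟩ := y.2
      refine hR.mem_range ⟨p.map (algebraMap S R), hp.map _, ?_⟩
      rw [Polynomial.eval₂_map, show (algebraMap R K).comp (algebraMap S R) = g.comp (algebraMap S L) from
        RingHom.ext fun z => (hg z).symm, ← Polynomial.hom_eval₂, hpy, map_zero]
    choose ν hν using hgi
    have hνinj := IsFractionRing.injective R K
    let νA : N₁ →ₐ[S] R :=
      { toFun := ν
        map_one' := hνinj (by rw [hν]; simp)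
        map_mul' := fun a b => hνinj (by rw [map_mul, hν, hν, hν]; simp)
        map_zero' := hνinj (by rw [hν]; simp)
        map_add' := fun a b => hνinj (by rw [map_add, hν, hν, hν]; simp)
        commutes' := fun z => hνinj (by rw [hν]; exact hg z) }
    have hνA : Function.Injective νA := fun a b h => Subtype.ext (g.injective (by
      rw [← hν, ← hν]; exact congrArg _ h))
    haveI : IsIntegrallyClosed N₁ := integralClosure.isIntegrallyClosedOfFiniteExtension L
    haveI : IsNoetherianRing (ULift.{u} ℤ) := isNagata_ulift_int.1
    haveI : IsNoetherianRing S := Algebra.FiniteType.isNoetherianRing (ULift.{u} ℤ) _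
    haveI : IsNoetherianRing N₁ := IsNoetherianRing.of_finite S N₁
    let e₁ : N₁ ≃+* νA.toRingHom.range := RingEquiv.ofBijective νA.toRingHom.rangeRestrict
      ⟨fun a b h => hνA (congrArg Subtype.val h), νA.toRingHom.rangeRestrict_surjective⟩
    refine ⟨νA.toRingHom.range, isNoetherianRing_of_ringEquiv _ e₁,
      IsIntegrallyClosed.of_equiv e₁, fun x => ⟨?_, ?_⟩⟩
    · rintro ⟨y, rfl⟩
      obtain ⟨a, b, hb, hab⟩ := IsFractionRing.div_surjective (A := S) (y : L)
      refine ⟨(Algebra.IsIntegral.isIntegral (R := S) y).map νA, a, b, nonZeroDivisors.ne_zero hb, hνinj ?_⟩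
      show algebraMap R K ((b : R) * ν y) = algebraMap R K a
      rw [map_mul, hν, ← hg, ← hg, ← map_mul, ← hab, mul_div_cancel₀ _
        ((map_ne_zero_iff _ (IsFractionRing.injective S L)).2 (nonZeroDivisors.ne_zero hb))]
    · rintro ⟨hx, a, b, hb, hab⟩
      have hb' : g (algebraMap S L b) ≠ 0 := by
        rw [map_ne_zero_iff _ g.injective, map_ne_zero_iff _ (IsFractionRing.injective S L)]; exact hb
      have hxg : algebraMap R K x = g (algebraMap S L a / algebraMap S L b) := by
        rw [map_div₀, eq_div_iff hb', hg, hg, ← hab, map_mul, mul_comm]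
      have hint : IsIntegral S (algebraMap S L a / algebraMap S L b) := by
        obtain ⟨p, hp, hpx⟩ := hx
        refine ⟨p, hp, g.injective ?_⟩
        rw [Polynomial.hom_eval₂, show g.comp (algebraMap S L) = (algebraMap R K).comp (algebraMap S R) from
          RingHom.ext hg, ← hxg, ← Polynomial.hom_eval₂, hpx, map_zero, map_zero]
      exact ⟨⟨_, hint⟩, hνinj ((hν _).trans hxg.symm)⟩
  choose N hNn hNic hN using hN
  -- henselizations at the point
  let P : ∀ s, Ideal (N s) := fun s => (maximalIdeal R).comap (N s).subtype
  haveI hP : ∀ s, (P s).IsPrime := fun s => Ideal.IsPrime.comap _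
  have hloc : ∀ s, ∃ η : Henselization.HenselizationRing (Localization.AtPrime (P s)) →+* R, IsLocalHom η ∧ Function.Injective η ∧
      ∀ x : N s, η (algebraMap (Localization.AtPrime (P s)) (Henselization.HenselizationRing (Localization.AtPrime (P s))) (algebraMap (N s) _ x)) = x := by
    intro s
    have hu : ∀ y : (P s).primeCompl, IsUnit ((N s).subtype y) := fun y => by
      by_contra h; exact y.2 ((mem_maximalIdeal _).2 h)
    let f : Localization.AtPrime (P s) →+* R := IsLocalization.lift (M := (P s).primeCompl) hu
    haveI hf : IsLocalHom f := ⟨fun x hx => by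
      obtain ⟨p, q, rfl⟩ := IsLocalization.exists_mk'_eq (P s).primeCompl x
      rw [IsLocalization.AtPrime.isUnit_mk'_iff (S := Localization.AtPrime (P s)) (P s)]
      intro hp
      rw [IsLocalization.lift_mk', Units.isUnit_mul_units] at hx
      exact (mem_maximalIdeal _).1 hp hx⟩
    obtain ⟨η, hη, -⟩ := _root_.Hensel.IsHenselization.universal (R := Localization.AtPrime (P s)) (S := Henselization.HenselizationRing (Localization.AtPrime (P s))) R f hf
    have hηx : ∀ x : N s, η (algebraMap _ (Henselization.HenselizationRing (Localization.AtPrime (P s))) (algebraMap (N s) _ x)) = x := fun x => by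
      rw [← RingHom.comp_apply η, hη]; exact IsLocalization.lift_eq hu x
    refine ⟨η, ?_, ?_, hηx⟩
    · refine ((local_hom_TFAE η).out 0 2 rfl rfl).2 ?_
      rw [← Henselization.map_maximalIdeal, Ideal.map_map, hη]
      exact ((local_hom_TFAE f).out 0 2 rfl rfl).1 hf
    · haveI : IsDomain (Localization.AtPrime (P s)) := inferInstance
      haveI : IsIntegrallyClosed (Localization.AtPrime (P s)) :=
        haveI := hNic s
        isIntegrallyClosed_of_isLocalization _ (P s).primeCompl (P s).primeCompl_le_nonZeroDivisors
      haveI := (HensBranch.hz_normal (R := Localization.AtPrime (P s))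
        (K := ResidueField (Localization.AtPrime (P s)))).1
      rw [RingHom.injective_iff_ker_eq_bot]
      haveI : (RingHom.ker η).IsPrime := RingHom.ker_isPrime η
      refine (Henselization.eq_of_le_of_comap_eq (P := (⊥ : Ideal (Henselization.HenselizationRing (Localization.AtPrime (P s))))) (Q := RingHom.ker η) bot_le ?_).symm
      rw [← RingHom.ker_eq_comap_bot, RingHom.comap_ker, hη,
        (RingHom.injective_iff_ker_eq_bot _).1 Henselization.algebraMap_injective, eq_comm,
        ← RingHom.injective_iff_ker_eq_bot]
      refine (IsLocalization.lift_injective_iff hu).2 fun x y => ?_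
      exact ⟨fun h => Subtype.ext_iff.1 (IsLocalization.injective (Localization.AtPrime (P s))
        (P s).primeCompl_le_nonZeroDivisors h), fun h => congrArg _ (Subtype.ext h)⟩
  choose η hηl hηi hηx using hloc
  let T : Finset R → Subring R := fun s => (η s).range
  have hsub : ∀ s, (N s : Set R) ⊆ T s := fun s x hx => ⟨_, hηx s ⟨x, hx⟩⟩
  have hstage : ∀ s, IsStage (T s) := fun s => by
    let e : Henselization.HenselizationRing (Localization.AtPrime (P s)) ≃+* T s := RingEquiv.ofBijective (η s).rangeRestrict
      ⟨fun a b h => hηi s (congrArg Subtype.val h), (η s).rangeRestrict_surjective⟩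
    haveI : IsIntegrallyClosed (Localization.AtPrime (P s)) :=
      haveI := hNic s
      isIntegrallyClosed_of_isLocalization _ (P s).primeCompl (P s).primeCompl_le_nonZeroDivisors
    haveI := (HensBranch.hz_normal (R := Localization.AtPrime (P s))
        (K := ResidueField (Localization.AtPrime (P s)))).2
    haveI := hNn s
    haveI : IsNoetherianRing (Henselization.HenselizationRing (Localization.AtPrime (P s))) := Henselization.isNoetherianRing
    have hT : HenselianLocalRing (T s) := by
      haveI := e.isLocalRing
      have h := Hensel.of_ringEquiv (I := maximalIdeal (Henselization.HenselizationRing (Localization.AtPrime (P s)))) e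
      rw [show (maximalIdeal (Henselization.HenselizationRing (Localization.AtPrime (P s)))).map (e : Henselization.HenselizationRing (Localization.AtPrime (P s)) →+* T s) = maximalIdeal (T s) from
        eq_maximalIdeal (Ideal.map_isMaximal_of_equiv e)] at h
      exact (Hensel.henselianRing_maximalIdeal_iff).1 h
    refine ⟨isNoetherianRing_of_ringEquiv _ e, IsIntegrallyClosed.of_equiv e, hT, ⟨fun x hx => ?_⟩⟩
    obtain ⟨y, rfl⟩ := e.surjective x
    exact ((hηl s).map_nonunit y hx).map e
  refine ⟨T, fun s t hst => ?_, fun s => ⟨hstage s, fun x hx => hsub s ((hN s x).2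
    ⟨isIntegral_algebraMap (R := R₀ s) (x := ⟨x, Algebra.subset_adjoin hx⟩), ⟨x, Algebra.subset_adjoin hx⟩, 1,
      one_ne_zero, by simp⟩)⟩⟩
  -- monotonicity
  haveI := (hstage t).integrallyClosed
  haveI := (hstage t).henselian
  haveI := (hstage t).isLocalHom
  have hR₀ : ∀ x : R, x ∈ R₀ s → x ∈ T t := fun x hx => hsub t ((hN t x).2
    ⟨isIntegral_algebraMap (R := R₀ t) (x := ⟨x, Algebra.adjoin_mono (Finset.coe_subset.2 hst) hx⟩),
      ⟨x, Algebra.adjoin_mono (Finset.coe_subset.2 hst) hx⟩, 1, one_ne_zero, by simp⟩)
  have hNT : ∀ x : N s, (x : R) ∈ T t := by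
    intro x
    obtain ⟨hx, a, b, hb, hab⟩ := (hN s x).1 x.2
    let i : R₀ s →+* T t := (R₀ s).val.toRingHom.codRestrict (T t) fun z => hR₀ _ z.2
    let L := FractionRing (T t)
    have hbL : algebraMap (T t) L (i b) ≠ 0 := by
      rw [map_ne_zero_iff _ (IsFractionRing.injective (T t) L)]
      exact fun h => hb (Subtype.ext (show (b : R) = 0 from congrArg (fun z : T t => (z : R)) h))
    have hinjL : Function.Injective ((algebraMap R K).comp (T t).subtype) :=
      (IsFractionRing.injective R K).comp Subtype.val_injective
    obtain ⟨g, hg⟩ : ∃ g : L →+* K, ∀ z, g (algebraMap (T t) L z) = algebraMap R K z :=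
      ⟨IsFractionRing.lift hinjL, fun z => IsFractionRing.lift_algebraMap hinjL z⟩
    have hgx : g (algebraMap _ L (i a) / algebraMap _ L (i b)) = algebraMap R K (x : R) := by
      rw [map_div₀, div_eq_iff (by rw [map_ne_zero_iff _ g.injective]; exact hbL), hg, hg, ← map_mul]
      exact congrArg _ (by rw [mul_comm]; exact hab.symm)
    obtain ⟨p, hp, hpx⟩ := hx
    have hint : IsIntegral (T t) (algebraMap _ L (i a) / algebraMap _ L (i b)) := ⟨p.map i, hp.map i, g.injective (by
      rw [Polynomial.hom_eval₂, hgx, Polynomial.eval₂_map,
        show (g.comp (algebraMap (T t) L)).comp i = (algebraMap R K).comp (algebraMap (R₀ s) R) from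
          RingHom.ext fun z => hg (i z),
        ← Polynomial.hom_eval₂, hpx, map_zero, map_zero])⟩
    obtain ⟨z, hz⟩ := IsIntegrallyClosed.isIntegral_iff.1 hint
    have : (x : R) = z := IsFractionRing.injective R K (by rw [← hgx, ← hz, hg])
    exact this ▸ z.2
  let h₀ : N s →+* T t := (N s).subtype.codRestrict (T t) hNT
  have hu : ∀ y : (P s).primeCompl, IsUnit (h₀ y) := fun y => by
    refine (hstage t).isLocalHom.map_nonunit (h₀ y) ?_
    by_contra h; exact y.2 ((mem_maximalIdeal _).2 h)
  let f : Localization.AtPrime (P s) →+* T t := IsLocalization.lift (M := (P s).primeCompl) hu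
  have hf : ∀ z, (f z : R) = η s (algebraMap _ (Henselization.HenselizationRing (Localization.AtPrime (P s))) z) := RingHom.congr_fun
    (IsLocalization.ringHom_ext (P s).primeCompl (j := (T t).subtype.comp f) (k := (η s).comp (algebraMap _ (Henselization.HenselizationRing (Localization.AtPrime (P s)))))
      (RingHom.ext fun x => by
        show ((f (algebraMap (N s) _ x) : T t) : R) = _
        rw [IsLocalization.lift_eq, RingHom.comp_apply, RingHom.comp_apply, hηx]
        rfl))
  haveI : IsLocalHom f := ⟨fun z hz => by
    have h := hz.map (T t).subtype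
    rw [Subring.subtype_apply, hf] at h
    exact isUnit_of_map_unit (algebraMap (Localization.AtPrime (P s)) (Henselization.HenselizationRing (Localization.AtPrime (P s)))) z ((hηl s).map_nonunit _ h)⟩
  obtain ⟨g, hg, -⟩ := _root_.Hensel.IsHenselization.universal (R := Localization.AtPrime (P s)) (S := Henselization.HenselizationRing (Localization.AtPrime (P s))) (T t) f inferInstance
  haveI := hηl s
  have hcomp : (T t).subtype.comp g = η s := by
    refine (_root_.Hensel.IsHenselization.universal (R := Localization.AtPrime (P s)) (S := Henselization.HenselizationRing (Localization.AtPrime (P s))) R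
      ((η s).comp (algebraMap _ (Henselization.HenselizationRing (Localization.AtPrime (P s))))) (RingHom.isLocalHom_comp (η s) _)).unique ?_ rfl
    exact RingHom.ext fun z => by
      rw [RingHom.comp_apply, RingHom.comp_apply, ← RingHom.comp_apply g, hg, Subring.subtype_apply, hf]; rfl
  rintro _ ⟨y, rfl⟩
  rw [← hcomp]
  exact (g y).2

end Groth.Agent.HenLineLib
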