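import Groth.Agent.WeakUnram.TameGalois

/-! Ramification indices in Galois extensions divide the degree. -/

set_option autoImplicit false
universe u

namespace Groth.Agent.HenLineLib
open IsLocalRing Groth.Agent.WeakUnram

/-- In a Galois extension the ramification indices divide the degree. -/
theorem ramificationIdx_dvd_finrank {A K F : Type u} [CommRing A] [IsDomain A] [IsDiscreteValuationRing A] [Field K]
    [Algebra A K] [IsFractionRing A K] [Field F] [Algebra K F] [FiniteDimensional K F] [IsGalois K F]
    (V : ValuationSubring F) (hV : EtRam.Dominates A ((algebraMap K F).comp (algebraMap A K)) V) :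
    letI : Algebra A V := (RingHom.codRestrict ((algebraMap K F).comp (algebraMap A K)) V hV.1).toAlgebra
    ∀ [IsLocalHom (algebraMap A V)],
      Ideal.ramificationIdx' (maximalIdeal A) (maximalIdeal V) ∣ Module.finrank K F := by
  classical
  letI : Algebra A F := ((algebraMap K F).comp (algebraMap A K)).toAlgebra
  haveI : IsScalarTower A K F := IsScalarTower.of_algebraMap_eq' rfl
  letI : Algebra A V := (RingHom.codRestrict ((algebraMap K F).comp (algebraMap A K)) V hV.1).toAlgebra
  intro hloc
  haveI : IsScalarTower A V F := IsScalarTower.of_algebraMap_eq fun a => rfl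
  obtain ⟨hVdvr, hVfrac⟩ := dvr_of_dominates (A := A) (K := K) V hV
  haveI := hVdvr
  haveI := residue_finite (K := K) V hV (fun _ => rfl)
  let C := integralClosure A F
  haveI : Module.Finite A C := IsIntegralClosure.finite A K F C
  haveI : IsFractionRing C F := integralClosure.isFractionRing_of_finite_extension K F
  haveI : IsDedekindDomain C := IsIntegralClosure.isDedekindDomain A K F C
  haveI : Module.IsTorsionFree A F := by
    rw [Module.isTorsionFree_iff_algebraMap_injective, IsScalarTower.algebraMap_eq A K F]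
    exact (algebraMap K F).injective.comp (IsFractionRing.injective A K)
  have hinjC : Function.Injective (algebraMap A C) := fun x y h => by
    have h' : algebraMap A F x = algebraMap A F y := congrArg Subtype.val h
    exact IsFractionRing.injective A K ((algebraMap K F).injective h')
  haveI : Module.IsTorsionFree A C := Module.isTorsionFree_iff_algebraMap_injective.2 hinjC
  letI := IsIntegralClosure.MulSemiringAction A K F C
  haveI : IsGaloisGroup Gal(F/K) A C := IsGaloisGroup.of_isFractionRing Gal(F/K) A C K F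
  have hcard : Nat.card Gal(F/K) = Module.finrank K F := IsGalois.card_aut_eq_finrank K F
  have hCV : ∀ c : C, (c : F) ∈ V := fun c => by
    obtain ⟨w, hw⟩ := IsIntegrallyClosed.isIntegral_iff.1 (IsIntegral.tower_top (A := V) (c.2 : IsIntegral A (c : F)))
    rw [← hw]; exact w.2
  let φ : C →ₐ[A] V :=
    { toFun := fun c => ⟨c, hCV c⟩
      map_one' := rfl
      map_mul' := fun _ _ => rfl
      map_zero' := rfl
      map_add' := fun _ _ => rfl
      commutes' := fun _ => rfl }
  let P : Ideal C := (maximalIdeal V).comap φ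
  haveI hP : P.IsPrime := inferInstance
  have hunder : P.under A = maximalIdeal A := by
    ext a
    show φ (algebraMap A C a) ∈ maximalIdeal V ↔ _
    rw [AlgHom.commutes]
    exact ⟨fun h hu => h (hu.map _), fun h => map_nonunit (algebraMap A V) a h⟩
  haveI : P.LiesOver (maximalIdeal A) := ⟨hunder.symm⟩
  have hA0 : maximalIdeal A ≠ ⊥ := IsDiscreteValuationRing.not_a_field A
  have key := Ideal.ncard_primesOver_mul_ramificationIdxIn_mul_inertiaDegIn (maximalIdeal A) C Gal(F/K)
  rw [Ideal.ramificationIdxIn_eq_ramificationIdx (maximalIdeal A) P Gal(F/K),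
    Ideal.inertiaDegIn_eq_inertiaDeg (maximalIdeal A) P Gal(F/K), hcard] at key
  have hedvd : P.ramificationIdx A ∣ Module.finrank K F := key ▸ Dvd.dvd.mul_left (dvd_mul_right _ _) _
  have hfdvd : P.inertiaDeg A ∣ Module.finrank K F := key ▸ Dvd.dvd.mul_left (dvd_mul_left _ _) _
  have hsurj : Function.Surjective ((residue V).comp φ.toRingHom) := fun z => by
    obtain ⟨v, rfl⟩ := residue_surjective z
    obtain ⟨c, s, hs, hc, hs', hvs⟩ := hVfrac v
    haveI : P.IsMaximal := hP.isMaximal (fun hb => hA0 (by rw [← hunder, hb]; exact Ideal.under_bot A C))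
    obtain ⟨t, ht⟩ := Ideal.Quotient.mk_surjective ((Ideal.Quotient.field P).inv (Ideal.Quotient.mk P ⟨_, hs'⟩))
    have hsP : (⟨_, hs'⟩ : C) ∉ P := fun h => h hs
    letI := Ideal.Quotient.field P
    have h1 : (⟨_, hs'⟩ : C) * t - 1 ∈ P := by
      rw [← Ideal.Quotient.eq_zero_iff_mem, map_sub, map_mul, ht, map_one, sub_eq_zero]
      exact mul_inv_cancel₀ (fun h => hsP (Ideal.Quotient.eq_zero_iff_mem.1 h))
    refine ⟨⟨_, hc⟩ * t, ?_⟩
    have h2 : residue V s * residue V (φ t) = 1 := by
      have h3 : φ ((⟨_, hs'⟩ : C) * t - 1) ∈ maximalIdeal V := h1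
      rw [← residue_eq_zero_iff, map_sub, map_one, map_sub, map_one, sub_eq_zero, map_mul, map_mul] at h3
      exact h3
    show residue V (φ (⟨_, hc⟩ * t)) = residue V v
    rw [map_mul, map_mul, show φ ⟨_, hc⟩ = c from rfl, ← hvs, map_mul, mul_assoc, h2, mul_one]
  refine dvd_trans (dvd_of_eq ?_) hedvd
  have hne : (maximalIdeal A).map (algebraMap A C) ≠ ⊥ := Ideal.map_ne_bot_of_ne_bot hA0
  have hP0 : P ≠ ⊥ := fun hb => hA0 (by rw [← hunder, hb]; exact Ideal.under_bot A C)
  haveI : P.IsMaximal := hP.isMaximal hP0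
  obtain ⟨I, hPI, hI⟩ := Ideal.eq_prime_pow_mul_coprime hne P
  have hPV : P.map φ = maximalIdeal V := by
    refine le_antisymm (Ideal.map_comap_le) fun v hv => ?_
    obtain ⟨c, s, hs, hc, hs', hvs⟩ := hVfrac v
    have hcP : (⟨_, hc⟩ : C) ∈ P := by
      show c ∈ maximalIdeal V
      rw [← hvs]; exact Ideal.mul_mem_right _ _ hv
    rw [← hs.unit_spec] at hvs
    rw [(Units.eq_mul_inv_iff_mul_eq _).2 hvs]
    exact Ideal.mul_mem_right _ _ (Ideal.mem_map_of_mem φ hcP)
  have hIV : I.map φ = ⊤ := by
    have hnI : ¬ I ≤ P := fun h => by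
      rw [sup_of_le_left h] at hPI
      exact hP.ne_top hPI
    obtain ⟨x, hxI, hxP⟩ := SetLike.not_le_iff_exists.1 hnI
    exact Ideal.eq_top_of_isUnit_mem _ (Ideal.mem_map_of_mem φ hxI) (by
      by_contra hu; exact hxP hu)
  rw [← Ideal.IsDedekindDomain.ramificationIdx'_eq_normalizedFactors_count hne hP hP0] at hI
  have hmap := congrArg (Ideal.map φ) hI
  rw [Ideal.map_mul, Ideal.map_pow, hPV, hIV, Ideal.mul_top] at hmap
  rw [← Ideal.ramificationIdx'_eq_ramificationIdx (maximalIdeal A) P hA0]
  refine ramificationIdx'_eq_of_map _ ?_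
  rw [← hmap, ← φ.comp_algebraMap, ← Ideal.map_map]
  rfl

end Groth.Agent.HenLineLib
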