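import Groth.Agent.HenLineLib.Line
import Groth.Agent.HenLineLib.Tame
import Groth.Agent.AbhyankarAbs.Local
import Groth.Agent.MoriLib.Main
import Mathlib.RingTheory.TensorProduct.Finite
import Mathlib.RingTheory.Etale.Basic

/-!
# Killing the ramification in codimension one
-/

set_option autoImplicit false
set_option linter.style.haveILetI false
set_option backward.isDefEq.respectTransparency false

universe u

open IsLocalRing TensorProduct

noncomputable section

namespace Groth.Agent.HenLineLib

/-- Power series with coefficients in a finitely generated ideal. -/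
theorem mem_map_C_iff {A : Type u} [CommRing A] {p : Ideal A} (hp : p.FG) (x : PowerSeries A) :
    x ∈ p.map (PowerSeries.C (R := A)) ↔ ∀ n, PowerSeries.coeff n x ∈ p := by
  constructor
  · intro hx n
    have h : p.map (PowerSeries.C (R := A)) ≤ RingHom.ker (PowerSeries.map (Ideal.Quotient.mk p)) :=
      Ideal.map_le_iff_le_comap.2 fun a ha => by
        rw [Ideal.mem_comap, RingHom.mem_ker, PowerSeries.map_C, Ideal.Quotient.eq_zero_iff_mem.2 ha, map_zero]
    have h2 := congrArg (PowerSeries.coeff n) (RingHom.mem_ker.1 (h hx))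
    rwa [PowerSeries.coeff_map, map_zero, Ideal.Quotient.eq_zero_iff_mem] at h2
  · intro hx
    obtain ⟨k, g, rfl⟩ := Submodule.fg_iff_exists_fin_generating_family.1 hp
    choose c hc using fun n => (Submodule.mem_span_range_iff_exists_fun A).1 (hx n)
    have : x = ∑ i, PowerSeries.C (g i) * PowerSeries.mk (fun n => c n i) := by
      ext n
      rw [map_sum, ← hc n]
      refine Finset.sum_congr rfl fun i _ => ?_
      rw [PowerSeries.coeff_C_mul, PowerSeries.coeff_mk, smul_eq_mul, mul_comm]
    rw [this]
    exact Ideal.sum_mem _ fun i _ => Ideal.mul_mem_right _ _ (Ideal.mem_map_of_mem _ (Submodule.subset_span ⟨i, rfl⟩))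

section Fibre

variable {A B : Type u} [CommRing A] [CommRing B] [IsLocalRing B] [IsLocalRing A] [IsNoetherianRing A]
  (ι : B →+* PowerSeries A) [IsLocalHom ι] (hι : ι.Flat) (j : A →+* B) (hj : ∀ x, ι (j x) = PowerSeries.C x)

include hι hj

/-- The extension of an ideal of the base to the line. -/
theorem mem_map_line_iff (p : Ideal A) (b : B) : b ∈ p.map j ↔ ∀ n, PowerSeries.coeff n (ι b) ∈ p := by
  letI := ι.toAlgebra
  haveI : Module.FaithfullyFlat B (PowerSeries A) := faithfullyFlat ι hι
  rw [← mem_map_C_iff (IsNoetherian.noetherian p), ← Ideal.comap_map_eq_self_of_faithfullyFlat (B := PowerSeries A) (p.map j),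
    Ideal.mem_comap, Ideal.map_map,
    show (algebraMap B (PowerSeries A)).comp j = PowerSeries.C from RingHom.ext hj]
  rfl

theorem isPrime_map_line (p : Ideal A) [p.IsPrime] : (p.map j).IsPrime := by
  have e : p.map j = RingHom.ker ((PowerSeries.map (Ideal.Quotient.mk p)).comp ι) := by
    ext b
    rw [mem_map_line_iff ι hι j hj, RingHom.mem_ker, RingHom.comp_apply]
    constructor
    · intro h; ext n; rw [PowerSeries.coeff_map, map_zero, Ideal.Quotient.eq_zero_iff_mem]; exact h n
    · intro h n
      have h2 := congrArg (PowerSeries.coeff n) h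
      rwa [PowerSeries.coeff_map, map_zero, Ideal.Quotient.eq_zero_iff_mem] at h2
  rw [e]
  exact RingHom.ker_isPrime _

theorem comap_map_line (p : Ideal A) : (p.map j).comap j = p := by
  refine le_antisymm (fun a ha => ?_) Ideal.le_comap_map
  have h := (mem_map_line_iff ι hι j hj p _).1 ha 0
  rwa [hj, PowerSeries.coeff_zero_eq_constantCoeff_apply, PowerSeries.constantCoeff_C] at h

end Fibre

/-- **A tame cover becomes unramified in codimension one after extracting the roots of the uniformizers.** -/
theorem unramified_height_le_one {A A' B B' : Type u} [CommRing A] [IsDomain A] [IsNoetherianRing A]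
    [IsIntegrallyClosed A] [IsLocalRing A] [CommRing A'] [IsDomain A'] [IsNoetherianRing A'] [IsLocalRing A']
    [IsIntegrallyClosed A'] [Algebra A A'] [Module.Finite A A'] [FaithfulSMul A A'] [CommRing B] [IsLocalRing B]
    [IsNoetherianRing B] [CommRing B'] [IsLocalRing B'] [IsNoetherianRing B'] [Algebra B B']
    (ι : B →+* PowerSeries A) [IsLocalHom ι] (hι : ι.Flat) (j : A →+* B) (hj : ∀ x, ι (j x) = PowerSeries.C x)
    (ι' : B' →+* PowerSeries A') [IsLocalHom ι'] (hι' : ι'.Flat) (j' : A' →+* B')
    (hj' : ∀ x, ι' (j' x) = PowerSeries.C x)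
    (hcompat : ∀ b, ι' (algebraMap B B' b) = PowerSeries.map (algebraMap A A') (ι b))
    (F F' M M' : Type u) [Field F] [Algebra B F] [IsFractionRing B F] [Field F'] [Algebra B' F'] [IsFractionRing B' F']
    [Field M] [Algebra F M] [FiniteDimensional F M] [IsGalois F M] [Algebra B M] [IsScalarTower B F M]
    [Algebra F F'] [Algebra B F'] [IsScalarTower B F F'] [IsScalarTower B B' F'] [Field M'] [Algebra F' M']
    [FiniteDimensional F' M'] [Algebra.IsSeparable F' M'] [Algebra M M'] [Algebra F M'] [IsScalarTower F F' M']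
    [IsScalarTower F M M'] [Algebra B' M'] [IsScalarTower B' F' M']
    (hgen : Algebra.adjoin F' (Set.range (algebraMap M M')) = ⊤)
    (C : Type u) [CommRing C] [Algebra B C] [Algebra C M] [IsScalarTower B C M] [IsIntegralClosure C B M]
    (C' : Type u) [CommRing C'] [Algebra B' C'] [Algebra C' M'] [IsScalarTower B' C' M'] [IsIntegralClosure C' B' M']
    (f : A) (hf : f ≠ 0) (het : Algebra.FormallyEtale B (Localization.Away (algebraMap B C (j f))))
    (hd : IsUnit ((Module.finrank F M : ℕ) : A))
    (hroot : ∀ p : Ideal A, p.IsPrime → p.height = 1 → f ∈ p → ∃ (π : A) (θ : A'),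
      θ ^ Module.finrank F M = algebraMap A A' π ∧ π ∈ p ∧ ∀ a ∈ p, ∃ (s c : A), s ∉ p ∧ s * a = c * π)
    (Q : Ideal C') [Q.IsPrime] (hQ : Q.height ≤ 1) : Algebra.IsUnramifiedAt B' Q := by
  classical
  haveI := isDomain ι hι
  haveI := isDomain ι' hι'
  haveI := isIntegrallyClosed ι hι
  haveI := isIntegrallyClosed ι' hι'
  haveI : Module.Finite B C := IsIntegralClosure.finite B F M C
  haveI : Module.Finite B' C' := IsIntegralClosure.finite B' F' M' C'
  have hinjC' : Function.Injective (algebraMap C' M') := IsIntegralClosure.algebraMap_injective C' B' M'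
  haveI : IsDomain C' := hinjC'.isDomain _
  haveI : IsNoetherianRing C' := IsNoetherianRing.of_finite B' C'
  haveI : IsFractionRing C' M' := IsIntegralClosure.isFractionRing_of_finite_extension B' F' M' C'
  have hinjB : Function.Injective (algebraMap B' M') := by
    rw [IsScalarTower.algebraMap_eq B' F' M']
    exact (algebraMap F' M').injective.comp (IsFractionRing.injective B' F')
  haveI : FaithfulSMul B' C' := (faithfulSMul_iff_algebraMap_injective B' C').2 fun x y h => hinjB (by
    rw [IsScalarTower.algebraMap_apply B' C' M', IsScalarTower.algebraMap_apply B' C' M', h])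
  have hinjA : Function.Injective (algebraMap A A') := FaithfulSMul.algebraMap_injective A A'
  have hinjι : Function.Injective ι' := injective ι' hι'
  have hjj : ∀ x, algebraMap B B' (j x) = j' (algebraMap A A' x) := fun x => hinjι (by
    rw [hcompat, hj, PowerSeries.map_C, hj'])
  let g : B := j f
  let g' : B' := algebraMap B B' g
  have hg0 : g' ≠ 0 := fun h => hf (hinjA (by
    have h2 := congrArg (PowerSeries.constantCoeff (R := A')) (congrArg ι' h)
    rw [show g' = j' (algebraMap A A' f) from hjj f, hj', PowerSeries.constantCoeff_C, map_zero, map_zero] at h2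
    rw [h2, map_zero]))
  by_cases hfQ : algebraMap B' C' g' ∈ Q
  swap
  · -- away from `f`
    let Ba := Localization.Away g
    let Ba' := Localization.Away g'
    let Ca := Localization (Algebra.algebraMapSubmonoid C (Submonoid.powers g))
    haveI : IsLocalization (Submonoid.powers (algebraMap B C g)) Ca := by
      rw [show Submonoid.powers (algebraMap B C g) = Algebra.algebraMapSubmonoid C (Submonoid.powers g) from
        (Submonoid.map_powers _ _).symm]
      infer_instance
    haveI : Algebra.FormallyEtale B Ca := Algebra.FormallyEtale.of_equiv ((IsLocalization.algEquiv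
      (Submonoid.powers (algebraMap B C g)) (Localization.Away (algebraMap B C g)) Ca).restrictScalars B)
    haveI : Algebra.FormallyUnramified B Ba := Algebra.FormallyUnramified.of_isLocalization (Submonoid.powers g)
    haveI : Algebra.FormallyEtale Ba Ca := Algebra.FormallyEtale.of_restrictScalars (R := B)
    haveI : Module.Finite Ba Ca := Module.Finite.of_isLocalization B C (Submonoid.powers g)
    haveI : IsNoetherianRing Ba := IsLocalization.isNoetherianRing (Submonoid.powers g) Ba inferInstance
    haveI : Algebra.FinitePresentation Ba Ca := Algebra.FinitePresentation.of_finiteType.1 inferInstance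
    haveI : Algebra.Etale Ba Ca := ⟨inferInstance, inferInstance⟩
    letI : Algebra Ba Ba' := (IsLocalization.Away.lift (S := Ba) g
      (show IsUnit ((algebraMap B' Ba').comp (algebraMap B B') g) from
        IsLocalization.Away.algebraMap_isUnit g')).toAlgebra
    haveI : IsScalarTower B Ba Ba' := IsScalarTower.of_algebraMap_eq fun b => by
      rw [RingHom.algebraMap_toAlgebra, IsLocalization.Away.lift_eq, RingHom.comp_apply,
        ← IsScalarTower.algebraMap_apply B B' Ba']
    let S := Ba' ⊗[Ba] Ca
    haveI : IsScalarTower B' Ba' S := inferInstance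
    have hu' : IsUnit (algebraMap B' M' g') := isUnit_iff_ne_zero.2 ((map_ne_zero_iff _ hinjB).2 hg0)
    let k' : Ba' →+* M' := IsLocalization.Away.lift g' hu'
    have hBM : ∀ b : B, algebraMap B' M' (algebraMap B B' b) = algebraMap F M' (algebraMap B F b) := fun b => by
      rw [IsScalarTower.algebraMap_apply B' F' M', ← IsScalarTower.algebraMap_apply B B' F',
        IsScalarTower.algebraMap_apply B F F', ← IsScalarTower.algebraMap_apply F F' M']
    have hCM : ∀ b : B, algebraMap M M' (algebraMap C M (algebraMap B C b)) = algebraMap B' M' (algebraMap B B' b) :=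
      fun b => by
      rw [hBM, ← IsScalarTower.algebraMap_apply B C M, IsScalarTower.algebraMap_apply B F M,
        ← IsScalarTower.algebraMap_apply F M M']
    have huC : IsUnit (((algebraMap M M').comp (algebraMap C M)) (algebraMap B C g)) := by
      rw [RingHom.comp_apply, hCM]; exact hu'
    let kC : Ca →+* M' := IsLocalization.Away.lift (algebraMap B C g) huC
    letI : Algebra Ba M' := (k'.comp (algebraMap Ba Ba')).toAlgebra
    let kA : Ba' →ₐ[Ba] M' := { k' with commutes' := fun _ => rfl }
    let kB : Ca →ₐ[Ba] M' :=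
      { kC with
        commutes' := fun x => RingHom.congr_fun (IsLocalization.ringHom_ext (Submonoid.powers g)
          (j := kC.comp (algebraMap Ba Ca)) (k := k'.comp (algebraMap Ba Ba')) (RingHom.ext fun b => by
            show kC (algebraMap Ba Ca (algebraMap B Ba b)) = k' (algebraMap Ba Ba' (algebraMap B Ba b))
            rw [← IsScalarTower.algebraMap_apply B Ba Ca, ← IsScalarTower.algebraMap_apply B Ba Ba',
              IsScalarTower.algebraMap_apply B C Ca, IsScalarTower.algebraMap_apply B B' Ba',
              IsLocalization.Away.lift_eq, IsLocalization.Away.lift_eq, RingHom.comp_apply, hCM])) x }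
    let Φ : S →+* M' := (Algebra.TensorProduct.lift kA kB fun _ _ => Commute.all _ _).toRingHom
    have hΦl : ∀ x, Φ (x ⊗ₜ 1) = k' x := fun x =>
      (Algebra.TensorProduct.lift_tmul _ _ _ x 1).trans (by rw [map_one, mul_one]; rfl)
    have hΦr : ∀ y, Φ (1 ⊗ₜ y) = kC y := fun y =>
      (Algebra.TensorProduct.lift_tmul _ _ _ 1 y).trans (by rw [map_one, one_mul]; rfl)
    let φ : S →ₐ[B'] M' := { Φ with
      commutes' := fun b => by
        show Φ (algebraMap B' Ba' b ⊗ₜ 1) = _
        rw [hΦl, IsLocalization.Away.lift_eq] }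
    haveI : IsDomain C := (IsIntegralClosure.algebraMap_injective C B M).isDomain _
    haveI : IsFractionRing C M := IsIntegralClosure.isFractionRing_of_finite_extension B F M C
    have hfr : ∀ x : M', ∃ u v : S, φ v ≠ 0 ∧ x * φ v = φ u := by
      intro x
      have hx : x ∈ Algebra.adjoin F' (Set.range (algebraMap M M')) := hgen ▸ Algebra.mem_top
      induction hx using Algebra.adjoin_induction with
      | mem y hy =>
        obtain ⟨m, rfl⟩ := hy
        obtain ⟨a, s, hs, rfl⟩ := IsFractionRing.div_surjective (A := C) m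
        have hs0 : algebraMap C M s ≠ 0 := (map_ne_zero_iff _ (IsFractionRing.injective C M)).2 (nonZeroDivisors.ne_zero hs)
        refine ⟨1 ⊗ₜ algebraMap C Ca a, 1 ⊗ₜ algebraMap C Ca s, ?_, ?_⟩
        · show Φ _ ≠ 0
          rw [hΦr, IsLocalization.Away.lift_eq, RingHom.comp_apply]
          exact (map_ne_zero_iff _ (algebraMap M M').injective).2 hs0
        · show _ * Φ _ = Φ _
          rw [hΦr, hΦr, IsLocalization.Away.lift_eq, IsLocalization.Away.lift_eq, RingHom.comp_apply,
            RingHom.comp_apply, map_div₀, div_mul_cancel₀ _ ((map_ne_zero_iff _ (algebraMap M M').injective).2 hs0)]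
      | algebraMap r =>
        obtain ⟨a, s, hs, rfl⟩ := IsFractionRing.div_surjective (A := B') r
        refine ⟨algebraMap B' S a, algebraMap B' S s, ?_, ?_⟩
        · rw [φ.commutes]; exact (map_ne_zero_iff _ hinjB).2 (nonZeroDivisors.ne_zero hs)
        · rw [φ.commutes, φ.commutes, map_div₀, ← IsScalarTower.algebraMap_apply, ← IsScalarTower.algebraMap_apply,
            div_mul_cancel₀ _ ((map_ne_zero_iff _ hinjB).2 (nonZeroDivisors.ne_zero hs))]
      | add y z _ _ hy hz =>
        obtain ⟨u, v, hv, h⟩ := hy; obtain ⟨u', v', hv', h'⟩ := hz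
        refine ⟨u * v' + u' * v, v * v', by rw [map_mul]; exact mul_ne_zero hv hv', ?_⟩
        rw [map_add, map_mul, map_mul, map_mul, ← h, ← h']; ring
      | mul y z _ _ hy hz =>
        obtain ⟨u, v, hv, h⟩ := hy; obtain ⟨u', v', hv', h'⟩ := hz
        refine ⟨u * u', v * v', by rw [map_mul]; exact mul_ne_zero hv hv', ?_⟩
        rw [map_mul, map_mul, ← h, ← h']; ring
    exact AbhyankarAbs.isUnramifiedAt_away (L := M') hinjB g' hg0 φ hfr Q hfQ
  -- above `f`
  have hQ0 : Q.height ≠ 0 := fun h => by
    rw [Ideal.height_eq_zero_iff_eq_bot.1 h, Ideal.mem_bot,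
      map_eq_zero_iff _ (FaithfulSMul.algebraMap_injective B' C')] at hfQ
    exact hg0 hfQ
  have hQ1 : Q.height = 1 := le_antisymm hQ (Order.one_le_iff_pos.2 (pos_iff_ne_zero.2 hQ0))
  let q' := Q.under B'
  haveI : Q.LiesOver q' := ⟨rfl⟩
  have hq' : q'.height = 1 := (AbhyankarAbs.height_eq_under (A := B') Q).symm.trans hQ1
  let p' := q'.comap j'
  haveI : p'.IsPrime := Ideal.IsPrime.comap _
  let p := p'.comap (algebraMap A A')
  haveI : p.IsPrime := Ideal.IsPrime.comap _
  have hfp : f ∈ p := by
    show j' (algebraMap A A' f) ∈ q'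
    rw [← hjj]; exact hfQ
  have key : ∀ r : Ideal A', r.IsPrime → r ≠ ⊥ → r ≤ p' → q' = r.map j' := fun r hr hr0 hle => by
    haveI := hr
    haveI := isPrime_map_line ι' hι' j' hj' r
    have hle' : r.map j' ≤ q' := Ideal.map_le_iff_le_comap.2 hle
    refine ((MoriLib.htOne_of_height hq').2.2 _ inferInstance (fun h => hr0 ?_) hle').symm
    rw [← comap_map_line ι' hι' j' hj' r, h]
    refine (Submodule.eq_bot_iff _).2 fun a ha => ?_
    have h2 := congrArg (PowerSeries.constantCoeff (R := A')) (congrArg ι' ((Submodule.mem_bot B').1 ha))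
    rwa [hj', PowerSeries.constantCoeff_C, map_zero, map_zero] at h2
  have hp'0 : p' ≠ ⊥ := fun h => hf (hinjA (by
    have : algebraMap A A' f ∈ p' := hfp
    rwa [h, Ideal.mem_bot, ← map_zero (algebraMap A A')] at this))
  have hq'eq : q' = p'.map j' := key p' inferInstance hp'0 le_rfl
  have hp' : p'.height = 1 := MoriLib.height_of_htOne ⟨inferInstance, hp'0, fun r hr hr0 hle => by
    rw [← comap_map_line ι' hι' j' hj' r, ← key r hr hr0 hle]⟩
  haveI : Algebra.IsIntegral A A' := inferInstance
  have hp : p.height = 1 := (AbhyankarAbs.height_eq_under (A := A) p').symm.trans hp'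
  let q := q'.comap (algebraMap B B')
  haveI : q.IsPrime := Ideal.IsPrime.comap _
  have hqeq : q = p.map j := by
    ext b
    rw [mem_map_line_iff ι hι j hj]
    show algebraMap B B' b ∈ q' ↔ _
    rw [hq'eq, mem_map_line_iff ι' hι' j' hj', hcompat]
    simp only [PowerSeries.coeff_map]
    rfl
  obtain ⟨π, θ, hθ, hπp, hπ⟩ := hroot p inferInstance hp hfp
  let Bq := Localization.AtPrime q
  let Bq' := Localization.AtPrime q'
  haveI : q'.LiesOver q := ⟨rfl⟩
  letI := Localization.AtPrime.algebraOfLiesOver q q'
  haveI : IsLocalHom (algebraMap Bq Bq') := by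
    rw [Localization.AtPrime.IsLiesOverAlgebra.algebraMap_eq]
    exact Localization.isLocalHom_localRingHom q q' (algebraMap B B') Ideal.LiesOver.over
  haveI : IsDiscreteValuationRing Bq' := AbhyankarAbs.isDVR_of_height_one q' hq'
  have hqmax : maximalIdeal Bq = Ideal.span {algebraMap B Bq (j π)} := by
    refine le_antisymm ?_ ?_
    · rw [← Localization.AtPrime.map_eq_maximalIdeal, Ideal.map_le_iff_le_comap]
      refine le_trans hqeq.le ?_
      rw [Ideal.map_le_iff_le_comap, Ideal.comap_comap]
      intro a ha
      obtain ⟨s, c, hs, h⟩ := hπ a ha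
      have hus : IsUnit (algebraMap B Bq (j s)) := IsLocalization.map_units Bq (⟨j s, fun h2 => hs (by
        rw [← comap_map_line ι hι j hj p]; exact hqeq ▸ h2)⟩ : q.primeCompl)
      rw [Ideal.mem_comap, RingHom.comp_apply, Ideal.mem_span_singleton, ← hus.dvd_mul_left, ← map_mul, ← map_mul, h,
        map_mul, map_mul]
      exact dvd_mul_left _ _
    · rw [Ideal.span_singleton_le_iff_mem]
      exact (IsLocalization.AtPrime.to_map_mem_maximal_iff Bq q _).2 (hqeq ▸ Ideal.mem_map_of_mem j hπp)
  haveI : IsDiscreteValuationRing Bq := by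
    have hnf : ¬ IsField Bq := fun h => by
      rw [isField_iff_maximalIdeal_eq, ← Localization.AtPrime.map_eq_maximalIdeal, Ideal.map_eq_bot_iff_of_injective
        (IsLocalization.injective Bq q.primeCompl_le_nonZeroDivisors)] at h
      have h1 : j f ∈ q := hqeq ▸ Ideal.mem_map_of_mem j hfp
      rw [h, Ideal.mem_bot] at h1
      exact hg0 (by show algebraMap B B' (j f) = 0; rw [h1, map_zero])
    have hprin : (maximalIdeal Bq).IsPrincipal := ⟨⟨_, hqmax⟩⟩
    exact ((IsDiscreteValuationRing.TFAE Bq hnf).out 0 4).2 hprin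
  -- the index of `Bq ⟶ Bq'`
  have hdvd : Module.finrank F M ∣ Ideal.ramificationIdx' (maximalIdeal Bq) (maximalIdeal Bq') := by
    obtain ⟨ϖ, hϖ⟩ := IsDiscreteValuationRing.exists_irreducible Bq'
    have hθ0 : algebraMap B' Bq' (j' θ) ≠ 0 := by
      refine (map_ne_zero_iff _ (IsLocalization.injective Bq' q'.primeCompl_le_nonZeroDivisors)).2 fun h => ?_
      have h2 := congrArg (PowerSeries.constantCoeff (R := A')) (congrArg ι' h)
      rw [hj', PowerSeries.constantCoeff_C, map_zero, map_zero] at h2
      rw [h2, zero_pow Module.finrank_pos.ne', eq_comm, map_eq_zero_iff _ hinjA] at hθ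
      have h1 : algebraMap B Bq (j π) = 0 := by rw [hθ, map_zero, map_zero]
      have h3 := IsDiscreteValuationRing.not_a_field Bq
      rw [hqmax, h1, Ideal.span_singleton_eq_bot.2 rfl] at h3
      exact h3 rfl
    obtain ⟨k, u, hu⟩ := IsDiscreteValuationRing.eq_unit_mul_pow_irreducible hθ0 hϖ
    refine ⟨k, WeakUnram.ramificationIdx'_eq_of_map _ ?_⟩
    rw [hqmax, Ideal.map_span, Set.image_singleton, hϖ.maximalIdeal_eq, Ideal.span_singleton_pow,
      ← IsScalarTower.algebraMap_apply B Bq Bq', IsScalarTower.algebraMap_apply B B' Bq', hjj, ← hθ, map_pow,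
      map_pow, hu, mul_pow, ← pow_mul, mul_comm k]
    exact Ideal.span_singleton_mul_left_unit (u.isUnit.pow _) _
  -- valuations
  have huF : ∀ s : q.primeCompl, IsUnit (algebraMap B F s) := fun s => isUnit_iff_ne_zero.2
    ((map_ne_zero_iff _ (IsFractionRing.injective B F)).2 fun h => s.2 (h ▸ q.zero_mem))
  letI : Algebra Bq F := (IsLocalization.lift (M := q.primeCompl) huF).toAlgebra
  haveI : IsScalarTower B Bq F := IsScalarTower.of_algebraMap_eq fun b => (IsLocalization.lift_eq huF b).symm
  haveI : IsFractionRing Bq F := IsFractionRing.isFractionRing_of_isDomain_of_isLocalization q.primeCompl Bq F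
  have huF' : ∀ s : q'.primeCompl, IsUnit (algebraMap B' F' s) := fun s => isUnit_iff_ne_zero.2
    ((map_ne_zero_iff _ (IsFractionRing.injective B' F')).2 fun h => s.2 (h ▸ q'.zero_mem))
  letI : Algebra Bq' F' := (IsLocalization.lift (M := q'.primeCompl) huF').toAlgebra
  haveI : IsScalarTower B' Bq' F' := IsScalarTower.of_algebraMap_eq fun b => (IsLocalization.lift_eq huF' b).symm
  haveI : IsFractionRing Bq' F' := IsFractionRing.isFractionRing_of_isDomain_of_isLocalization q'.primeCompl Bq' F'
  letI : Algebra Bq F' := ((algebraMap F F').comp (algebraMap Bq F)).toAlgebra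
  haveI : IsScalarTower Bq F F' := IsScalarTower.of_algebraMap_eq' rfl
  haveI : IsScalarTower Bq Bq' F' := IsScalarTower.of_algebraMap_eq' (IsLocalization.ringHom_ext q.primeCompl
    (RingHom.ext fun b => by
      show algebraMap F F' (algebraMap Bq F (algebraMap B Bq b)) = algebraMap Bq' F' (algebraMap Bq Bq' (algebraMap B Bq b))
      rw [← IsScalarTower.algebraMap_apply B Bq F, ← IsScalarTower.algebraMap_apply B F F',
        ← IsScalarTower.algebraMap_apply B Bq Bq', IsScalarTower.algebraMap_apply B B' Bq',
        ← IsScalarTower.algebraMap_apply B' Bq' F', ← IsScalarTower.algebraMap_apply B B' F']))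
  have hnres : ((Module.finrank F M : ℕ) : ResidueField Bq) ≠ 0 := by
    rw [← map_natCast ((residue Bq).comp ((algebraMap B Bq).comp j))]
    exact (hd.map _).ne_zero
  have hunr := WeakUnram.unramified_baseChange_of_dvd Bq Bq' F F' M M' hgen (WeakUnram.tame_of_galois hnres)
    fun V hV => by
      letI : Algebra Bq V := (RingHom.codRestrict ((algebraMap F M).comp (algebraMap Bq F)) V hV.1).toAlgebra
      haveI : IsLocalHom (algebraMap Bq V) := ⟨fun a ha => by
        by_contra hna
        exact ((ValuationSubring.valuation_lt_one_iff _ _).2 (hV.2 a hna)) ha⟩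
      exact dvd_trans (ramificationIdx_dvd_finrank V hV) hdvd
  letI : Algebra Bq' M' := ((algebraMap F' M').comp (algebraMap Bq' F')).toAlgebra
  haveI : IsDiscreteValuationRing (Localization.AtPrime Q) := by
    haveI : IsIntegrallyClosed C' := (isIntegrallyClosed_iff M').2 fun {x} hx =>
      (IsIntegralClosure.isIntegral_iff (A := C') (R := B') (B := M')).1 (isIntegral_trans x hx)
    exact AbhyankarAbs.isDVR_of_height_one Q hQ1
  haveI : Algebra.EssFiniteType B' C' := inferInstance
  refine AbhyankarAbs.isUnramifiedAt_of_unramifiedExt Q q' (L := M') ?_ hunr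
  refine RingHom.ext fun b => ?_
  show algebraMap F' M' (algebraMap Bq' F' (algebraMap B' Bq' b)) = algebraMap C' M' (algebraMap B' C' b)
  rw [← IsScalarTower.algebraMap_apply B' Bq' F', ← IsScalarTower.algebraMap_apply B' F' M',
    ← IsScalarTower.algebraMap_apply B' C' M']

end Groth.Agent.HenLineLib
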