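import Groth.Agent.HenLineLib.Regular
import Groth.Agent.HenLineLib.Unram
import Groth.Agent.HenLineLib.Stage
import Groth.Agent.HensBranch.Normal

/-!
# The henselized line as the union of the henselized lines over the stages
-/

set_option autoImplicit false
set_option linter.style.haveILetI false
set_option backward.isDefEq.respectTransparency false

universe u

open IsLocalRing Polynomial

noncomputable section

namespace Groth.Agent.HenLineLib

variable {R : Type u} [CommRing R] [IsLocalRing R]

/-- The prime of the origin over a subring. -/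
abbrev originAt (P : Ideal R[X]) (A : Subring R) : Ideal A[X] := P.comap (mapRingHom A.subtype)

/-- The henselized line over a subring. -/
abbrev lineAt (P : Ideal R[X]) [P.IsPrime] (A : Subring R) : Type u :=
  Henselization.HenselizationRing (Localization.AtPrime (originAt P A))

/-- Membership in the prime of the origin. -/
theorem mem_origin_iff {P : Ideal R[X]} (hP : P = (maximalIdeal R).map C ⊔ Ideal.span {X}) (f : R[X]) :
    f ∈ P ↔ f.coeff 0 ∈ maximalIdeal R := by
  constructor
  · intro hf
    suffices P ≤ (maximalIdeal R).comap constantCoeff from this hf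
    rw [hP, sup_le_iff, Ideal.map_le_iff_le_comap, Ideal.span_singleton_le_iff_mem]
    exact ⟨fun a ha => by simpa using ha, by simp⟩
  · intro hf
    rw [hP, ← X_mul_divX_add f]
    exact Submodule.add_mem _ (Ideal.mul_mem_right _ _ (Ideal.mem_sup_right (Ideal.mem_span_singleton_self _)))
      (Ideal.mem_sup_left (Ideal.mem_map_of_mem _ hf))

theorem originAt_eq {P : Ideal R[X]} (hP : P = (maximalIdeal R).map C ⊔ Ideal.span {X}) {A : Subring R}
    [IsLocalRing A] [IsLocalHom A.subtype] : originAt P A = (maximalIdeal A).map C ⊔ Ideal.span {X} := by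
  have h : ∀ f : A[X], f ∈ originAt P A ↔ f.coeff 0 ∈ maximalIdeal A := fun f => by
    rw [Ideal.mem_comap, mem_origin_iff hP, coe_mapRingHom, coeff_map]
    exact ⟨fun h hu => h (hu.map A.subtype), fun h => map_nonunit A.subtype _ h⟩
  refine le_antisymm (fun f hf => ?_) ?_
  · rw [← X_mul_divX_add f]
    exact Submodule.add_mem _ (Ideal.mul_mem_right _ _ (Ideal.mem_sup_right (Ideal.mem_span_singleton_self _)))
      (Ideal.mem_sup_left (Ideal.mem_map_of_mem _ ((h f).1 hf)))
  · rw [sup_le_iff, Ideal.map_le_iff_le_comap, Ideal.span_singleton_le_iff_mem]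
    exact ⟨fun a ha => (h _).2 (by simpa using ha), (h _).2 (by simp)⟩

variable (P : Ideal R[X]) [P.IsPrime]
  (B : Type u) [CommRing B] [IsLocalRing B] [Algebra (Localization.AtPrime P) B]
  [IsLocalHom (algebraMap (Localization.AtPrime P) B)] [_root_.Hensel.IsHenselization (Localization.AtPrime P) B]

/-- Polynomials in the henselized line. -/
def polyMap : R[X] →+* B := (algebraMap (Localization.AtPrime P) B).comp (algebraMap R[X] (Localization.AtPrime P))

/-- The comparison with the henselized line over a subring. -/
theorem exists_lineHom (A : Subring R) :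
    ∃ β : lineAt P A →+* B, IsLocalHom β ∧ ∀ f : A[X],
      β (polyMap (originAt P A) (lineAt P A) f) = polyMap P B (f.map A.subtype) := by
  haveI : HenselianLocalRing B := _root_.Hensel.IsHenselization.henselian (R := Localization.AtPrime P)
  let f₀ : Localization.AtPrime (originAt P A) →+* Localization.AtPrime P :=
    Localization.localRingHom (originAt P A) P (mapRingHom A.subtype) rfl
  haveI : IsLocalHom f₀ := Localization.isLocalHom_localRingHom _ _ _ rfl
  let f := (algebraMap (Localization.AtPrime P) B).comp f₀
  haveI hf : IsLocalHom f := RingHom.isLocalHom_comp _ _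
  obtain ⟨β, hβ, -⟩ := (inferInstance : _root_.Hensel.IsHenselization (Localization.AtPrime (originAt P A))
    (lineAt P A)).universal B f hf
  refine ⟨β, ?_, fun g => ?_⟩
  · refine ((local_hom_TFAE β).out 0 2 rfl rfl).2 ?_
    rw [← Henselization.map_maximalIdeal, Ideal.map_map, hβ]
    exact ((local_hom_TFAE f).out 0 2 rfl rfl).1 hf
  · show β (algebraMap (Localization.AtPrime (originAt P A)) (lineAt P A)
      (algebraMap A[X] (Localization.AtPrime (originAt P A)) g)) = _
    rw [← RingHom.comp_apply β, hβ]
    show algebraMap (Localization.AtPrime P) B (f₀ _) = _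
    rw [Localization.localRingHom_to_map]
    rfl

/-- A chosen comparison map. -/
def lineHom (A : Subring R) : lineAt P A →+* B := (exists_lineHom P B A).choose

instance isLocalHom_lineHom (A : Subring R) : IsLocalHom (lineHom P B A) := (exists_lineHom P B A).choose_spec.1

theorem lineHom_poly (A : Subring R) (f : A[X]) :
    lineHom P B A (polyMap (originAt P A) (lineAt P A) f) = polyMap P B (f.map A.subtype) :=
  (exists_lineHom P B A).choose_spec.2 f

theorem lineHom_injective [IsDomain R] [IsDomain B] (A : Subring R) [IsIntegrallyClosed A] :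
    Function.Injective (lineHom P B A) := by
  haveI : IsIntegrallyClosed A[X] := inferInstance
  haveI : IsIntegrallyClosed (Localization.AtPrime (originAt P A)) :=
    isIntegrallyClosed_of_isLocalization _ (originAt P A).primeCompl (originAt P A).primeCompl_le_nonZeroDivisors
  haveI := (HensBranch.hz_normal (R := Localization.AtPrime (originAt P A))
    (K := ResidueField (Localization.AtPrime (originAt P A)))).1
  obtain ⟨e⟩ := Henselization.exists_algEquiv_of_isHenselization (Localization.AtPrime P) B
  have hB : Function.Injective (algebraMap (Localization.AtPrime P) B) := by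
    intro x y h
    apply Henselization.algebraMap_injective (R := Localization.AtPrime P) (K := ResidueField (Localization.AtPrime P))
    exact e.injective (by rw [AlgEquiv.commutes, AlgEquiv.commutes, h])
  rw [RingHom.injective_iff_ker_eq_bot]
  haveI : (RingHom.ker (lineHom P B A)).IsPrime := RingHom.ker_isPrime _
  refine (Henselization.eq_of_le_of_comap_eq (P := (⊥ : Ideal (lineAt P A))) (Q := RingHom.ker (lineHom P B A)) bot_le ?_).symm
  rw [← RingHom.ker_eq_comap_bot, RingHom.comap_ker, (RingHom.injective_iff_ker_eq_bot _).1 Henselization.algebraMap_injective,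
    eq_comm, ← RingHom.injective_iff_ker_eq_bot]
  intro x y h
  obtain ⟨a, s, rfl⟩ := IsLocalization.exists_mk'_eq (originAt P A).primeCompl x
  obtain ⟨b, t, rfl⟩ := IsLocalization.exists_mk'_eq (originAt P A).primeCompl y
  rw [IsLocalization.mk'_eq_iff_eq]
  refine congrArg _ (Polynomial.map_injective A.subtype Subtype.val_injective ?_)
  apply IsLocalization.injective (Localization.AtPrime P) P.primeCompl_le_nonZeroDivisors
  apply hB
  show polyMap P B _ = polyMap P B _
  rw [← lineHom_poly, ← lineHom_poly]
  let L := (lineHom P B A).comp (algebraMap (Localization.AtPrime (originAt P A)) (lineAt P A))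
  show L (algebraMap _ _ _) = L (algebraMap _ _ _)
  have ha := congrArg L (IsLocalization.mk'_spec (Localization.AtPrime (originAt P A)) a s)
  have hb := congrArg L (IsLocalization.mk'_spec (Localization.AtPrime (originAt P A)) b t)
  rw [map_mul] at ha hb
  rw [map_mul, map_mul, map_mul, map_mul, ← ha, ← hb, show L (IsLocalization.mk' _ a s) = L (IsLocalization.mk' _ b t) from h]
  ring

theorem range_lineHom_mono {A A' : Subring R} (hAA' : A ≤ A') : (lineHom P B A).range ≤ (lineHom P B A').range := by
  haveI : HenselianLocalRing B := _root_.Hensel.IsHenselization.henselian (R := Localization.AtPrime P)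
  let i := mapRingHom (Subring.inclusion hAA')
  have hi : originAt P A = (originAt P A').comap i := by
    rw [originAt, originAt, Ideal.comap_comap]
    congr 1
    refine Polynomial.ringHom_ext (fun a => ?_) ?_ <;> simp [i]
  let f₀ : Localization.AtPrime (originAt P A) →+* Localization.AtPrime (originAt P A') :=
    Localization.localRingHom (originAt P A) (originAt P A') i hi
  haveI : IsLocalHom f₀ := Localization.isLocalHom_localRingHom _ _ _ hi
  let f := (algebraMap (Localization.AtPrime (originAt P A')) (lineAt P A')).comp f₀
  haveI : HenselianLocalRing (lineAt P A') := (inferInstance : _root_.Hensel.IsHenselization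
    (Localization.AtPrime (originAt P A')) (lineAt P A')).henselian
  obtain ⟨g, hg, -⟩ := (inferInstance : _root_.Hensel.IsHenselization (Localization.AtPrime (originAt P A))
    (lineAt P A)).universal (lineAt P A') f (RingHom.isLocalHom_comp _ f₀)
  haveI hfl : IsLocalHom ((lineHom P B A).comp (algebraMap (Localization.AtPrime (originAt P A)) (lineAt P A))) :=
    RingHom.isLocalHom_comp _ _
  have hcomp : (lineHom P B A').comp g = lineHom P B A := by
    refine (_root_.Hensel.IsHenselization.universal (R := Localization.AtPrime (originAt P A)) (S := lineAt P A) B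
      _ hfl).unique ?_ rfl
    refine IsLocalization.ringHom_ext (originAt P A).primeCompl (RingHom.ext fun x => ?_)
    rw [RingHom.comp_apply, RingHom.comp_apply, RingHom.comp_apply, RingHom.comp_apply, RingHom.comp_apply,
      ← RingHom.comp_apply g, hg]
    show lineHom P B A' (algebraMap _ _ (f₀ _)) = lineHom P B A (polyMap (originAt P A) (lineAt P A) x)
    rw [Localization.localRingHom_to_map, lineHom_poly]
    refine (lineHom_poly P B A' (i x)).trans ?_
    rw [show i x = x.map (Subring.inclusion hAA') from rfl, Polynomial.map_map]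
    rfl
  rintro _ ⟨y, rfl⟩
  exact ⟨g y, RingHom.congr_fun hcomp y⟩

variable {P B}

/-- Every element of the henselized line comes from a stage. -/
theorem exists_lineHom_eq (T : Finset R → Subring R) (hT : Monotone T) (hsub : ∀ s, ↑s ⊆ (T s : Set R)) (b : B) :
    ∃ s, b ∈ (lineHom P B (T s)).range := by
  classical
  haveI : HenselianLocalRing B := _root_.Hensel.IsHenselization.henselian (R := Localization.AtPrime P)
  have hmono : Monotone fun s => (lineHom P B (T s)).range := fun s t h => range_lineHom_mono P B (hT h)
  let U : Subring B := ⨆ s, (lineHom P B (T s)).range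
  have hU : ∀ x, x ∈ U ↔ ∃ s, x ∈ (lineHom P B (T s)).range := fun x =>
    Subring.mem_iSup_of_directed hmono.directed_le
  have hunit : ∀ x : U, IsUnit (x : B) → IsUnit x := fun x hx => by
    obtain ⟨s, y, hy⟩ := (hU x).1 x.2
    obtain ⟨u, hu⟩ := (isLocalHom_lineHom P B (T s)).map_nonunit y (hy.symm ▸ hx)
    refine IsUnit.of_mul_eq_one ⟨lineHom P B (T s) ↑u⁻¹, (hU _).2 ⟨s, _, rfl⟩⟩ (Subtype.ext ?_)
    show (x : B) * lineHom P B (T s) ↑u⁻¹ = 1
    rw [← hy, ← hu, ← map_mul, Units.mul_inv, map_one]
  haveI : IsLocalRing U := IsLocalRing.of_nonunits_add fun x y hx hy h =>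
    (IsLocalRing.nonunits_add (a := (x : B)) (b := (y : B)) (fun hu => hx (hunit x hu)) fun hu => hy (hunit y hu))
      (by simpa using h.map U.subtype)
  haveI : IsLocalHom U.subtype := ⟨fun x hx => hunit x hx⟩
  haveI : HenselianLocalRing U := ⟨fun f hf a₀ hfa hfd => by
    have key : ∀ t : Finset U, ∃ s, ∀ x ∈ t, (x : B) ∈ (lineHom P B (T s)).range := fun t => by
      choose s hs using fun x : U => (hU x).1 x.2
      exact ⟨t.sup s, fun x hx => hmono (Finset.le_sup hx) (hs x)⟩
    obtain ⟨s, hs⟩ := key (insert a₀ f.coeffs)
    obtain ⟨g, hgmap, -, hgm⟩ := Polynomial.lifts_and_degree_eq_and_monic (f := lineHom P B (T s))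
      (p := f.map U.subtype) (by
        rw [Polynomial.lifts_iff_coeff_lifts]
        intro n
        rw [coeff_map]
        by_cases h0 : f.coeff n = 0
        · exact ⟨0, by rw [h0, map_zero, map_zero]⟩
        · exact hs _ (Finset.mem_insert_of_mem (coeff_mem_coeffs h0))) (hf.map _)
    obtain ⟨y₀, hy₀⟩ := hs a₀ (Finset.mem_insert_self _ _)
    have hev : ∀ q : U[X], ∀ r : (lineAt P (T s))[X], r.map (lineHom P B (T s)) = q.map U.subtype →
        lineHom P B (T s) (r.eval y₀) = ((q.eval a₀ : U) : B) := fun q r h => by
      rw [← Polynomial.eval_map_apply, h, hy₀, Polynomial.eval_map]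
      exact (Polynomial.hom_eval₂ q (RingHom.id U) U.subtype a₀).symm
    haveI : HenselianLocalRing (lineAt P (T s)) :=
      (inferInstance : _root_.Hensel.IsHenselization (Localization.AtPrime (originAt P (T s))) (lineAt P (T s))).henselian
    obtain ⟨y, hy, hyy₀⟩ := HenselianLocalRing.is_henselian g hgm y₀ (fun hu => hfa (hunit _ (by
        rw [← hev f g hgmap]; exact hu.map _)))
      ((isLocalHom_lineHom P B (T s)).map_nonunit _ (by
        rw [hev (derivative f) (derivative g) (by rw [← derivative_map, hgmap, derivative_map])]
        exact hfd.map U.subtype))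
    refine ⟨⟨lineHom P B (T s) y, (hU _).2 ⟨s, y, rfl⟩⟩, Subtype.val_injective ?_, ?_⟩
    · show U.subtype (f.eval _) = U.subtype 0
      rw [← Polynomial.eval_map_apply, ← hgmap]
      show (g.map _).eval (lineHom P B (T s) y) = _
      rw [Polynomial.eval_map_apply, hy.eq_zero, map_zero, map_zero]
    · intro hu
      refine hyy₀ ((isLocalHom_lineHom P B (T s)).map_nonunit _ ?_)
      rw [map_sub, hy₀]
      exact hu.map U.subtype⟩
  have hpoly : ∀ p : R[X], polyMap P B p ∈ U := fun p => by
    refine (hU _).2 ⟨p.coeffs, ?_⟩
    obtain ⟨q, hq⟩ : p ∈ Polynomial.lifts (T p.coeffs).subtype := by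
      rw [Polynomial.lifts_iff_coeff_lifts]
      intro n
      by_cases h0 : p.coeff n = 0
      · exact ⟨0, by rw [h0, map_zero]⟩
      · exact ⟨⟨_, hsub _ (coeff_mem_coeffs h0)⟩, rfl⟩
    exact ⟨_, (lineHom_poly P B _ q).trans (congrArg (polyMap P B) hq)⟩
  let h₀ : R[X] →+* U := (polyMap P B).codRestrict U hpoly
  have hu : ∀ y : P.primeCompl, IsUnit (h₀ y) := fun y =>
    hunit _ (show IsUnit (polyMap P B y) from (IsLocalization.map_units (Localization.AtPrime P) y).map (algebraMap _ B))
  let f : Localization.AtPrime P →+* U := IsLocalization.lift (M := P.primeCompl) hu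
  have hf : ∀ z, (f z : B) = algebraMap _ B z := RingHom.congr_fun
    (IsLocalization.ringHom_ext P.primeCompl (j := U.subtype.comp f) (k := algebraMap (Localization.AtPrime P) B)
      (RingHom.ext fun x => by
        show ((f (algebraMap R[X] _ x) : U) : B) = _
        rw [IsLocalization.lift_eq]; rfl))
  haveI : IsLocalHom f := ⟨fun z hz => isUnit_of_map_unit (algebraMap (Localization.AtPrime P) B) z
    (hf z ▸ hz.map U.subtype)⟩
  obtain ⟨g, hg, -⟩ := _root_.Hensel.IsHenselization.universal (R := Localization.AtPrime P) (S := B) U f inferInstance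
  have hcomp : U.subtype.comp g = RingHom.id B := by
    refine (_root_.Hensel.IsHenselization.universal (R := Localization.AtPrime P) (S := B) B
      (algebraMap _ B) inferInstance).unique ?_ (RingHom.id_comp _)
    exact RingHom.ext fun z => by rw [RingHom.comp_apply, RingHom.comp_apply, ← RingHom.comp_apply g, hg]; exact hf z
  refine (hU b).1 ?_
  rw [show b = U.subtype (g b) from (RingHom.congr_fun hcomp b).symm]
  exact (g b).2

end Groth.Agent.HenLineLib
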