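import Groth.Agent.HenLineLib.Extension
import Groth.Agent.HenLineLib.Union
import Groth.Agent.Henselization.BaseChange
import Mathlib.RingTheory.PolynomialAlgebra
import Mathlib.RingTheory.Localization.BaseChange
import Mathlib.Algebra.Category.Ring.Constructions
import Mathlib.AlgebraicGeometry.Pullbacks
import Mathlib.RingTheory.Algebraic.Integral
import Mathlib.FieldTheory.IsAlgClosed.AlgebraicClosure

/-!
# A geometric fibre of the henselized line as a generic fibre over an absolutely integrally closed ring

For a henselian local ring `A` and an algebraically closed field `K` algebraic over a residue field of `A`, the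
integral closure `R` of `A` in `K` is an absolutely integrally closed local domain with fraction field `K`, and the
henselized line over `R` is the base change of the one over `A`.
-/

set_option autoImplicit false
set_option linter.style.haveILetI false
set_option backward.isDefEq.respectTransparency false
set_option maxHeartbeats 1000000

universe u

open CategoryTheory CategoryTheory.Limits AlgebraicGeometry IsLocalRing Polynomial TensorProduct

noncomputable section

namespace Groth.Agent.HenLineLib

section closure

variable (A : Type u) [CommRing A] [HenselianLocalRing A] (K : Type u) [CommRing K] [IsDomain K] [Algebra A K]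

/-- The integral closure of a henselian local ring in a domain is local. -/
theorem isLocalRing_integralClosure : IsLocalRing (integralClosure A K) := by
  refine IsLocalRing.of_nonunits_add fun {x y} hx hy hu => ?_
  obtain ⟨z, hz⟩ := hu.exists_right_inv
  let S := Algebra.adjoin A ({x, y, z} : Set (integralClosure A K))
  haveI : Module.Finite A S := ⟨(Submodule.fg_top _).2 (fg_adjoin_of_finite (Set.toFinite _)
    fun w _ => (isIntegral_algHom_iff (integralClosure A K).val Subtype.val_injective).1 w.2)⟩
  haveI : IsLocalRing S := isLocalRing_of_finite_domain A S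
  have mem : ∀ w ∈ ({x, y, z} : Set (integralClosure A K)), w ∈ S := fun w hw => Algebra.subset_adjoin hw
  have nu : ∀ (w : S), (w : integralClosure A K) ∈ nonunits (integralClosure A K) → w ∈ nonunits S :=
    fun w hw h => hw (h.map S.val)
  refine IsLocalRing.nonunits_add (nu ⟨x, mem x (by simp)⟩ hx) (nu ⟨y, mem y (by simp)⟩ hy) ?_
  exact IsUnit.of_mul_eq_one ⟨z, mem z (by simp)⟩ (Subtype.ext hz)

/-- The integral closure is local over the henselian local ring. -/
theorem isLocalHom_integralClosure [IsLocalRing (integralClosure A K)] :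
    IsLocalHom (algebraMap A (integralClosure A K)) := by
  refine ((local_hom_TFAE (algebraMap A (integralClosure A K))).out 0 4 rfl rfl).mpr ?_
  exact eq_maximalIdeal (Ideal.isMaximal_comap_of_isIntegral_of_isMaximal (maximalIdeal (integralClosure A K)))

end closure

section field

variable (A : Type u) [CommRing A] (K : Type u) [Field K] [Algebra A K]

/-- The integral closure in an algebraically closed field has roots. -/
theorem monicRoot_integralClosure [IsAlgClosed K] : AICCover.MonicRoot (integralClosure A K) := by
  intro p hp hdeg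
  obtain ⟨r, hr⟩ := IsAlgClosed.exists_eval₂_eq_zero_of_injective (algebraMap (integralClosure A K) K)
    Subtype.val_injective p (Polynomial.natDegree_pos_iff_degree_pos.1 hdeg).ne'
  have hrA : IsIntegral A r := isIntegral_trans r (⟨p, hp, hr⟩ : IsIntegral (integralClosure A K) r)
  refine ⟨⟨r, hrA⟩, ?_⟩
  apply Subtype.val_injective
  show algebraMap (integralClosure A K) K (p.eval ⟨r, hrA⟩) = 0
  rw [← Polynomial.eval₂_at_apply]
  exact hr

/-- The integral closure in a field algebraic over a residue field has that field as fraction field. -/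
theorem isFractionRing_integralClosure (𝔭 : Ideal A) [𝔭.IsPrime] [Algebra 𝔭.ResidueField K]
    [IsScalarTower A 𝔭.ResidueField K] [Algebra.IsAlgebraic 𝔭.ResidueField K] :
    IsFractionRing (integralClosure A K) K := by
  letI : Algebra (A ⧸ 𝔭) K := ((algebraMap 𝔭.ResidueField K).comp (algebraMap (A ⧸ 𝔭) 𝔭.ResidueField)).toAlgebra
  haveI : IsScalarTower (A ⧸ 𝔭) 𝔭.ResidueField K := IsScalarTower.of_algebraMap_eq' rfl
  haveI : IsScalarTower A (A ⧸ 𝔭) K := IsScalarTower.of_algebraMap_eq fun a => by
    rw [IsScalarTower.algebraMap_apply A 𝔭.ResidueField K, IsScalarTower.algebraMap_apply (A ⧸ 𝔭) 𝔭.ResidueField K,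
      ← IsScalarTower.algebraMap_apply A (A ⧸ 𝔭) 𝔭.ResidueField]
  haveI : FaithfulSMul (A ⧸ 𝔭) K := (faithfulSMul_iff_algebraMap_injective _ _).2
    ((algebraMap 𝔭.ResidueField K).injective.comp (IsFractionRing.injective (A ⧸ 𝔭) 𝔭.ResidueField))
  haveI : Algebra.IsAlgebraic (A ⧸ 𝔭) 𝔭.ResidueField :=
    IsLocalization.isAlgebraic 𝔭.ResidueField (nonZeroDivisors (A ⧸ 𝔭))
  haveI : Algebra.IsAlgebraic (A ⧸ 𝔭) K := Algebra.IsAlgebraic.trans (A ⧸ 𝔭) 𝔭.ResidueField K
  haveI : Algebra.IsIntegral A (A ⧸ 𝔭) := Algebra.IsIntegral.of_surjective (Ideal.Quotient.mkₐ A 𝔭)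
    Ideal.Quotient.mk_surjective
  refine ⟨⟨fun s => (map_ne_zero_iff _ Subtype.val_injective).2 (nonZeroDivisors.ne_zero s.2) |>.isUnit,
    fun z => ?_, fun {x y} h => ⟨1, by rw [Subtype.val_injective h]⟩⟩⟩
  obtain ⟨a, ha, hz⟩ := (Algebra.IsAlgebraic.isAlgebraic (R := A ⧸ 𝔭) z).exists_integral_multiple
  have hza : IsIntegral A (a • z) := isIntegral_trans _ hz
  have haK : IsIntegral A (algebraMap (A ⧸ 𝔭) K a) :=
    (Algebra.IsIntegral.isIntegral (R := A) a).map (IsScalarTower.toAlgHom A (A ⧸ 𝔭) K)
  have hne : (⟨algebraMap (A ⧸ 𝔭) K a, haK⟩ : integralClosure A K) ≠ 0 := fun h => ha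
    (FaithfulSMul.algebraMap_injective (A ⧸ 𝔭) K
      ((congrArg Subtype.val h).trans (map_zero (algebraMap (A ⧸ 𝔭) K)).symm))
  refine ⟨⟨⟨a • z, hza⟩, ⟨⟨algebraMap (A ⧸ 𝔭) K a, haK⟩, mem_nonZeroDivisors_of_ne_zero hne⟩⟩, ?_⟩
  show z * algebraMap (A ⧸ 𝔭) K a = a • z
  rw [Algebra.smul_def, mul_comm]

end field

/-- The origin of the affine line over a local ring is the preimage of the maximal ideal under evaluation at zero. -/
theorem origin_eq_comap {R : Type u} [CommRing R] [IsLocalRing R] :
    (maximalIdeal R).map (C : R →+* R[X]) ⊔ Ideal.span {X} = (maximalIdeal R).comap constantCoeff := by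
  refine le_antisymm (sup_le (Ideal.map_le_iff_le_comap.2 fun r hr => ?_) ?_) fun f hf => ?_
  · simpa [Ideal.mem_comap] using hr
  · rw [Ideal.span_le, Set.singleton_subset_iff]
    simp [SetLike.mem_coe, Ideal.mem_comap]
  · rw [← f.X_mul_divX_add]
    refine add_mem (Ideal.mem_sup_right (Ideal.mul_mem_right _ _ (Ideal.mem_span_singleton_self X))) ?_
    exact Ideal.mem_sup_left (Ideal.mem_map_of_mem _ hf)

theorem isMaximal_origin {R : Type u} [CommRing R] [IsLocalRing R] (P : Ideal R[X])
    (hP : P = (maximalIdeal R).map C ⊔ Ideal.span {X}) : P.IsMaximal := by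
  rw [hP, origin_eq_comap]
  exact Ideal.comap_isMaximal_of_surjective _ fun r => ⟨C r, by simp⟩

attribute [local instance] Polynomial.algebra

theorem isIntegral_polynomial (A R : Type u) [CommRing A] [CommRing R] [Algebra A R] [Algebra.IsIntegral A R] :
    Algebra.IsIntegral A[X] R[X] := by
  refine ⟨fun f => ?_⟩
  induction f using Polynomial.induction_on with
  | C r =>
    exact ((Algebra.IsIntegral.isIntegral (R := A) r).map (IsScalarTower.toAlgHom A R R[X])).tower_top
  | add p q hp hq => exact hp.add hq
  | monomial n r h =>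
    rw [pow_succ, ← mul_assoc]
    refine h.mul ?_
    rw [show (X : R[X]) = algebraMap A[X] R[X] X by rw [Polynomial.algebraMap_def, coe_mapRingHom, map_X]]
    exact isIntegral_algebraMap

/-- **The henselized line over an integral local extension is the base change of the henselized line.** -/
theorem exists_line_model (A : Type u) [CommRing A] [IsLocalRing A] (R : Type u) [CommRing R] [IsLocalRing R]
    [Algebra A R] [Algebra.IsIntegral A R] [IsLocalHom (algebraMap A R)]
    (P : Ideal A[X]) [P.IsPrime] (hP : P = (maximalIdeal A).map C ⊔ Ideal.span {X})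
    (B : Type u) [CommRing B] [IsLocalRing B] [Algebra (Localization.AtPrime P) B]
    [IsLocalHom (algebraMap (Localization.AtPrime P) B)] [_root_.Hensel.IsHenselization (Localization.AtPrime P) B] :
    ∃ (P' : Ideal R[X]) (_ : P'.IsMaximal) (B' : Type u) (_ : CommRing B') (_ : IsLocalRing B')
      (_ : Algebra (Localization.AtPrime P') B') (_ : IsLocalHom (algebraMap (Localization.AtPrime P') B'))
      (_ : _root_.Hensel.IsHenselization (Localization.AtPrime P') B') (g : B →+* B'),
      P' = (maximalIdeal R).map C ⊔ Ideal.span {X} ∧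
      (∀ f : A[X], g (polyMap P B f) = polyMap P' B' (f.map (algebraMap A R))) ∧
      CategoryTheory.IsPushout (CommRingCat.ofHom ((polyMap P B).comp C)) (CommRingCat.ofHom (algebraMap A R))
        (CommRingCat.ofHom g) (CommRingCat.ofHom ((polyMap P' B').comp C)) := by
  obtain ⟨P', hP'⟩ : ∃ P' : Ideal R[X], P' = (maximalIdeal R).map C ⊔ Ideal.span {X} := ⟨_, rfl⟩
  haveI hPmax : P.IsMaximal := isMaximal_origin P hP
  haveI hP'max : P'.IsMaximal := isMaximal_origin P' hP'
  haveI : Algebra.IsIntegral A[X] R[X] := isIntegral_polynomial A R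
  have hover : P = P'.comap (algebraMap A[X] R[X]) := by
    rw [hP, hP', origin_eq_comap, origin_eq_comap, Ideal.comap_comap]
    ext f
    simp only [Ideal.mem_comap, RingHom.comp_apply, Polynomial.algebraMap_def, coe_mapRingHom,
      constantCoeff_apply, coeff_map, mem_maximalIdeal, mem_nonunits_iff]
    exact not_congr ⟨fun h => h.map _, fun h => IsUnit.of_map _ _ h⟩
  letI : Algebra (Localization.AtPrime P) (Localization.AtPrime P') :=
    (Localization.localRingHom P P' (algebraMap A[X] R[X]) hover).toAlgebra
  haveI : IsLocalHom (algebraMap (Localization.AtPrime P) (Localization.AtPrime P')) :=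
    Localization.isLocalHom_localRingHom P P' (algebraMap A[X] R[X]) hover
  haveI : IsScalarTower A[X] (Localization.AtPrime P) (Localization.AtPrime P') :=
    IsScalarTower.of_algebraMap_eq fun f => by
      rw [IsScalarTower.algebraMap_apply A[X] R[X] (Localization.AtPrime P')]
      exact (Localization.localRingHom_to_map P P' (algebraMap A[X] R[X]) hover f).symm
  let S := Algebra.algebraMapSubmonoid R[X] P.primeCompl
  have hS : S ≤ P'.primeCompl := by
    rintro _ ⟨f, hf, rfl⟩ h
    exact hf (hover ▸ h)
  have hunit : ∀ r ∈ P'.primeCompl, IsUnit (algebraMap R[X] (Localization S) r) := fun r hr => by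
    by_contra hu
    obtain ⟨M, hM, hrM⟩ := exists_max_ideal_of_mem_nonunits hu
    let Q := M.comap (algebraMap R[X] (Localization S))
    have hQP : Q.comap (algebraMap A[X] R[X]) ≤ P := fun f hf => by
      by_contra hfP
      exact hM.ne_top (Ideal.eq_top_of_isUnit_mem M hf
        (IsLocalization.map_units (Localization S) (⟨_, f, hfP, rfl⟩ : S)))
    obtain ⟨Q₁, hle, hQ₁, hQ₁P⟩ := Ideal.exists_ideal_over_prime_of_isIntegral P Q hQP
    haveI : Q₁.IsPrime := hQ₁
    have hQ₁max : Q₁.IsMaximal := Ideal.isMaximal_of_isIntegral_of_isMaximal_comap Q₁ (hQ₁P.symm ▸ hPmax)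
    have hle' : P' ≤ Q₁ := by
      have hC : (Q₁.comap (C : R →+* R[X])).IsMaximal := by
        refine Ideal.isMaximal_of_isIntegral_of_isMaximal_comap (R := A) _ ?_
        have : (Q₁.comap (C : R →+* R[X])).comap (algebraMap A R) = maximalIdeal A := by
          ext a
          rw [Ideal.mem_comap, Ideal.mem_comap, show C (algebraMap A R a) = algebraMap A[X] R[X] (C a) by
            rw [Polynomial.algebraMap_def, coe_mapRingHom, map_C], ← Ideal.mem_comap, hQ₁P, hP, origin_eq_comap,
            Ideal.mem_comap, constantCoeff_apply, coeff_C_zero]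
        rw [this]
        exact maximalIdeal.isMaximal A
      rw [hP', sup_le_iff, Ideal.map_le_iff_le_comap, eq_maximalIdeal hC, Ideal.span_le, Set.singleton_subset_iff]
      refine ⟨le_rfl, ?_⟩
      have : (X : A[X]) ∈ Q₁.comap (algebraMap A[X] R[X]) := by
        rw [hQ₁P, hP]; exact Ideal.mem_sup_right (Ideal.mem_span_singleton_self X)
      simpa [Ideal.mem_comap, Polynomial.algebraMap_def] using this
    exact hr (hP'max.eq_of_le hQ₁max.ne_top hle' ▸ hle hrM)
  haveI : IsLocalization P'.primeCompl (Localization S) := IsLocalization.of_le S _ hS hunit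
  haveI hloc : IsLocalization S (Localization.AtPrime P') :=
    IsLocalization.isLocalization_of_algEquiv S
      (IsLocalization.algEquiv P'.primeCompl (Localization S) (Localization.AtPrime P'))
  haveI : Algebra.IsIntegral (Localization.AtPrime P) (Localization.AtPrime P') := ⟨fun z => by
    obtain ⟨x, ⟨_, f, hf, rfl⟩, rfl⟩ := IsLocalization.exists_mk'_eq S z
    have h1 : IsIntegral (Localization.AtPrime P) (algebraMap R[X] (Localization.AtPrime P') x) :=
      ((Algebra.IsIntegral.isIntegral (R := A[X]) x).map
        (IsScalarTower.toAlgHom A[X] R[X] (Localization.AtPrime P'))).tower_top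
    obtain ⟨v, hv⟩ := (IsLocalization.map_units (Localization.AtPrime P) (⟨f, hf⟩ : P.primeCompl)).exists_right_inv
    suffices e : IsLocalization.mk' (Localization.AtPrime P') x (⟨_, f, hf, rfl⟩ : S) =
        algebraMap R[X] (Localization.AtPrime P') x *
          algebraMap (Localization.AtPrime P) (Localization.AtPrime P') v by
      exact (congrArg (IsIntegral (Localization.AtPrime P)) e).mpr (h1.mul isIntegral_algebraMap)
    rw [IsLocalization.mk'_eq_iff_eq_mul, mul_assoc]
    show _ = _ * (_ * algebraMap R[X] (Localization.AtPrime P') (algebraMap A[X] R[X] f))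
    rw [← IsScalarTower.algebraMap_apply A[X] R[X], IsScalarTower.algebraMap_apply A[X] (Localization.AtPrime P),
      ← map_mul (algebraMap (Localization.AtPrime P) (Localization.AtPrime P')), mul_comm v, hv, map_one, mul_one]⟩
  obtain ⟨hB', hB'loc, hB'hen⟩ :=
    Henselization.exists_isHenselization_tensor (Localization.AtPrime P) (Localization.AtPrime P') B
  refine ⟨P', hP'max, Localization.AtPrime P' ⊗[Localization.AtPrime P] B, inferInstance, hB', inferInstance,
    hB'loc, hB'hen, (Algebra.TensorProduct.includeRight :
      B →ₐ[Localization.AtPrime P] Localization.AtPrime P' ⊗[Localization.AtPrime P] B).toRingHom, hP', fun f => ?_, ?_⟩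
  · show (1 : Localization.AtPrime P') ⊗ₜ[Localization.AtPrime P] algebraMap (Localization.AtPrime P) B _ = _
    rw [← Algebra.TensorProduct.algebraMap_apply', Algebra.TensorProduct.algebraMap_apply,
      ← IsScalarTower.algebraMap_apply A[X] (Localization.AtPrime P),
      IsScalarTower.algebraMap_apply A[X] R[X] (Localization.AtPrime P')]
    rfl
  · have sq1 := CommRingCat.isPushout_iff_isPushout.mpr (inferInstance : Algebra.IsPushout A A[X] R R[X])
    have sq2 := CommRingCat.isPushout_iff_isPushout.mpr
      (Algebra.isPushout_of_isLocalization P.primeCompl (Localization.AtPrime P) R[X] (Localization.AtPrime P')).symm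
    have sq3 := (CommRingCat.isPushout_tensorProduct (Localization.AtPrime P) (Localization.AtPrime P') B).flip
    have h := (sq1.paste_horiz sq2).paste_horiz sq3
    exact h

/-- Pulling back the henselized line to an algebra over the integral extension. -/
theorem exists_pullback_iso {A R K B B' : CommRingCat.{u}} {φ : A ⟶ B} {ι : A ⟶ R} {g : B ⟶ B'} {φ' : R ⟶ B'}
    (h : CategoryTheory.IsPushout φ ι g φ') (σ : R ⟶ K) :
    ∃ e : pullback (Spec.map φ') (Spec.map σ) ≅ pullback (Spec.map φ) (Spec.map (ι ≫ σ)),
      e.hom ≫ pullback.fst _ _ = pullback.fst _ _ ≫ Spec.map g ∧ e.hom ≫ pullback.snd _ _ = pullback.snd _ _ := by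
  have sq : IsPullback (pullback.fst (Spec.map φ') (Spec.map σ) ≫ Spec.map g) (pullback.snd (Spec.map φ') (Spec.map σ))
      (Spec.map φ) (Spec.map (ι ≫ σ)) := by
    rw [Spec.map_comp]
    exact (IsPullback.of_hasPullback (Spec.map φ') (Spec.map σ)).paste_horiz
      (isPullback_SpecMap_of_isPushout φ ι g φ' h)
  exact ⟨sq.isoPullback, sq.isoPullback_hom_fst, sq.isoPullback_hom_snd⟩

end Groth.Agent.HenLineLib
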