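import Groth.Agent.HenLineLib.Split
import Mathlib.RingTheory.Trace.Basic
import Mathlib.LinearAlgebra.Trace
import Mathlib.RingTheory.Smooth.Fiber
import Mathlib.RingTheory.IntegralClosure.IntegrallyClosed
import Mathlib.RingTheory.Localization.BaseChange
import Mathlib.RingTheory.DedekindDomain.IntegralClosure

/-!
# Separability elements inside a field extension
-/

set_option autoImplicit false
set_option linter.style.haveILetI false
set_option backward.isDefEq.respectTransparency false

universe u

open TensorProduct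

noncomputable section

namespace Groth.Agent.HenLineLib

variable {F M : Type u} [Field F] [Field M] [Algebra F M] [FiniteDimensional F M]

/-- The trace of the second factor. -/
theorem trace_tmul (a b : M) : Algebra.trace M (M ⊗[F] M) (a ⊗ₜ b) = a * algebraMap F M (Algebra.trace F M b) := by
  have h : Algebra.lmul M (M ⊗[F] M) (a ⊗ₜ b) = a • (Algebra.lmul F M b).baseChange M := by
    refine LinearMap.ext fun w => ?_
    induction w using TensorProduct.induction_on with
    | zero => simp
    | tmul p q => simp [TensorProduct.smul_tmul']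
    | add p q hp hq => rw [map_add, map_add, hp, hq]
  rw [Algebra.trace_apply, h, map_smul, LinearMap.trace_baseChange, smul_eq_mul, Algebra.trace_apply]

/-- The dual basis property of a separability element. -/
theorem sum_trace_smul {n : ℕ} (x y : Fin n → M) {c : M} (hmul : ∑ i, y i * x i = c)
    (hann : ∀ z : M, ((1 : M) ⊗ₜ[F] z - z ⊗ₜ[F] (1 : M)) * ∑ i, y i ⊗ₜ[F] x i = 0) (z : M) :
    ∑ i, y i * algebraMap F M (Algebra.trace F M (z * x i)) = z * c := by
  let t : M ⊗[F] M := ∑ i, y i ⊗ₜ[F] x i
  let μ : M ⊗[F] M →ₗ[M] M :=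
    (Algebra.TensorProduct.lift (AlgHom.id M M) (AlgHom.id F M) fun _ _ => Commute.all _ _).toLinearMap
  have h1 : ∀ z : M, (1 ⊗ₜ[F] z) * t = (z ⊗ₜ[F] (1 : M)) * t := fun z => by
    rw [← sub_eq_zero, ← sub_mul]; exact hann z
  have h2 : ∀ w : M ⊗[F] M, w * t = μ w • t := fun w => by
    induction w using TensorProduct.induction_on with
    | zero => simp
    | tmul p q =>
      rw [show (p ⊗ₜ[F] q : M ⊗[F] M) = (p ⊗ₜ[F] (1 : M)) * ((1 : M) ⊗ₜ[F] q) by simp, mul_assoc, h1, ← mul_assoc,
        Algebra.TensorProduct.tmul_mul_tmul, mul_one, Algebra.smul_def, Algebra.TensorProduct.algebraMap_apply]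
      simp [μ]
    | add p q hp hq => rw [add_mul, hp, hq, map_add, add_smul]
  have h3 : Algebra.trace M (M ⊗[F] M) t = c := by
    have : Algebra.lmul M (M ⊗[F] M) t = μ.smulRight t := LinearMap.ext fun w => by
      rw [LinearMap.smulRight_apply, ← h2, mul_comm]; rfl
    rw [Algebra.trace_apply, this, LinearMap.trace_smulRight, ← hmul]
    simp [t, μ]
  have h4 : Algebra.trace M (M ⊗[F] M) ((1 ⊗ₜ[F] z) * t) = z * c := by
    rw [h1, show (z ⊗ₜ[F] (1 : M)) * t = z • t by
      rw [Algebra.smul_def, Algebra.TensorProduct.algebraMap_apply]; rfl, map_smul, h3, smul_eq_mul]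
  rw [← h4, Finset.mul_sum, map_sum]
  refine Finset.sum_congr rfl fun i _ => ?_
  rw [Algebra.TensorProduct.tmul_mul_tmul, one_mul, trace_tmul]

variable {B C : Type u} [CommRing B] [IsDomain B] [IsIntegrallyClosed B] [CommRing C] [Algebra B C]
  [Algebra B F] [IsFractionRing B F] [Algebra B M] [IsScalarTower B F M] [Algebra C M] [IsScalarTower B C M]
  [IsIntegralClosure C B M]

/-- Algebras with a separability element in the generic fibre are etale away from its norm. -/
theorem formallyEtale_of_pairs [IsNoetherianRing B] [Algebra.IsSeparable F M] {n : ℕ} (x y : Fin n → C) {g : B}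
    {m : ℕ} (hmul : ∑ i, y i * x i = algebraMap B C (g ^ m))
    (hann : ∀ z : M, ((1 : M) ⊗ₜ[F] z - z ⊗ₜ[F] (1 : M)) *
      ∑ i, algebraMap C M (y i) ⊗ₜ[F] algebraMap C M (x i) = 0) :
    Algebra.FormallyEtale B (Localization.Away (algebraMap B C g)) := by
  classical
  haveI : Module.Finite B C := IsIntegralClosure.finite B F M C
  have hinj : Function.Injective (algebraMap C M) := IsIntegralClosure.algebraMap_injective C B M
  haveI : IsDomain C := hinj.isDomain _
  have hBF := IsFractionRing.injective B F
  -- the coordinate functionals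
  have hint : ∀ (z : C) (i : Fin n), ∃ b : B, algebraMap B F b = Algebra.trace F M (algebraMap C M (z * x i)) :=
    fun z i => IsIntegrallyClosed.isIntegral_iff.1 (Algebra.isIntegral_trace
      ((IsIntegralClosure.isIntegral B M (z * x i)).map (IsScalarTower.toAlgHom B C M)))
  choose φ hφ using hint
  let Φ : C →ₗ[B] Fin n → B :=
    { toFun := φ
      map_add' := fun p q => funext fun i => hBF (by simp [hφ, add_mul, map_add])
      map_smul' := fun b p => funext fun i => hBF (by
        simp only [RingHom.id_apply, Pi.smul_apply, smul_eq_mul]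
        rw [map_mul (algebraMap B F), hφ, hφ, smul_mul_assoc, ← IsScalarTower.coe_toAlgHom' B C M, map_smul,
          ← algebraMap_smul F b, map_smul, smul_eq_mul]) }
  let Ψ : (Fin n → B) →ₗ[B] C := Fintype.linearCombination B y
  have hΨΦ : ∀ z : C, Ψ (Φ z) = g ^ m • z := fun z => hinj (by
    have h := sum_trace_smul (fun i => algebraMap C M (x i)) (fun i => algebraMap C M (y i))
      (c := algebraMap B M (g ^ m)) (by
        rw [IsScalarTower.algebraMap_apply B C M, ← hmul, map_sum]
        simp [map_mul]) hann (algebraMap C M z)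
    rw [Algebra.smul_def, map_mul, ← IsScalarTower.algebraMap_apply B C M, mul_comm (algebraMap B M _), ← h,
      Fintype.linearCombination_apply, map_sum]
    refine Finset.sum_congr rfl fun i _ => ?_
    rw [Algebra.smul_def, map_mul, ← IsScalarTower.algebraMap_apply B C M, IsScalarTower.algebraMap_apply B F M,
      show algebraMap B F (Φ z i) = _ from hφ z i, map_mul, mul_comm])
  -- the separability element
  let ρ : C ⊗[B] C →ₗ[B] Fin n → Fin n → B :=
    TensorProduct.lift (LinearMap.mk₂ B (fun p q i j => φ p i * φ q j)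
      (fun p p' q => funext fun i => funext fun j => by
        show φ (p + p') i * _ = _
        rw [show φ (p + p') = φ p + φ p' from Φ.map_add p p', Pi.add_apply, add_mul]; rfl)
      (fun b p q => funext fun i => funext fun j => by
        show φ (b • p) i * _ = _
        rw [show φ (b • p) = b • φ p from Φ.map_smul b p, Pi.smul_apply, smul_eq_mul, mul_assoc]; rfl)
      (fun p q q' => funext fun i => funext fun j => by
        show _ * φ (q + q') j = _
        rw [show φ (q + q') = φ q + φ q' from Φ.map_add q q', Pi.add_apply, mul_add]; rfl)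
      (fun b p q => funext fun i => funext fun j => by
        show _ * φ (b • q) j = _
        rw [show φ (b • q) = b • φ q from Φ.map_smul b q, Pi.smul_apply, smul_eq_mul, mul_left_comm]; rfl))
  let G : C ⊗[B] C →ₐ[B] M ⊗[F] M :=
    Algebra.TensorProduct.lift
      ((Algebra.TensorProduct.includeLeft (S := F) (A := M) (B := M)).restrictScalars B |>.comp (IsScalarTower.toAlgHom B C M))
      ((Algebra.TensorProduct.includeRight (R := F) (A := M) (B := M)).restrictScalars B |>.comp (IsScalarTower.toAlgHom B C M))
      fun _ _ => Commute.all _ _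
  have hG : ∀ p q : C, G (p ⊗ₜ q) = algebraMap C M p ⊗ₜ[F] algebraMap C M q := fun p q => by simp [G]
  let Tr2 : Fin n → Fin n → M ⊗[F] M →ₗ[F] F := fun i j => TensorProduct.lift
    ((LinearMap.mul F F).compl₁₂ (Algebra.trace F M ∘ₗ LinearMap.mulRight F (algebraMap C M (x i)))
      (Algebra.trace F M ∘ₗ LinearMap.mulRight F (algebraMap C M (x j))))
  have hρ : ∀ w i j, algebraMap B F (ρ w i j) = Tr2 i j (G w) := fun w i j => by
    induction w using TensorProduct.induction_on with
    | zero => simp
    | tmul p q => simp [ρ, Tr2, hG, hφ]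
    | add p q hp hq => simp [map_add, hp, hq]
  have hkey : ∀ w : C ⊗[B] C, (g ^ m * g ^ m) • w = ∑ i, ∑ j, ρ w i j • (y i ⊗ₜ[B] y j) := fun w => by
    induction w using TensorProduct.induction_on with
    | zero => simp
    | tmul p q =>
      rw [← TensorProduct.smul_tmul_smul, ← hΨΦ p, ← hΨΦ q, Fintype.linearCombination_apply,
        Fintype.linearCombination_apply, TensorProduct.sum_tmul]
      refine Finset.sum_congr rfl fun i _ => ?_
      rw [TensorProduct.tmul_sum]
      refine Finset.sum_congr rfl fun j _ => ?_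
      rw [TensorProduct.smul_tmul_smul]
      rfl
    | add p q hp hq => simp [map_add, hp, hq, add_smul, Finset.sum_add_distrib]
  have hzero : ∀ w : C ⊗[B] C, G w = 0 → (g ^ m * g ^ m) • w = 0 := fun w hw => by
    rw [hkey]
    refine Finset.sum_eq_zero fun i _ => Finset.sum_eq_zero fun j _ => ?_
    rw [hBF (show algebraMap B F (ρ w i j) = algebraMap B F 0 by rw [hρ, hw, map_zero, map_zero]), zero_smul]
  let t : C ⊗[B] C := (g ^ m * g ^ m) • ∑ i, y i ⊗ₜ[B] x i
  have ht : IsSepElem B (g ^ m * g ^ m * g ^ m) t := by
    refine ⟨?_, fun c => ?_⟩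
    · rw [map_smul, map_sum, map_mul, Algebra.smul_def, ← hmul]
      simp
    · rw [mul_smul_comm]
      apply hzero
      rw [map_mul, map_sub, hG, hG, map_sum, map_one]
      simp only [hG]
      exact hann _
  -- flat and unramified
  let Cg := Localization (Algebra.algebraMapSubmonoid C (Submonoid.powers g))
  let Bg := Localization.Away g
  haveI : IsLocalization (Submonoid.powers (algebraMap B C g)) Cg := by
    rw [show Submonoid.powers (algebraMap B C g) = Algebra.algebraMapSubmonoid C (Submonoid.powers g) from
      (Submonoid.map_powers _ _).symm]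
    infer_instance
  have hu : IsUnit (algebraMap B Bg (g ^ m)) := by
    rw [map_pow]; exact (IsLocalization.Away.algebraMap_isUnit g).pow m
  have huC : IsUnit (algebraMap B Cg (g ^ m)) := by
    rw [IsScalarTower.algebraMap_apply B Bg Cg]; exact hu.map _
  haveI : Algebra.EssFiniteType C Cg := Algebra.EssFiniteType.of_isLocalization Cg (Submonoid.powers (algebraMap B C g))
  haveI : Algebra.EssFiniteType B Cg := Algebra.EssFiniteType.comp B C Cg
  haveI : Algebra.FormallyUnramified B Cg := by
    refine Algebra.FormallyUnramified.iff_exists_tensorProduct.2 ?_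
    let h : C ⊗[B] C →ₐ[B] Cg ⊗[B] Cg :=
      Algebra.TensorProduct.map (IsScalarTower.toAlgHom B C Cg) (IsScalarTower.toAlgHom B C Cg)
    let u := (huC.mul huC).mul huC
    have hg3 : algebraMap B Cg (g ^ m * g ^ m * g ^ m) = u.unit := by simp [u, map_mul]
    refine ⟨((↑(u.unit⁻¹) : Cg) ⊗ₜ[B] (1 : Cg)) * h t, fun s => ?_, ?_⟩
    · obtain ⟨⟨c, ⟨_, k, rfl⟩⟩, hc⟩ := IsLocalization.surj (Submonoid.powers (algebraMap B C g)) s
      have h1 : ((1 : Cg) ⊗ₜ[B] algebraMap C Cg c - algebraMap C Cg c ⊗ₜ[B] (1 : Cg)) * h t = 0 := by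
        have := congrArg h (ht.annihilate c)
        simpa [h, map_mul] using this
      have hgu : IsUnit (algebraMap B (Cg ⊗[B] Cg) (g ^ k)) := by
        rw [IsScalarTower.algebraMap_apply B Cg (Cg ⊗[B] Cg), IsScalarTower.algebraMap_apply B Bg Cg, map_pow]
        exact (((IsLocalization.Away.algebraMap_isUnit g).pow k).map _).map _
      refine hgu.mul_right_eq_zero.1 ?_
      rw [mul_left_comm _ ((↑(u.unit⁻¹) : Cg) ⊗ₜ[B] (1 : Cg)) (h t), mul_left_comm]
      convert mul_zero ((↑(u.unit⁻¹) : Cg) ⊗ₜ[B] (1 : Cg)) using 2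
      rw [← mul_assoc, ← Algebra.smul_def, smul_sub, ← TensorProduct.tmul_smul, TensorProduct.smul_tmul',
        show g ^ k • s = algebraMap C Cg c by
          rw [Algebra.smul_def, ← hc, mul_comm, IsScalarTower.algebraMap_apply B C Cg, map_pow (algebraMap B C)]]
      exact h1
    · rw [map_mul, show Algebra.TensorProduct.lmul' B (h t) = algebraMap C Cg (Algebra.TensorProduct.lmul' B t) from
        AlgHom.congr_fun (show (Algebra.TensorProduct.lmul' B).comp h =
          (IsScalarTower.toAlgHom B C Cg).comp (Algebra.TensorProduct.lmul' B) by ext <;> simp [h]) t,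
        ht.lmul, ← IsScalarTower.algebraMap_apply B C Cg, hg3, Algebra.TensorProduct.lmul'_apply_tmul, mul_one,
        Units.inv_mul]
  haveI : Algebra.FormallyUnramified Bg Cg := Algebra.FormallyUnramified.of_restrictScalars B Bg Cg
  haveI : Module.Finite Bg Cg := Module.Finite.of_isLocalization B C (Submonoid.powers g)
  haveI : IsNoetherianRing Bg := IsLocalization.isNoetherianRing (Submonoid.powers g) Bg inferInstance
  haveI : Algebra.FinitePresentation Bg Cg := Algebra.FinitePresentation.of_finiteType.1 inferInstance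
  let iC : C →ₗ[B] Cg := (IsScalarTower.toAlgHom B C Cg).toLinearMap
  haveI : IsLocalizedModule (Submonoid.powers g) iC :=
    isLocalizedModule_iff_isLocalization.2 (inferInstance : IsLocalization (Algebra.algebraMapSubmonoid C (Submonoid.powers g)) Cg)
  let iF : (Fin n → B) →ₗ[B] Fin n → Bg := LinearMap.pi fun i => Algebra.linearMap B Bg ∘ₗ LinearMap.proj i
  haveI : IsLocalizedModule (Submonoid.powers g) iF := inferInstance
  let ΦL := IsLocalizedModule.mapExtendScalars (Submonoid.powers g) iC iF Bg Φ
  let ΨL := IsLocalizedModule.mapExtendScalars (Submonoid.powers g) iF iC Bg Ψ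
  haveI : Module.Projective Bg Cg := by
    refine Module.Projective.of_split ΦL ((↑(hu.unit⁻¹) : Bg) • ΨL) (LinearMap.ext fun z => ?_)
    have hcomp : ∀ c : C, ΨL (ΦL (iC c)) = iC (g ^ m • c) := fun c => by
      simp only [ΦL, ΨL, IsLocalizedModule.mapExtendScalars_apply_apply, IsLocalizedModule.map_apply, hΨΦ]
    have hext : ΨL ∘ₗ ΦL = algebraMap B Bg (g ^ m) • LinearMap.id := by
      refine LinearMap.restrictScalars_injective B ?_
      refine IsLocalizedModule.ext (Submonoid.powers g) iC (IsLocalizedModule.map_units iC) (LinearMap.ext fun c => ?_)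
      show ΨL (ΦL (iC c)) = algebraMap B Bg (g ^ m) • iC c
      rw [hcomp, map_smul, algebraMap_smul]
    show (↑(hu.unit⁻¹) : Bg) • ΨL (ΦL z) = z
    rw [show ΨL (ΦL z) = algebraMap B Bg (g ^ m) • z from LinearMap.congr_fun hext z, smul_smul,
      IsUnit.val_inv_mul, one_smul]
  haveI : Algebra.Etale Bg Cg := Algebra.Etale.of_formallyUnramified_of_flat
  haveI : Algebra.FormallyEtale B Bg := Algebra.FormallyEtale.of_isLocalization (Submonoid.powers g)
  haveI : Algebra.FormallyEtale B Cg := Algebra.FormallyEtale.comp B Bg Cg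
  exact Algebra.FormallyEtale.of_equiv ((IsLocalization.algEquiv (Submonoid.powers (algebraMap B C g)) Cg
    (Localization.Away (algebraMap B C g))).restrictScalars B)

end Groth.Agent.HenLineLib
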