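import Groth.Agent.HenLineLib.Rigidity
import Groth.Agent.HenLineLib.SepPairs
import Groth.Agent.AICCover.Ring
import Mathlib.FieldTheory.Galois.Basic
import Mathlib.RingTheory.Ideal.GoingUp

/-!
# The sections of a Galois cover with values in a normal ring
-/

set_option autoImplicit false
set_option linter.style.haveILetI false
set_option backward.isDefEq.respectTransparency false

universe u

open TensorProduct

noncomputable section

namespace Groth.Agent.HenLineLib

/-- Integral extensions map to algebraically closed fields. -/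
theorem exists_hom_algClosed {B C K : Type u} [CommRing B] [IsDomain B] [CommRing C] [IsDomain C] [Algebra B C]
    [Algebra.IsIntegral B C] (hBC : Function.Injective (algebraMap B C)) [Field K] [IsAlgClosed K] (f : B →+* K)
    (hf : Function.Injective f) : ∃ g : C →+* K, g.comp (algebraMap B C) = f := by
  letI : Algebra B K := f.toAlgebra
  haveI : Module.IsTorsionFree B K := Module.isTorsionFree_iff_algebraMap_injective.2 hf
  haveI : Module.IsTorsionFree B C := Module.isTorsionFree_iff_algebraMap_injective.2 hBC
  haveI : Algebra.IsAlgebraic B C := Algebra.IsIntegral.isAlgebraic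
  let ψ : C →ₐ[B] K := IsAlgClosed.lift
  exact ⟨ψ.toRingHom, ψ.comp_algebraMap⟩

/-- A homomorphism from a subring lifts to an integral extension with values in an absolutely integrally closed
domain. -/
theorem exists_extension_hom {B C R : Type u} [CommRing B] [CommRing C] [Algebra B C] [Algebra.IsIntegral B C]
    [FaithfulSMul B C] [CommRing R] [IsDomain R] (hR : AICCover.MonicRoot R) (φ : B →+* R) :
    ∃ χ : C →+* R, ∀ b, χ (algebraMap B C b) = φ b := by
  let K := FractionRing R
  haveI : IsAlgClosed K := (hR.of_isLocalization (nonZeroDivisors R) (S := K)).isAlgClosed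
  let f : B →+* K := (algebraMap R K).comp φ
  haveI : (RingHom.ker f).IsPrime := RingHom.ker_isPrime _
  obtain ⟨Q, -, hQp, hQ⟩ := Ideal.exists_ideal_over_prime_of_isIntegral (S := C) (RingHom.ker f) ⊥ (by
    rw [← RingHom.ker_eq_comap_bot, (RingHom.injective_iff_ker_eq_bot _).1 (FaithfulSMul.algebraMap_injective B C)]
    exact bot_le)
  haveI := hQp
  obtain ⟨P, hP⟩ : ∃ P : Ideal B, P = Q.comap (algebraMap B C) := ⟨_, rfl⟩
  haveI hPp : P.IsPrime := by rw [hP]; exact Ideal.IsPrime.comap _
  let iq : B ⧸ P →+* C ⧸ Q := Ideal.quotientMap Q (algebraMap B C) hP.le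
  have hiq : Function.Injective iq := Ideal.quotientMap_injective' hP.ge
  let fq : B ⧸ P →+* K := Ideal.Quotient.lift P f fun a ha => RingHom.mem_ker.1 (hQ ▸ hP ▸ ha)
  have hfq : Function.Injective fq := RingHom.lift_injective_of_ker_le_ideal P _ (hP.trans hQ).ge
  letI : Algebra (B ⧸ P) (C ⧸ Q) := iq.toAlgebra
  have hint : Algebra.IsIntegral (B ⧸ P) (C ⧸ Q) := ⟨fun x => by
    obtain ⟨c, rfl⟩ := Ideal.Quotient.mk_surjective x
    obtain ⟨q, hq, hqc⟩ := Algebra.IsIntegral.isIntegral (R := B) c
    refine ⟨q.map (Ideal.Quotient.mk P), hq.map _, ?_⟩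
    rw [Polynomial.eval₂_map, RingHom.algebraMap_toAlgebra, Ideal.quotientMap_comp_mk, ← Polynomial.hom_eval₂, hqc,
      map_zero]⟩
  haveI := hint
  obtain ⟨ψ, hψ⟩ := exists_hom_algClosed (B := B ⧸ P) (C := C ⧸ Q) hiq fq hfq
  let g : C →+* K := ψ.comp (Ideal.Quotient.mk Q)
  have hg : ∀ b, g (algebraMap B C b) = algebraMap R K (φ b) := fun b => RingHom.congr_fun hψ (Ideal.Quotient.mk P b)
  have hmem : ∀ c, ∃ r : R, algebraMap R K r = g c := fun c => by
    obtain ⟨p, hp, hpc⟩ := Algebra.IsIntegral.isIntegral (R := B) c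
    refine hR.mem_range ⟨p.map φ, hp.map φ, ?_⟩
    rw [Polynomial.eval₂_map, show (algebraMap R K).comp φ = g.comp (algebraMap B C) from
      RingHom.ext fun b => (hg b).symm, ← Polynomial.hom_eval₂, hpc, map_zero]
  choose χ hχ using hmem
  have hinj := IsFractionRing.injective R K
  exact ⟨{ toFun := χ
           map_one' := hinj (by rw [hχ, map_one, map_one])
           map_mul' := fun a b => hinj (by rw [hχ, map_mul, map_mul, hχ, hχ])
           map_zero' := hinj (by rw [hχ, map_zero, map_zero])
           map_add' := fun a b => hinj (by rw [hχ, map_add, map_add, hχ, hχ]) },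
    fun b => hinj ((hχ _).trans (hg b))⟩

/-- A Galois cover, étale after inverting `g`, has as many sections as its degree over a point where `g` does not
vanish, with values in any normal ring containing the values of the dual basis. -/
theorem exists_sections {B A R : Type u} [CommRing B] [IsDomain B] [IsIntegrallyClosed B] [IsNoetherianRing B]
    [CommRing A] [IsDomain A] [IsIntegrallyClosed A] [CommRing R] [IsDomain R] (hR : AICCover.MonicRoot R)
    (ε : B →+* A) (hε : Function.Surjective ε) (κ : A →+* R) (hκ : Function.Injective κ)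
    (F M : Type u) [Field F] [Algebra B F] [IsFractionRing B F] [Field M] [Algebra F M] [FiniteDimensional F M]
    [IsGalois F M] [Algebra B M] [IsScalarTower B F M]
    (C : Type u) [CommRing C] [Algebra B C] [Algebra C M] [IsScalarTower B C M] [IsIntegralClosure C B M]
    {n : ℕ} (x y : Fin n → C) {g : B} (hmul : ∑ i, y i * x i = algebraMap B C g)
    (hann : ∀ z : M, ((1 : M) ⊗ₜ[F] z - z ⊗ₜ[F] (1 : M)) *
      ∑ i, algebraMap C M (y i) ⊗ₜ[F] algebraMap C M (x i) = 0)
    (hg : ε g ≠ 0)
    (hval : ∀ χ : C →+* R, (∀ b, χ (algebraMap B C b) = κ (ε b)) → ∀ i, χ (y i) ∈ κ.range) :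
    ∃ ψ : Fin (Module.finrank F M) → (C →+* A), Function.Injective ψ ∧ ∀ k b, ψ k (algebraMap B C b) = ε b := by
  classical
  haveI : Module.Finite B C := IsIntegralClosure.finite B F M C
  have hinjC : Function.Injective (algebraMap C M) := IsIntegralClosure.algebraMap_injective C B M
  haveI : IsDomain C := hinjC.isDomain _
  have hinjB : Function.Injective (algebraMap B M) := by
    rw [IsScalarTower.algebraMap_eq B F M]
    exact (algebraMap F M).injective.comp (IsFractionRing.injective B F)
  haveI : FaithfulSMul B C := (faithfulSMul_iff_algebraMap_injective B C).2 fun p q h => hinjB (by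
    rw [IsScalarTower.algebraMap_apply B C M, IsScalarTower.algebraMap_apply B C M, h])
  obtain ⟨χ₀, hχ₀⟩ := exists_extension_hom (C := C) hR (κ.comp ε)
  -- the values of a section
  have hA : ∀ χ : C →+* R, (∀ b, χ (algebraMap B C b) = κ (ε b)) → ∀ c, χ c ∈ κ.range := by
    intro χ hχ c
    have htr : ∀ i, ∃ b : B, algebraMap B F b = Algebra.trace F M (algebraMap C M c * algebraMap C M (x i)) :=
      fun i => IsIntegrallyClosed.isIntegral_iff.1 (Algebra.isIntegral_trace (by
        rw [← map_mul]
        exact (IsIntegralClosure.isIntegral B M (c * x i)).map (IsScalarTower.toAlgHom B C M)))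
    choose b hb using htr
    have h1 : ∑ i, y i * algebraMap B C (b i) = c * algebraMap B C g := hinjC (by
      rw [map_sum, map_mul, ← sum_trace_smul (fun i => algebraMap C M (x i)) (fun i => algebraMap C M (y i))
        (c := algebraMap C M (algebraMap B C g)) (by rw [← hmul, map_sum]; simp [map_mul]) hann (algebraMap C M c)]
      refine Finset.sum_congr rfl fun i _ => ?_
      rw [map_mul, ← IsScalarTower.algebraMap_apply B C M, IsScalarTower.algebraMap_apply B F M, hb])
    have h2 := congrArg χ h1
    rw [map_sum, map_mul] at h2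
    simp only [map_mul, hχ] at h2
    choose a ha using hval χ hχ
    simp only [← ha, ← map_mul, ← map_sum] at h2
    obtain ⟨p, hp, hpc⟩ := Algebra.IsIntegral.isIntegral (R := B) c
    let K := FractionRing A
    let u : K := algebraMap A K (∑ i, a i * ε (b i)) / algebraMap A K (ε g)
    have hgK : algebraMap A K (ε g) ≠ 0 := (map_ne_zero_iff _ (IsFractionRing.injective A K)).2 hg
    have hκK : Function.Injective ((algebraMap R (FractionRing R)).comp κ) :=
      (IsFractionRing.injective R _).comp hκ
    obtain ⟨L, hL⟩ : ∃ L : K →+* FractionRing R, ∀ a, L (algebraMap A K a) = algebraMap R _ (κ a) :=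
      ⟨IsFractionRing.lift hκK, fun a => IsFractionRing.lift_algebraMap hκK a⟩
    have hLu : L u = algebraMap R _ (χ c) := by
      have hg' : L (algebraMap A K (ε g)) ≠ 0 := (map_ne_zero_iff _ L.injective).2 hgK
      rw [map_div₀, div_eq_iff hg', hL, hL, h2, map_mul]
    have hu : IsIntegral A u := ⟨p.map ε, hp.map ε, L.injective (by
      rw [Polynomial.hom_eval₂, Polynomial.eval₂_map, hLu,
        show (L.comp (algebraMap A K)).comp ε = (algebraMap R (FractionRing R)).comp (χ.comp (algebraMap B C)) from
          RingHom.ext fun z => by simp [hL, hχ],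
        ← Polynomial.hom_eval₂, ← Polynomial.hom_eval₂, hpc, map_zero, map_zero, map_zero])⟩
    obtain ⟨w, hw⟩ := IsIntegrallyClosed.isIntegral_iff.1 hu
    exact ⟨w, IsFractionRing.injective R (FractionRing R) (by rw [← hL, hw, hLu])⟩
  -- the Galois group on `C`
  have hσ : ∀ σ : M ≃ₐ[F] M, ∃ s : C →ₐ[B] C, ∀ c, algebraMap C M (s c) = σ (algebraMap C M c) := fun σ => by
    let τ : C →ₐ[B] M := (σ.toAlgHom.restrictScalars B).comp (IsScalarTower.toAlgHom B C M)
    choose s hs using fun c => (IsIntegralClosure.isIntegral_iff (A := C) (R := B) (B := M)).1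
      ((IsIntegralClosure.isIntegral B M c).map τ)
    exact ⟨{ toFun := s
             map_one' := hinjC (by rw [hs, map_one, map_one])
             map_mul' := fun p q => hinjC (by rw [hs, map_mul, map_mul, hs, hs])
             map_zero' := hinjC (by rw [hs, map_zero, map_zero])
             map_add' := fun p q => hinjC (by rw [hs, map_add, map_add, hs, hs])
             commutes' := fun r => hinjC (by rw [hs, AlgHom.commutes, ← IsScalarTower.algebraMap_apply]) },
      fun c => hs c⟩
  choose s hs using hσ
  haveI : Algebra.FormallyEtale B (Localization.Away (algebraMap B C g)) :=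
    formallyEtale_of_pairs (F := F) (M := M) x y (g := g) (m := 1) (by rw [pow_one, hmul]) hann
  obtain ⟨m, t, ht⟩ := exists_sepElem (B := B) (C := C) g
  let e : Fin (Module.finrank F M) ≃ (M ≃ₐ[F] M) := (Fintype.equivFinOfCardEq
    (by rw [← Nat.card_eq_fintype_card, IsGalois.card_aut_eq_finrank])).symm
  choose v hv using fun σ c => hA (χ₀.comp (s σ).toRingHom) (fun b => by
    rw [RingHom.comp_apply, AlgHom.toRingHom_eq_coe, RingHom.coe_coe, AlgHom.commutes, hχ₀, RingHom.comp_apply]) c
  refine ⟨fun k =>
    { toFun := v (e k)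
      map_one' := hκ (by rw [hv, map_one, map_one])
      map_mul' := fun p q => hκ (by rw [hv, map_mul, map_mul, hv, hv])
      map_zero' := hκ (by rw [hv, map_zero, map_zero])
      map_add' := fun p q => hκ (by rw [hv, map_add, map_add, hv, hv]) }, ?_, fun k b => hκ ?_⟩
  · intro k l hkl
    apply e.injective
    have h1 : ∀ c, χ₀ (s (e k) c) = χ₀ (s (e l) c) := fun c => by
      have := congrArg κ (RingHom.congr_fun hkl c)
      simp only [RingHom.coe_mk, MonoidHom.coe_mk, OneHom.coe_mk] at this
      rwa [hv, hv] at this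
    have hne : χ₀ (algebraMap B C (g ^ m)) ≠ 0 := by
      rw [hχ₀, RingHom.comp_apply, map_ne_zero_iff _ hκ, map_pow]
      exact pow_ne_zero _ hg
    have heq : s (e k) = s (e l) := eq_of_sepElem ht χ₀ hne h1
    refine AlgEquiv.ext fun z => ?_
    haveI : IsFractionRing C M := IsIntegralClosure.isFractionRing_of_finite_extension B F M C
    obtain ⟨p, q, -, rfl⟩ := IsFractionRing.div_surjective (A := C) z
    rw [map_div₀, map_div₀, ← hs, ← hs, ← hs, ← hs, heq]
  · show κ (v (e k) (algebraMap B C b)) = _
    rw [hv, RingHom.comp_apply, AlgHom.toRingHom_eq_coe, RingHom.coe_coe, AlgHom.commutes, hχ₀, RingHom.comp_apply]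

end Groth.Agent.HenLineLib
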