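import Groth.Agent.HenLineLib.Torsor
import Groth.Agent.HenLineLib.Descent
import Groth.Agent.HenLineLib.Sections
import Mathlib.AlgebraicGeometry.Morphisms.Finite
import Mathlib.AlgebraicGeometry.Morphisms.Etale
import Mathlib.FieldTheory.Normal.Closure
import Mathlib.FieldTheory.IsAlgClosed.AlgebraicClosure
import Mathlib.GroupTheory.Index

/-!
# Torsors over a normal domain without Galois extensions have sections
-/

set_option autoImplicit false
set_option linter.style.haveILetI false
set_option backward.isDefEq.respectTransparency false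
set_option maxHeartbeats 1000000

universe u

open CategoryTheory CategoryTheory.Limits AlgebraicGeometry TensorProduct IntermediateField

noncomputable section

namespace Groth.Agent.HenLineLib

/-- Galois extensions of degree dividing `N` which are étale over the normal domain are trivial. -/
def NoGaloisExt (L F : Type u) [CommRing L] [Field F] [Algebra L F] (N : ℕ) : Prop :=
  ∀ (M : Type u) [Field M] [Algebra F M] [FiniteDimensional F M] [IsGalois F M] [Algebra L M] [IsScalarTower L F M]
    (n : ℕ) (x y : Fin n → M), (∀ i, IsIntegral L (x i)) → (∀ i, IsIntegral L (y i)) → (∑ i, y i * x i = 1) →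
    (∀ z : M, ((1 : M) ⊗ₜ[F] z - z ⊗ₜ[F] (1 : M)) * ∑ i, y i ⊗ₜ[F] x i = 0) →
    Module.finrank F M ∣ N → Module.finrank F M = 1

/-- A field generated by annihilated elements is annihilated. -/
theorem annihilate_of_generated {K E : Type u} [Field K] [Field E] [Algebra K E] {G : Set E}
    (hG : IntermediateField.adjoin K G = ⊤) (w : E ⊗[K] E)
    (hw : ∀ g ∈ G, ((1 : E) ⊗ₜ[K] g - g ⊗ₜ[K] (1 : E)) * w = 0) (s : E) :
    ((1 : E) ⊗ₜ[K] s - s ⊗ₜ[K] (1 : E)) * w = 0 := by
  have hs : s ∈ IntermediateField.adjoin K G := hG ▸ IntermediateField.mem_top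
  induction hs using IntermediateField.adjoin_induction with
  | mem x hx => exact hw x hx
  | algebraMap r => rw [← Algebra.TensorProduct.tmul_one_eq_one_tmul, sub_self, zero_mul]
  | add x y _ _ hx hy => rw [tmul_add, add_tmul, add_sub_add_comm, add_mul, hx, hy, add_zero]
  | inv x _ hx =>
    rcases eq_or_ne x 0 with rfl | hx0
    · rw [inv_zero, tmul_zero, zero_tmul, sub_zero, zero_mul]
    exact annihilate_inverse w (mul_inv_cancel₀ hx0) hx
  | mul x y _ _ hx hy => exact annihilate_mul w hx hy

variable {L F : Type u} [CommRing L] [IsDomain L] [IsIntegrallyClosed L] [Field F] [Algebra L F] [IsFractionRing L F]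

/-- A finite étale algebra with a transitive action of a group on its geometric generic points has a section. -/
theorem exists_retraction (E : Type u) [CommRing E] [Algebra L E] [Algebra.Etale L E] [Module.Finite L E]
    [FaithfulSMul L E] (G : Type*) [Group G] (hgal : NoGaloisExt L F (Nat.card G))
    (τ : G → (E →ₐ[L] E)) (hmul : ∀ c c', τ (c * c') = (τ c).comp (τ c'))
    (htrans : ∀ x y : E →+* AlgebraicClosure F, x.comp (algebraMap L E) = y.comp (algebraMap L E) →
      ∃ c, x.comp (τ c).toRingHom = y) :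
    ∃ r : E →+* L, r.comp (algebraMap L E) = RingHom.id L := by
  classical
  let Ω := AlgebraicClosure F
  have hΩ : AICCover.MonicRoot Ω := fun p _ hd =>
    IsAlgClosed.exists_root p (Polynomial.natDegree_pos_iff_degree_pos.1 hd).ne'
  haveI : IsScalarTower L F Ω := inferInstance
  obtain ⟨x₀, hx₀⟩ := exists_extension_hom (C := E) hΩ (algebraMap L Ω)
  let X : E →ₐ[L] Ω := { x₀ with commutes' := hx₀ }
  obtain ⟨gens, hgens⟩ := (inferInstance : Algebra.FiniteType L E).1
  obtain ⟨M, hM⟩ : ∃ M : IntermediateField F Ω, M = adjoin F (Set.range X) := ⟨_, rfl⟩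
  have hint : ∀ e, IsIntegral L (X e) := fun e => (IsIntegral.of_finite L e).map X
  haveI : FiniteDimensional F M := by
    have hle : M = adjoin F (X '' (gens : Set E)) := by
      rw [hM]
      refine le_antisymm (adjoin_le_iff.2 ?_) (adjoin.mono F _ _ (Set.image_subset_range _ _))
      rintro _ ⟨e, rfl⟩
      have he : e ∈ Algebra.adjoin L (gens : Set E) := hgens ▸ Algebra.mem_top
      induction he using Algebra.adjoin_induction with
      | mem x hx => exact subset_adjoin F _ ⟨x, hx, rfl⟩
      | algebraMap r =>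
        rw [AlgHom.commutes, IsScalarTower.algebraMap_apply L F Ω]
        exact IntermediateField.algebraMap_mem _ _
      | add x y _ _ hx hy => rw [map_add]; exact add_mem hx hy
      | mul x y _ _ hx hy => rw [map_mul]; exact mul_mem hx hy
    rw [hle]
    haveI : Finite (X '' (gens : Set E)) := ((gens.finite_toSet).image X).to_subtype
    exact IntermediateField.finiteDimensional_adjoin fun x hx => by
      obtain ⟨e, -, rfl⟩ := hx
      exact (hint e).tower_top
  have hXM : ∀ e, X e ∈ M := fun e => by rw [hM]; exact subset_adjoin F _ ⟨e, rfl⟩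
  let XM : E →ₐ[L] M :=
    { toFun := fun e => ⟨X e, hXM e⟩
      map_one' := Subtype.ext (map_one X)
      map_mul' := fun p q => Subtype.ext (map_mul X p q)
      map_zero' := Subtype.ext (map_zero X)
      map_add' := fun p q => Subtype.ext (map_add X p q)
      commutes' := fun r => Subtype.ext ((X.commutes r).trans (IsScalarTower.algebraMap_apply L F Ω r)) }
  have hXMval : ∀ e, ((XM e : M) : Ω) = X e := fun e => rfl
  have hgen : adjoin F (Set.range XM) = ⊤ := by
    refine IntermediateField.lift_injective M ?_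
    rw [IntermediateField.lift_adjoin, IntermediateField.lift_top, ← Set.range_comp]
    exact hM.symm
  -- the separability element
  obtain ⟨t, ht, ht1⟩ := Algebra.FormallyUnramified.iff_exists_tensorProduct.1
    (inferInstance : Algebra.FormallyUnramified L E)
  have hsep : IsSepElem L (1 : L) t := ⟨by rw [ht1, map_one], ht⟩
  haveI : Algebra.IsSeparable F M := ⟨fun z => by
    have hz : z ∈ adjoin F (Set.range XM) := hgen ▸ IntermediateField.mem_top
    have h2 : IsSeparable F ((z : M) : Ω) := by
      have h3 : Algebra.IsSeparable F (adjoin F (Set.range X)) := by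
        rw [IntermediateField.isSeparable_adjoin_iff_isSeparable]
        rintro _ ⟨e, rfl⟩
        exact isSeparable_of_sepElem (KA := F) (L := Ω) (algebraMap L F) hsep (by simp) X.toRingHom
          (fun r => (X.commutes r).trans (IsScalarTower.algebraMap_apply L F Ω r)) e
      have h4 : ((z : M) : Ω) ∈ adjoin F (Set.range X) := hM ▸ z.2
      have h5 := h3.isSeparable' (⟨_, h4⟩ : adjoin F (Set.range X))
      have h6 : (minpoly F (⟨_, h4⟩ : adjoin F (Set.range X))).Separable := h5
      rw [← minpoly.algHom_eq (adjoin F (Set.range X)).val (fun p q h => Subtype.ext h) ⟨_, h4⟩,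
        IntermediateField.val_mk] at h6
      exact h6
    show (minpoly F z).Separable
    rw [← minpoly.algHom_eq M.val (fun p q h => Subtype.ext h) z]
    exact h2⟩
  -- stable under the automorphisms
  have htr : ∀ σ : Ω →ₐ[F] Ω, ∃ c, ∀ e, X (τ c e) = σ (X e) := fun σ => by
    obtain ⟨c, hc⟩ := htrans x₀ (σ.toRingHom.comp x₀) (RingHom.ext fun r => by
      show x₀ (algebraMap L E r) = σ (x₀ (algebraMap L E r))
      rw [hx₀, IsScalarTower.algebraMap_apply L F Ω, AlgHom.commutes])
    exact ⟨c, RingHom.congr_fun hc⟩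
  haveI : Normal F M := by
    rw [IntermediateField.normal_iff_forall_map_le]
    intro σ
    rw [hM, adjoin_map]
    refine adjoin_le_iff.2 ?_
    rintro _ ⟨_, ⟨e, rfl⟩, rfl⟩
    obtain ⟨c, hc⟩ := htr σ
    exact subset_adjoin F _ ⟨τ c e, hc e⟩
  haveI : IsGalois F M := ⟨⟩
  have hext : ∀ σ σ' : M ≃ₐ[F] M, (∀ e, σ (XM e) = σ' (XM e)) → σ = σ' := fun σ σ' h => by
    refine AlgEquiv.coe_algHom_injective (IntermediateField.algHom_ext_of_eq_adjoin F hM ?_)
    rintro _ ⟨e, rfl⟩
    exact h e
  have hτ' : ∀ c c' e, τ c (τ c' e) = τ (c * c') e := fun c c' e => by rw [hmul]; rfl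
  -- the degree
  let H : Subgroup G :=
    { carrier := {c | ∃ σ : M ≃ₐ[F] M, ∀ e, σ (XM e) = XM (τ c e)}
      mul_mem' := by
        rintro c c' ⟨σ, hσ⟩ ⟨σ', hσ'⟩
        exact ⟨σ'.trans σ, fun e => by rw [AlgEquiv.trans_apply, hσ', hσ, hmul, AlgHom.comp_apply]⟩
      one_mem' := by
        obtain ⟨c, hc⟩ := htrans x₀ x₀ rfl
        refine ⟨AlgEquiv.refl, fun e => Subtype.ext ?_⟩
        show X e = X (τ 1 e)
        have h1 : ∀ d, X (τ c d) = X d := fun d => RingHom.congr_fun hc d
        calc X e = X (τ c e) := (h1 e).symm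
          _ = X (τ c (τ 1 e)) := by rw [hτ', mul_one]
          _ = X (τ 1 e) := h1 _
      inv_mem' := by
        rintro c ⟨σ, hσ⟩
        obtain ⟨d, hd⟩ := htrans x₀ x₀ rfl
        refine ⟨σ.symm, fun e => σ.injective ?_⟩
        rw [AlgEquiv.apply_symm_apply, hσ]
        refine Subtype.ext ?_
        show X e = X (τ c (τ c⁻¹ e))
        rw [hτ', mul_inv_cancel]
        have h1 : ∀ z, X (τ d z) = X z := fun z => RingHom.congr_fun hd z
        calc X e = X (τ d e) := (h1 e).symm
          _ = X (τ d (τ 1 e)) := by rw [hτ', mul_one]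
          _ = X (τ 1 e) := h1 _ }
  choose φ hφ using fun c : H => c.2
  let Φ : H →* (M ≃ₐ[F] M) :=
    { toFun := φ
      map_one' := hext _ _ fun e => by
        show φ (1 : H) (XM e) = XM e
        rw [hφ]
        refine Subtype.ext ?_
        obtain ⟨d, hd⟩ := htrans x₀ x₀ rfl
        have h1 : ∀ z, X (τ d z) = X z := fun z => RingHom.congr_fun hd z
        show X (τ 1 e) = X e
        calc X (τ 1 e) = X (τ d (τ 1 e)) := (h1 _).symm
          _ = X (τ d e) := by rw [hτ', mul_one]
          _ = X e := h1 _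
      map_mul' := fun c c' => hext _ _ fun e => by
        rw [AlgEquiv.mul_apply, hφ, hφ, hφ]
        show XM (τ ((c * c' : H) : G) e) = _
        rw [Subgroup.coe_mul, hτ'] }
  have hsurj : Function.Surjective Φ := fun σ => by
    obtain ⟨s, hs⟩ : ∃ s : Ω →ₐ[F] Ω, ∀ z : M, s z = ((σ z : M) : Ω) :=
      ⟨(σ.toAlgHom.liftNormal Ω), fun z => σ.toAlgHom.liftNormal_commutes Ω z⟩
    obtain ⟨c, hc⟩ := htr s
    have hce : ∀ e, σ (XM e) = XM (τ c e) := fun e => Subtype.ext (by
      rw [hXMval, hc, ← hXMval, hs])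
    exact ⟨⟨c, σ, hce⟩, hext _ _ fun e => (hφ _ e).trans (hce e).symm⟩
  have hdvd : Module.finrank F M ∣ Nat.card G := by
    rw [← IsGalois.card_aut_eq_finrank]
    exact (Subgroup.card_dvd_of_surjective Φ hsurj).trans H.card_subgroup_dvd_card
  -- the pairs
  obtain ⟨S, hS⟩ := TensorProduct.exists_finset t
  let e := S.equivFin
  let h : E ⊗[L] E →ₐ[L] M ⊗[F] M := Algebra.TensorProduct.lift
    (((Algebra.TensorProduct.includeLeft (S := F) (A := M) (B := M)).restrictScalars L).comp XM)
    (((Algebra.TensorProduct.includeRight (R := F) (A := M) (B := M)).restrictScalars L).comp XM)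
    fun p q => by
      change ((XM p : M) ⊗ₜ[F] (1 : M)) * ((1 : M) ⊗ₜ[F] (XM q : M)) = ((1 : M) ⊗ₜ[F] (XM q : M)) * ((XM p : M) ⊗ₜ[F] (1 : M))
      rw [Algebra.TensorProduct.tmul_mul_tmul, Algebra.TensorProduct.tmul_mul_tmul]
      simp
  have hh : h t = ∑ i : Fin S.card, XM (e.symm i).1.1 ⊗ₜ[F] XM (e.symm i).1.2 := by
    rw [hS, map_sum, ← Finset.sum_coe_sort S, ← e.symm.sum_comp]
    refine Finset.sum_congr rfl fun i _ => ?_
    simp [h]
  have hann : ∀ z : M, ((1 : M) ⊗ₜ[F] z - z ⊗ₜ[F] (1 : M)) *
      ∑ i, XM (e.symm i).1.1 ⊗ₜ[F] XM (e.symm i).1.2 = 0 :=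
    annihilate_of_generated hgen _ fun g hg => by
      obtain ⟨a, rfl⟩ := hg
      rw [← hh]
      have := congrArg h (ht a)
      rw [map_mul, map_sub, map_zero] at this
      simpa [h] using this
  have hsum : ∑ i, XM (e.symm i).1.1 * XM (e.symm i).1.2 = 1 := by
    have h1 := congrArg XM ht1
    rw [map_one, hS, map_sum, map_sum, ← Finset.sum_coe_sort S, ← e.symm.sum_comp] at h1
    simpa using h1
  have hone := hgal M S.card (fun i => XM (e.symm i).1.2) (fun i => XM (e.symm i).1.1)
    (fun i => (IsIntegral.of_finite L _).map XM) (fun i => (IsIntegral.of_finite L _).map XM) hsum hann hdvd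
  have hbot : M = ⊥ := IntermediateField.finrank_eq_one_iff.1 hone
  have hr : ∀ a : E, ∃ r : L, algebraMap L Ω r = X a := fun a => by
    have h1 : X a ∈ (⊥ : IntermediateField F Ω) := hbot ▸ hXM a
    obtain ⟨f, hf⟩ := IntermediateField.mem_bot.1 h1
    have h2 : IsIntegral L f := by
      refine (isIntegral_algebraMap_iff (algebraMap F Ω).injective).1 ?_
      rw [hf]
      exact hint a
    obtain ⟨r, hr⟩ := IsIntegrallyClosed.isIntegral_iff.1 h2
    exact ⟨r, by rw [IsScalarTower.algebraMap_apply L F Ω, hr, hf]⟩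
  choose r hr using hr
  have hinj : Function.Injective (algebraMap L Ω) := by
    rw [IsScalarTower.algebraMap_eq L F Ω]
    exact (algebraMap F Ω).injective.comp (IsFractionRing.injective L F)
  exact ⟨{ toFun := r
           map_one' := hinj (by rw [hr, map_one, map_one])
           map_mul' := fun p q => hinj (by rw [hr, map_mul, map_mul, hr, hr])
           map_zero' := hinj (by rw [hr, map_zero, map_zero])
           map_add' := fun p q => hinj (by rw [hr, map_add, map_add, hr, hr]) },
    RingHom.ext fun l => hinj (by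
      show algebraMap L Ω (r (algebraMap L E l)) = algebraMap L Ω l
      rw [hr, AlgHom.commutes])⟩

/-- **`H¹` of a finite constant group vanishes without Galois extensions.** -/
theorem subsingleton_H1_spec (A : Type) [AddCommGroup A] [Finite A] (hgal : NoGaloisExt L F (Nat.card A)) :
    Subsingleton (EtCoh.H (Spec (CommRingCat.of L)) (EtCoh.const _ A) 1) := by
  refine subsingleton_H1_of_torsor A fun {W} p _ _ _ τ hτ => ?_
  haveI : IsAffine W := isAffine_of_isAffineHom p
  let g : CommRingCat.of L ⟶ Γ(W, ⊤) := Spec.preimage (W.isoSpec.inv ≫ p)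
  have hg : Spec.map g = W.isoSpec.inv ≫ p := Spec.map_preimage _
  haveI : AlgebraicGeometry.Etale (Spec.map g) := by rw [hg]; infer_instance
  haveI : IsFinite (Spec.map g) := by rw [hg]; infer_instance
  haveI : Surjective (Spec.map g) := by rw [hg]; infer_instance
  letI : Algebra L Γ(W, ⊤) := g.hom.toAlgebra
  haveI : Algebra.Etale L Γ(W, ⊤) :=
    RingHom.etale_algebraMap.1 ((HasRingHomProperty.Spec_iff (P := @AlgebraicGeometry.Etale)).1 inferInstance)
  haveI : Module.Finite L Γ(W, ⊤) := RingHom.finite_algebraMap.1 ((IsFinite.SpecMap_iff g).1 inferInstance)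
  haveI : FaithfulSMul L Γ(W, ⊤) := (faithfulSMul_iff_algebraMap_injective L Γ(W, ⊤)).2 (by
    rw [injective_iff_map_eq_zero]
    intro a ha
    by_contra h0
    obtain ⟨w, hw⟩ := ‹Surjective (Spec.map g)›.surj (⟨⊥, Ideal.isPrime_bot⟩ : PrimeSpectrum L)
    have hmem : a ∈ ((Spec.map g) w).asIdeal := by
      show g.hom a ∈ w.asIdeal
      rw [show g.hom a = 0 from ha]
      exact zero_mem _
    rw [hw] at hmem
    exact h0 ((Submodule.mem_bot L).1 hmem))
  let τE : A → (Γ(W, ⊤) ⟶ Γ(W, ⊤)) := fun c => Spec.preimage (W.isoSpec.inv ≫ τ c ≫ W.isoSpec.hom)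
  have hτE : ∀ c, Spec.map (τE c) = W.isoSpec.inv ≫ τ c ≫ W.isoSpec.hom := fun c => Spec.map_preimage _
  have hcomm : ∀ c, g ≫ τE c = g := fun c => Spec.map_injective (by
    rw [Spec.map_comp, hτE, hg]
    simp [hτ.comp_proj])
  let τA : A → (Γ(W, ⊤) →ₐ[L] Γ(W, ⊤)) := fun c =>
    { (τE c).hom with commutes' := fun r => ConcreteCategory.congr_hom (hcomm c) r }
  obtain ⟨r, hr⟩ := exists_retraction (F := F) Γ(W, ⊤) (Multiplicative A) (by rwa [Nat.card_congr Multiplicative.toAdd])
    (fun c => τA c.toAdd) (fun c c' => by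
    have h1 : τE (c.toAdd + c'.toAdd) = τE c'.toAdd ≫ τE c.toAdd := Spec.map_injective (by
      rw [Spec.map_comp, hτE, hτE, hτE, hτ.add]
      simp)
    refine AlgHom.ext fun x => ?_
    exact ConcreteCategory.congr_hom h1 x) (fun x y hxy => by
    obtain ⟨c, hc⟩ := hτ.transitive (Spec.map (CommRingCat.ofHom x) ≫ W.isoSpec.inv)
      (Spec.map (CommRingCat.ofHom y) ≫ W.isoSpec.inv) (by
        rw [Category.assoc, Category.assoc, ← hg, ← Spec.map_comp, ← Spec.map_comp]
        exact congrArg Spec.map (CommRingCat.hom_ext hxy))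
    refine ⟨Multiplicative.ofAdd c, ?_⟩
    have h1 : τE c ≫ CommRingCat.ofHom x = CommRingCat.ofHom y := Spec.map_injective (by
      rw [Spec.map_comp, hτE]
      rw [Category.assoc] at hc
      rw [← Category.assoc W.isoSpec.inv, ← Category.assoc, ← Category.assoc]
      rw [Category.assoc (Spec.map _) W.isoSpec.inv, hc, Category.assoc, Iso.inv_hom_id, Category.comp_id])
    exact congrArg CommRingCat.Hom.hom h1)
  refine ⟨Spec.map (CommRingCat.ofHom r) ≫ W.isoSpec.inv, ?_⟩
  rw [Category.assoc, ← hg, ← Spec.map_comp, ← Spec.map_id]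
  exact congrArg Spec.map (CommRingCat.hom_ext hr)

end Groth.Agent.HenLineLib
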