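import Groth.Agent.HenLineLib.Union
import Groth.Agent.AICCover.Ring
import Mathlib.RingTheory.Unramified.Finite
import Mathlib.RingTheory.AlgebraicIndependent.TranscendenceBasis
import Mathlib.RingTheory.Algebraic.Integral

/-!
# The henselized line over an absolutely integrally closed domain is normal and algebraic over polynomials
-/

set_option autoImplicit false
set_option linter.style.haveILetI false
set_option backward.isDefEq.respectTransparency false

universe u

open IsLocalRing Polynomial TensorProduct

noncomputable section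

namespace Groth.Agent.HenLineLib

theorem isIntegrallyClosed_of_monicRoot {R : Type u} [CommRing R] [IsDomain R] (hR : AICCover.MonicRoot R) :
    IsIntegrallyClosed R :=
  (isIntegrallyClosed_iff (FractionRing R)).2 fun {_} hx => hR.mem_range hx

section Hz

variable {R₀ : Type u} [CommRing R₀] [IsDomain R₀] {K : Type u} [Field K] [Algebra R₀ K]

/-- Elements of a henselization are algebraic. -/
theorem isAlgebraic_hz [IsDomain (Henselization.Hz R₀ K)] (z : Henselization.Hz R₀ K) : IsAlgebraic R₀ z := by
  let H := Henselization.Hz R₀ K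
  have hinj : Function.Injective (algebraMap R₀ H) := by
    intro a b h
    haveI : Module.Flat R₀ H := inferInstance
    by_contra hne
    have hr : IsSMulRegular H (algebraMap R₀ H (a - b)) :=
      (isRegular_iff_ne_zero.2 (sub_ne_zero.2 hne)).left.isSMulRegular.of_flat
    exact one_ne_zero (hr (show _ • (1 : H) = _ • (0 : H) by
      rw [smul_eq_mul, smul_zero, mul_one, map_sub, h, sub_self]))
  let F := FractionRing H
  let F₀ := FractionRing R₀
  have hinjF : Function.Injective (algebraMap R₀ F) := by
    rw [IsScalarTower.algebraMap_eq R₀ H F]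
    exact (IsFractionRing.injective H F).comp hinj
  letI : Algebra F₀ F := (IsFractionRing.lift hinjF).toAlgebra
  haveI : IsScalarTower R₀ F₀ F := IsScalarTower.of_algebraMap_eq fun a => (IsFractionRing.lift_algebraMap hinjF a).symm
  obtain ⟨i, x, rfl⟩ := Henselization.exists_ι z
  let ψ : i.S →ₐ[R₀] F :=
    (IsScalarTower.toAlgHom R₀ H F).comp ((Henselization.ι i).comp (IsScalarTower.toAlgHom R₀ i.S i.L))
  haveI : Module.Finite F₀ (F₀ ⊗[R₀] i.S) := Algebra.FormallyUnramified.finite_of_free F₀ (F₀ ⊗[R₀] i.S)
  let Ψ : F₀ ⊗[R₀] i.S →ₐ[F₀] F := Algebra.TensorProduct.lift (Algebra.ofId F₀ F) ψ fun _ _ => Commute.all _ _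
  have halg : ∀ a : i.S, IsAlgebraic R₀ (ψ a) := fun a => by
    have h1 : IsIntegral F₀ (Ψ (1 ⊗ₜ a)) := (IsIntegral.of_finite F₀ (1 ⊗ₜ a : F₀ ⊗[R₀] i.S)).map Ψ
    rw [show Ψ (1 ⊗ₜ a) = ψ a by simp [Ψ]] at h1
    exact (IsFractionRing.isAlgebraic_iff R₀ F₀ F).2 h1.isAlgebraic
  refine (isAlgebraic_algHom_iff (IsScalarTower.toAlgHom R₀ H F) (IsFractionRing.injective H F)).1 ?_
  obtain ⟨a, s, rfl⟩ := IsLocalization.exists_mk'_eq i.q.primeCompl x
  have h2 : ψ s * (algebraMap H F (Henselization.ι i (IsLocalization.mk' _ a s))) = ψ a := by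
    show algebraMap H F _ * _ = algebraMap H F _
    rw [← map_mul]
    refine congrArg _ ?_
    show Henselization.ι i (algebraMap i.S i.L s) * _ = Henselization.ι i (algebraMap i.S i.L a)
    rw [← map_mul]
    exact congrArg _ (by rw [mul_comm]; exact IsLocalization.mk'_spec _ a s)
  have hs : ψ s ≠ 0 := by
    show algebraMap H F _ ≠ 0
    rw [map_ne_zero_iff _ (IsFractionRing.injective H F)]
    exact ((IsLocalization.map_units i.L s).map (Henselization.ι i)).ne_zero
  rw [IsScalarTower.coe_toAlgHom', show algebraMap H F (Henselization.ι i (IsLocalization.mk' _ a s)) =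
    ψ a * (ψ s)⁻¹ by rw [← h2, mul_comm, ← mul_assoc, inv_mul_cancel₀ hs, one_mul]]
  exact (halg a).mul (halg s).inv

end Hz

section Line

variable {R : Type u} [CommRing R] [IsDomain R] (hR : AICCover.MonicRoot R) (P : Ideal R[X]) [P.IsPrime]
  (B : Type u) [CommRing B] [Algebra (Localization.AtPrime P) B] [IsLocalRing B]
  [IsLocalHom (algebraMap (Localization.AtPrime P) B)] [_root_.Hensel.IsHenselization (Localization.AtPrime P) B]

include hR P

/-- The henselized line is a normal domain. -/
theorem isDomain_isIntegrallyClosed_line : IsDomain B ∧ IsIntegrallyClosed B := by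
  haveI := isIntegrallyClosed_of_monicRoot hR
  let L := Localization.AtPrime P
  haveI : IsIntegrallyClosed L :=
    isIntegrallyClosed_of_isLocalization L P.primeCompl P.primeCompl_le_nonZeroDivisors
  have h := HensBranch.hz_normal (R := L) (K := ResidueField L)
  haveI := h.1
  haveI := h.2
  obtain ⟨e⟩ := Henselization.exists_algEquiv_of_isHenselization L B
  exact ⟨e.toRingEquiv.symm.toMulEquiv.isDomain, IsIntegrallyClosed.of_equiv e.toRingEquiv⟩

/-- The henselized line is algebraic over polynomials. -/
theorem isAlgebraic_line (b : B) : letI := (polyMap P B).toAlgebra; IsAlgebraic R[X] b := by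
  letI := (polyMap P B).toAlgebra
  haveI := isIntegrallyClosed_of_monicRoot hR
  let L := Localization.AtPrime P
  haveI : IsIntegrallyClosed L :=
    isIntegrallyClosed_of_isLocalization L P.primeCompl P.primeCompl_le_nonZeroDivisors
  haveI := (HensBranch.hz_normal (R := L) (K := ResidueField L)).1
  haveI : IsScalarTower R[X] L B := IsScalarTower.of_algebraMap_eq' rfl
  obtain ⟨e⟩ := Henselization.exists_algEquiv_of_isHenselization L B
  have h1 : IsAlgebraic L b := by
    have := (isAlgebraic_hz (R₀ := L) (e.symm b)).algHom e.toAlgHom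
    simpa using this
  haveI : Algebra.IsAlgebraic R[X] L := IsLocalization.isAlgebraic L P.primeCompl
  exact h1.restrictScalars R[X]

end Line

end Groth.Agent.HenLineLib
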