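import Groth.Agent.HenLineLib.KeyCore
import Groth.Agent.HenLineLib.FibreModel

/-!
# The ring of the generic fibre of the henselized line
-/

set_option autoImplicit false
set_option linter.style.haveILetI false
set_option backward.isDefEq.respectTransparency false
set_option maxHeartbeats 1000000

universe u

open CategoryTheory CategoryTheory.Limits AlgebraicGeometry IsLocalRing Polynomial

noncomputable section

namespace Groth.Agent.HenLineLib

/-- A natural number all whose prime factors are units is a unit. -/
theorem isUnit_natCast_of_primes {R : Type u} [CommRing R] {n : ℕ} (hn : n ≠ 0)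
    (h : ∀ p : ℕ, p.Prime → p ∣ n → IsUnit (p : R)) : IsUnit (n : R) := by
  rw [← Nat.prod_primeFactorsList hn, Nat.cast_list_prod]
  exact List.prod_isUnit fun x hx => by
    obtain ⟨p, hp, rfl⟩ := List.mem_map.1 hx
    exact h p (Nat.prime_of_mem_primeFactorsList hp) (Nat.dvd_of_mem_primeFactorsList hp)

/-- The generic fibre of the henselized line is the spectrum of a normal domain without Galois étale covers of
invertible degree. -/
theorem exists_generic_ring (R : Type u) [CommRing R] [IsDomain R] [IsLocalRing R] (hR : AICCover.MonicRoot R)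
    (P : Ideal R[X]) [P.IsMaximal] (hP : P = (maximalIdeal R).map C ⊔ Ideal.span {X})
    (B : Type u) [CommRing B] [IsLocalRing B] [Algebra (Localization.AtPrime P) B]
    [IsLocalHom (algebraMap (Localization.AtPrime P) B)] [_root_.Hensel.IsHenselization (Localization.AtPrime P) B]
    (K : Type u) [Field K] [Algebra R K] [IsFractionRing R K] :
    ∃ (L : Type u) (_ : CommRing L) (_ : IsDomain L) (_ : IsIntegrallyClosed L) (l : B →+* L) (k : K →+* L)
      (F : Type u) (_ : Field F) (_ : Algebra L F) (_ : IsFractionRing L F),
      CategoryTheory.IsPushout (CommRingCat.ofHom ((polyMap P B).comp C)) (CommRingCat.ofHom (algebraMap R K))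
        (CommRingCat.ofHom l) (CommRingCat.ofHom k) ∧
      ∀ N : ℕ, (∀ p : ℕ, p.Prime → p ∣ N → IsUnit (p : R)) → NoGaloisExt L F N := by
  obtain ⟨hdom, hic⟩ := isDomain_isIntegrallyClosed_line hR P B
  haveI := hdom; haveI := hic
  letI : Algebra R B := ((polyMap P B).comp C).toAlgebra
  have hφ : ∀ r, algebraMap R B r = polyMap P B (C r) := fun r => rfl
  let S := Algebra.algebraMapSubmonoid B (nonZeroDivisors R)
  have hinjR : Function.Injective (algebraMap R B) := (polyMap_injective P B).comp C_injective
  have hS : S ≤ nonZeroDivisors B := by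
    rintro _ ⟨r, hr, rfl⟩
    exact mem_nonZeroDivisors_of_ne_zero ((map_ne_zero_iff _ hinjR).2 (nonZeroDivisors.ne_zero hr))
  let L := Localization S
  haveI : IsDomain L := IsLocalization.isDomain_of_le_nonZeroDivisors L hS
  haveI : IsIntegrallyClosed L := isIntegrallyClosed_of_isLocalization L S hS
  have hu : ∀ r : nonZeroDivisors R, IsUnit (algebraMap R L r) := fun r => by
    rw [IsScalarTower.algebraMap_apply R B L]
    exact IsLocalization.map_units L (⟨_, r, r.2, rfl⟩ : S)
  letI : Algebra K L := (IsLocalization.lift (M := nonZeroDivisors R) hu).toAlgebra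
  haveI : IsScalarTower R K L := IsScalarTower.of_algebraMap_eq fun r => (IsLocalization.lift_eq hu r).symm
  let F := FractionRing B
  have huF : ∀ s : S, IsUnit (algebraMap B F s) := fun s => IsLocalization.map_units F (⟨_, hS s.2⟩ : nonZeroDivisors B)
  letI : Algebra L F := (IsLocalization.lift (M := S) huF).toAlgebra
  haveI : IsScalarTower B L F := IsScalarTower.of_algebraMap_eq fun b => (IsLocalization.lift_eq huF b).symm
  haveI : IsFractionRing L F := IsFractionRing.isFractionRing_of_isDomain_of_isLocalization S L F
  have hpush : CategoryTheory.IsPushout (CommRingCat.ofHom (algebraMap R B)) (CommRingCat.ofHom (algebraMap R K))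
      (CommRingCat.ofHom (algebraMap B L)) (CommRingCat.ofHom (algebraMap K L)) :=
    CommRingCat.isPushout_iff_isPushout.mpr (Algebra.isPushout_of_isLocalization (nonZeroDivisors R) K B L)
  refine ⟨L, inferInstance, inferInstance, inferInstance, algebraMap B L, algebraMap K L, F, inferInstance,
    inferInstance, inferInstance, hpush, fun N hN => ?_⟩
  intro M _ _ _ _ _ _ n x y hx hy hsum hann hdvd
  exact noGaloisExt P B L hR hP hφ F (isUnit_natCast_of_primes Module.finrank_pos.ne'
    fun p hp hpM => hN p hp (hpM.trans hdvd)) M n x y hx hy hsum hann dvd_rfl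

end Groth.Agent.HenLineLib
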