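import Groth.Agent.HenLineLib.GenericModel
import Groth.Agent.HenLineLib.FibreModel

/-!
# The ring of a geometric fibre of the henselized line
-/

set_option autoImplicit false
set_option linter.style.haveILetI false
set_option backward.isDefEq.respectTransparency false
set_option backward.isDefEq.respectTransparency.types false
set_option maxHeartbeats 1000000

universe u

open CategoryTheory CategoryTheory.Limits AlgebraicGeometry IsLocalRing Polynomial

noncomputable section

namespace Groth.Agent.HenLineLib

variable (A : Type u) [CommRing A] [HenselianLocalRing A]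
  (P : Ideal A[X]) [P.IsPrime] (hP : P = (maximalIdeal A).map C ⊔ Ideal.span {X})
  (B : Type u) [CommRing B] [IsLocalRing B] [Algebra (Localization.AtPrime P) B]
  [IsLocalHom (algebraMap (Localization.AtPrime P) B)] [_root_.Hensel.IsHenselization (Localization.AtPrime P) B]

include hP

/-- A geometric fibre of the henselized line is the spectrum of a normal domain; it has no Galois étale covers of
invertible degree. -/
theorem exists_geomFibre_ring (K : Type u) [Field K] [IsAlgClosed K] [Algebra A K] (𝔭 : Ideal A) [𝔭.IsPrime]
    [Algebra 𝔭.ResidueField K] [IsScalarTower A 𝔭.ResidueField K] [Algebra.IsAlgebraic 𝔭.ResidueField K] :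
    ∃ (L : Type u) (_ : CommRing L) (_ : IsDomain L) (_ : IsIntegrallyClosed L) (l : B →+* L) (k : K →+* L)
      (F : Type u) (_ : Field F) (_ : Algebra L F) (_ : IsFractionRing L F),
      CategoryTheory.IsPushout (CommRingCat.ofHom ((polyMap P B).comp C)) (CommRingCat.ofHom (algebraMap A K))
        (CommRingCat.ofHom l) (CommRingCat.ofHom k) ∧
      ∀ N : ℕ, (∀ p : ℕ, p.Prime → p ∣ N → IsUnit (p : A)) → NoGaloisExt L F N := by
  let R := integralClosure A K
  haveI : IsLocalRing R := isLocalRing_integralClosure A K
  haveI : IsLocalHom (algebraMap A R) := isLocalHom_integralClosure A K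
  haveI : IsFractionRing R K := isFractionRing_integralClosure A K 𝔭
  have hR : AICCover.MonicRoot R := monicRoot_integralClosure A K
  obtain ⟨P', hP'max, B', _, _, _, _, _, g, hP', -, h1⟩ := exists_line_model A R P hP B
  obtain ⟨L, _, _, _, l, k, F, _, _, _, h2, hgal⟩ := exists_generic_ring R hR P' hP' B' K
  have hAK : CommRingCat.ofHom (algebraMap A R) ≫ CommRingCat.ofHom (algebraMap R K) =
      CommRingCat.ofHom (algebraMap A K) := rfl
  refine ⟨L, inferInstance, inferInstance, inferInstance, l.comp g, k, F, inferInstance, inferInstance,
    inferInstance, ?_, fun N hN => hgal N fun p hp hd => by simpa using (hN p hp hd).map (algebraMap A R)⟩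
  have h := h1.paste_vert h2
  rw [hAK] at h
  exact h

end Groth.Agent.HenLineLib
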