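import Groth.Agent.HenLineLib.KeyCore
import Groth.Agent.AffCurveLib.Vanish
import Groth.Agent.CurveFin.Const

/-!
# Acyclicity of the henselized affine line over an absolutely integrally closed local domain
-/

set_option autoImplicit false
set_option linter.style.haveILetI false
set_option backward.isDefEq.respectTransparency false

universe u

open CategoryTheory CategoryTheory.Limits AlgebraicGeometry IsLocalRing Polynomial

noncomputable section

namespace Groth.Agent.HenLineLib

/-- **`ℤ/d` is acyclic on the generic fibre of the henselized line**, for `d` invertible on the base. -/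
theorem subsingleton_H_henselLine (R : Type u) [CommRing R] [IsDomain R] [IsLocalRing R]
    (hR : AICCover.MonicRoot R) (P : Ideal R[X]) [P.IsMaximal] (hP : P = (maximalIdeal R).map C ⊔ Ideal.span {X})
    (B : Type u) [CommRing B] [IsLocalRing B] [Algebra (Localization.AtPrime P) B]
    [IsLocalHom (algebraMap (Localization.AtPrime P) B)] [_root_.Hensel.IsHenselization (Localization.AtPrime P) B]
    (K : Type u) [Field K] [Algebra R K] [IsFractionRing R K] (d : ℕ) (hd : IsUnit (d : R)) (q : ℕ) (hq : 0 < q) :
    Subsingleton (EtCoh.H (pullback
        (Spec.map (CommRingCat.ofHom (((algebraMap (Localization.AtPrime P) B).comp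
          (algebraMap R[X] (Localization.AtPrime P))).comp C)))
        (Spec.map (CommRingCat.ofHom (algebraMap R K))))
      (EtCoh.const _ (ZMod d)) q) := by
  haveI : IsAlgClosed K := isAlgClosed_fractionRing hR K
  have hd0 : d ≠ 0 := fun h => hd.ne_zero (by rw [h, Nat.cast_zero])
  exact subsingleton_H_henselLine_of_curves R hR P hP B K d hd q hq fun X _ f _ hX hq2 =>
    AffCurveLib.cohDimLE_one f hX _ (CurveFin.isTorsion_const_zmod X d (Nat.one_le_iff_ne_zero.2 hd0)) q hq2

end Groth.Agent.HenLineLib
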