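import Groth.Agent.HenLineLib.Main
import Groth.Agent.HenLineLib.GenericFibre
import Groth.Agent.HenLineLib.CurveLimit
import Groth.Agent.HenLineLib.Galois
import Groth.Agent.PBCLib.Fibration
import Mathlib.AlgebraicGeometry.Pullbacks
import Mathlib.RingTheory.Localization.Integral

/-!
# Acyclicity of the generic fibre of the henselized line, given the cohomological dimension of affine curves
-/

set_option autoImplicit false
set_option linter.style.haveILetI false
set_option backward.isDefEq.respectTransparency false
set_option maxHeartbeats 1000000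

universe u

open CategoryTheory CategoryTheory.Limits AlgebraicGeometry IsLocalRing Polynomial TensorProduct

noncomputable section

namespace Groth.Agent.HenLineLib

section

variable {R : Type u} [CommRing R] [IsDomain R] [IsLocalRing R] (P : Ideal R[X]) [P.IsPrime]
  (B : Type u) [CommRing B] [IsDomain B] [IsLocalRing B] [Algebra (Localization.AtPrime P) B]
  [IsLocalHom (algebraMap (Localization.AtPrime P) B)] [_root_.Hensel.IsHenselization (Localization.AtPrime P) B]

/-- Polynomials embed in the henselized line. -/
theorem polyMap_injective : Function.Injective (polyMap P B) := by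
  obtain ⟨e⟩ := Henselization.exists_algEquiv_of_isHenselization (Localization.AtPrime P) B
  have hB : Function.Injective (algebraMap (Localization.AtPrime P) B) := fun x y h => by
    apply Henselization.algebraMap_injective (R := Localization.AtPrime P) (K := ResidueField (Localization.AtPrime P))
    exact e.injective (by rw [AlgEquiv.commutes, AlgEquiv.commutes, h])
  exact hB.comp (IsLocalization.injective (Localization.AtPrime P) P.primeCompl_le_nonZeroDivisors)

variable [Algebra R B] (L : Type u) [CommRing L] [IsDomain L] [Algebra B L] [Algebra R L] [IsScalarTower R B L]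
  [IsLocalization (Algebra.algebraMapSubmonoid B (nonZeroDivisors R)) L]
  (K : Type u) [Field K] [Algebra R K] [IsFractionRing R K] [Algebra K L] [IsScalarTower R K L]

include P in
/-- The generic fibre of the henselized line has transcendence degree at most one. -/
theorem trdeg_le_one (hR : AICCover.MonicRoot R) (hφ : ∀ r, algebraMap R B r = polyMap P B (C r))
    (hinj : Function.Injective (algebraMap B L)) : Algebra.trdeg K L ≤ 1 := by
  letI : Algebra R[X] B := (polyMap P B).toAlgebra
  haveI : IsScalarTower R R[X] B := IsScalarTower.of_algebraMap_eq fun r => hφ r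
  letI : Algebra R[X] L := ((algebraMap B L).comp (algebraMap R[X] B)).toAlgebra
  haveI : IsScalarTower R[X] B L := IsScalarTower.of_algebraMap_eq' rfl
  haveI : IsScalarTower R R[X] L := IsScalarTower.of_algebraMap_eq fun r => by
    rw [IsScalarTower.algebraMap_apply R B L, IsScalarTower.algebraMap_apply R[X] B L,
      ← IsScalarTower.algebraMap_apply R R[X] B]
  haveI : FaithfulSMul R[X] L := (faithfulSMul_iff_algebraMap_injective R[X] L).2
    (hinj.comp (polyMap_injective P B))
  haveI : FaithfulSMul K L := (faithfulSMul_iff_algebraMap_injective K L).2 (algebraMap K L).injective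
  haveI : FaithfulSMul R K := (faithfulSMul_iff_algebraMap_injective R K).2 (IsFractionRing.injective R K)
  haveI : Algebra.IsAlgebraic R[X] B := ⟨fun b => isAlgebraic_line hR P B b⟩
  haveI : Algebra.IsAlgebraic B L :=
    IsLocalization.isAlgebraic L (Algebra.algebraMapSubmonoid B (nonZeroDivisors R))
  haveI : Algebra.IsAlgebraic R[X] L := Algebra.IsAlgebraic.trans R[X] B L
  haveI : Algebra.IsAlgebraic R K := IsLocalization.isAlgebraic K (nonZeroDivisors R)
  have h1 : Algebra.trdeg R R[X] + Algebra.trdeg R[X] L = Algebra.trdeg R L := trdeg_add_eq R R[X]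
  have h2 : Algebra.trdeg R K + Algebra.trdeg K L = Algebra.trdeg R L := trdeg_add_eq R K
  rw [Polynomial.trdeg_of_isDomain, trdeg_eq_zero (R := R[X]) (A := L), add_zero] at h1
  rw [trdeg_eq_zero (R := R) (A := K), zero_add] at h2
  rw [h2, ← h1]

omit [Algebra K L] [IsScalarTower R K L] in
/-- The generic fibre has no Galois étale covers of degree invertible on the base. -/
theorem noGaloisExt (hR : AICCover.MonicRoot R) (hP : P = (maximalIdeal R).map C ⊔ Ideal.span {X})
    (hφ : ∀ r, algebraMap R B r = polyMap P B (C r)) (F : Type u) [Field F] [Algebra B F] [IsFractionRing B F]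
    [Algebra L F] [IsScalarTower B L F] {d : ℕ} (hd : IsUnit (d : R)) : NoGaloisExt L F d := by
  classical
  intro M _ _ _ _ _ _ n x y hx hy hsum hann hdvd
  letI : Algebra B M := ((algebraMap L M).comp (algebraMap B L)).toAlgebra
  haveI : IsScalarTower B L M := IsScalarTower.of_algebraMap_eq' rfl
  haveI : IsScalarTower B F M := IsScalarTower.of_algebraMap_eq fun b => by
    rw [IsScalarTower.algebraMap_apply B L M, IsScalarTower.algebraMap_apply L F M,
      ← IsScalarTower.algebraMap_apply B L F]
  have hint : ∀ z : M, IsIntegral L z → ∃ r : R, r ≠ 0 ∧ IsIntegral B (algebraMap B M (algebraMap R B r) * z) := fun z hz => by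
    obtain ⟨⟨m, r, hr, rfl⟩, hm⟩ := IsIntegral.exists_multiple_integral_of_isLocalization
      (Algebra.algebraMapSubmonoid B (nonZeroDivisors R)) (Rₘ := L) z hz
    exact ⟨r, nonZeroDivisors.ne_zero hr, by rwa [Submonoid.smul_def, Algebra.smul_def] at hm⟩
  choose rx hrx hrxi using fun i => hint (x i) (hx i)
  choose ry hry hryi using fun i => hint (y i) (hy i)
  let f : R := (∏ i, rx i) * ∏ i, ry i
  have hf : f ≠ 0 := mul_ne_zero (Finset.prod_ne_zero_iff.2 fun i _ => hrx i) (Finset.prod_ne_zero_iff.2 fun i _ => hry i)
  let c : R →+* M := (algebraMap B M).comp (algebraMap R B)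
  have hmul : ∀ (z : M) (r g : R), IsIntegral B (c r * z) → IsIntegral B (c (g * r) * z) := fun z r g h => by
    rw [map_mul, mul_assoc]
    exact (isIntegral_algebraMap (x := algebraMap R B g)).mul h
  have hx' : ∀ i, IsIntegral B (c f * x i) := fun i => by
    rw [show f = ((∏ k ∈ Finset.univ.erase i, rx k) * ∏ k, ry k) * rx i by
      simp only [f]
      rw [← Finset.mul_prod_erase Finset.univ rx (Finset.mem_univ i)]; ring]
    exact hmul _ _ _ (hrxi i)
  have hy' : ∀ i, IsIntegral B (c f * y i) := fun i => by
    rw [show f = ((∏ k, rx k) * ∏ k ∈ Finset.univ.erase i, ry k) * ry i by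
      simp only [f]
      rw [← Finset.mul_prod_erase Finset.univ ry (Finset.mem_univ i)]; ring]
    exact hmul _ _ _ (hryi i)
  have hN : IsUnit ((Module.finrank F M : ℕ) : R) := isUnit_of_dvd_unit (Nat.cast_dvd_cast hdvd) hd
  refine finrank_eq_one_of_galois hR P hP B F M hN (fun i => c f * x i) (fun i => c f * y i) hx' hy'
    (mul_ne_zero hf hf) ?_ fun z => ?_
  · rw [← hφ]
    show _ = c (f * f)
    rw [c.map_mul f f, ← mul_one (c f * c f), ← hsum, Finset.mul_sum]
    refine Finset.sum_congr rfl fun i _ => by ring
  · have e : ∑ i, (c f * y i) ⊗ₜ[F] (c f * x i) = (c f ⊗ₜ[F] c f) * ∑ i, y i ⊗ₜ[F] x i := by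
      rw [Finset.mul_sum]
      simp only [Algebra.TensorProduct.tmul_mul_tmul]
    rw [e, mul_left_comm, hann, mul_zero]

end

/-- Acyclicity of the generic fibre of the henselized line. -/
theorem subsingleton_H_henselLine_of_curves (R : Type u) [CommRing R] [IsDomain R] [IsLocalRing R]
    (hR : AICCover.MonicRoot R) (P : Ideal R[X]) [P.IsMaximal] (hP : P = (maximalIdeal R).map C ⊔ Ideal.span {X})
    (B : Type u) [CommRing B] [IsLocalRing B] [Algebra (Localization.AtPrime P) B]
    [IsLocalHom (algebraMap (Localization.AtPrime P) B)] [_root_.Hensel.IsHenselization (Localization.AtPrime P) B]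
    (K : Type u) [Field K] [Algebra R K] [IsFractionRing R K] (d : ℕ) (hd : IsUnit (d : R)) (q : ℕ) (hq : 0 < q)
    (hcd : ∀ (X : Scheme.{u}) [IsAffine X] (f : X ⟶ Spec (CommRingCat.of K)) [LocallyOfFiniteType f],
      topologicalKrullDim X ≤ 1 → 2 ≤ q → Subsingleton (EtCoh.H X (EtCoh.const X (ZMod d)) q)) :
    Subsingleton (EtCoh.H (pullback
        (Spec.map (CommRingCat.ofHom (((algebraMap (Localization.AtPrime P) B).comp
          (algebraMap R[X] (Localization.AtPrime P))).comp C)))
        (Spec.map (CommRingCat.ofHom (algebraMap R K))))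
      (EtCoh.const _ (ZMod d)) q) := by
  obtain ⟨hdom, hic⟩ := isDomain_isIntegrallyClosed_line hR P B
  haveI := hdom; haveI := hic
  letI : Algebra R B := ((polyMap P B).comp C).toAlgebra
  have hφ : ∀ r, algebraMap R B r = polyMap P B (C r) := fun r => rfl
  let S := Algebra.algebraMapSubmonoid B (nonZeroDivisors R)
  have hinjR : Function.Injective (algebraMap R B) := (polyMap_injective P B).comp C_injective
  have hS : S ≤ nonZeroDivisors B := by
    rintro _ ⟨r, hr, rfl⟩
    exact mem_nonZeroDivisors_of_ne_zero ((map_ne_zero_iff _ hinjR).2 (nonZeroDivisors.ne_zero hr))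
  let L := Localization S
  haveI : IsDomain L := IsLocalization.isDomain_of_le_nonZeroDivisors L hS
  haveI : IsIntegrallyClosed L := isIntegrallyClosed_of_isLocalization L S hS
  have hu : ∀ r : nonZeroDivisors R, IsUnit (algebraMap R L r) := fun r => by
    rw [IsScalarTower.algebraMap_apply R B L]
    exact IsLocalization.map_units L (⟨_, r, r.2, rfl⟩ : S)
  letI : Algebra K L := (IsLocalization.lift (M := nonZeroDivisors R) hu).toAlgebra
  haveI : IsScalarTower R K L := IsScalarTower.of_algebraMap_eq fun r => (IsLocalization.lift_eq hu r).symm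
  let F := FractionRing B
  have huF : ∀ s : S, IsUnit (algebraMap B F s) := fun s => IsLocalization.map_units F (⟨_, hS s.2⟩ : nonZeroDivisors B)
  letI : Algebra L F := (IsLocalization.lift (M := S) huF).toAlgebra
  haveI : IsScalarTower B L F := IsScalarTower.of_algebraMap_eq fun b => (IsLocalization.lift_eq huF b).symm
  haveI : IsFractionRing L F := IsFractionRing.isFractionRing_of_isDomain_of_isLocalization S L F
  have hpush : CategoryTheory.IsPushout (CommRingCat.ofHom (algebraMap R B)) (CommRingCat.ofHom (algebraMap R K))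
      (CommRingCat.ofHom (algebraMap B L)) (CommRingCat.ofHom (algebraMap K L)) :=
    CommRingCat.isPushout_iff_isPushout.mpr (Algebra.isPushout_of_isLocalization (nonZeroDivisors R) K B L)
  let sq := isPullback_SpecMap_of_isPushout _ _ _ _ hpush
  suffices h : Subsingleton (EtCoh.H (Spec (CommRingCat.of L)) (EtCoh.const _ (ZMod d)) q) from
    (PBCLib.nonempty_H_const_iso sq.isoPullback (ZMod d) q).some.symm.toEquiv.subsingleton
  have hd0 : d ≠ 0 := fun h => hd.ne_zero (by rw [h, Nat.cast_zero])
  haveI : NeZero d := ⟨hd0⟩
  obtain rfl | hq2 : q = 1 ∨ 2 ≤ q := by omega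
  · refine subsingleton_H1_spec (F := F) (ZMod d) ?_
    rw [Nat.card_zmod]
    exact noGaloisExt P B L hR hP hφ F hd
  · exact subsingleton_H_of_trdeg_le_one (trdeg_le_one P B L K hR hφ (IsLocalization.injective L hS)) (ZMod d) q
      fun X _ f _ hX => hcd X f hX hq2

end Groth.Agent.HenLineLib
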