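import Groth.Agent.HenLineLib.Split
import Groth.Agent.NagataLib.PowerSeries
import Mathlib.RingTheory.Smooth.AdicCompletion
import Mathlib.RingTheory.PowerSeries.Inverse
import Mathlib.RingTheory.Localization.Away.Basic

/-!
# Lifting sections to power series

A section modulo `X` of an algebra which is formally smooth away from a family of elements lifts to a
section with values in power series, when the base is determined by its localizations at these elements.
-/

set_option autoImplicit false
set_option linter.style.haveILetI false

universe u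

open TensorProduct

noncomputable section

namespace Groth.Agent.HenLineLib

/-- A section modulo `X` lifts to power series. -/
theorem exists_lift_powerSeries {A B C : Type u} [CommRing A] [IsDomain A] [CommRing B] [CommRing C] [Algebra B C]
    [Algebra B (PowerSeries A)] {r : ℕ} (a : Fin r → B) (α : Fin r → A)
    (hα : ∀ i, PowerSeries.constantCoeff (algebraMap B (PowerSeries A) (a i)) = α i) (hα0 : ∀ i, α i ≠ 0)
    (K : Type u) [Field K] [Algebra A K] [IsFractionRing A K]
    (hA : ∀ x : K, (∀ i, ∃ (n : ℕ) (y : A), algebraMap A K (α i) ^ n * x = algebraMap A K y) →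
      x ∈ Set.range (algebraMap A K))
    (hsm : ∀ i, Algebra.FormallySmooth B (Localization.Away (algebraMap B C (a i))))
    {i₀ : Fin r} {m : ℕ} {t : C ⊗[B] C} (ht : IsSepElem B (a i₀ ^ m) t)
    (ψ : C →+* A) (hψ : ∀ b, ψ (algebraMap B C b) = PowerSeries.constantCoeff (algebraMap B (PowerSeries A) b)) :
    ∃ φ : C →ₐ[B] PowerSeries A, ∀ c, PowerSeries.constantCoeff (φ c) = ψ c := by
  letI algK : Algebra B (PowerSeries K) :=
    ((PowerSeries.map (algebraMap A K)).comp (algebraMap B (PowerSeries A))).toAlgebra
  -- the lift away from each element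
  have hloc : ∀ i, ∃ φ : C →ₐ[B] PowerSeries K,
      (∀ c, PowerSeries.constantCoeff (φ c) = algebraMap A K (ψ c)) ∧
        ∀ c k, ∃ (n : ℕ) (y : A), algebraMap A K (α i) ^ n * PowerSeries.coeff k (φ c) = algebraMap A K y := by
    intro i
    let L := Localization.Away (α i)
    letI algL : Algebra B (PowerSeries L) :=
      ((PowerSeries.map (algebraMap A L)).comp (algebraMap B (PowerSeries A))).toAlgebra
    let Ca := Localization.Away (algebraMap B C (a i))
    haveI := hsm i
    have hu : IsUnit (((algebraMap A L).comp ψ) (algebraMap B C (a i))) := by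
      rw [RingHom.comp_apply, hψ, hα]
      exact IsLocalization.Away.algebraMap_isUnit (α i)
    let ψ' : Ca →+* L := IsLocalization.Away.lift (algebraMap B C (a i)) hu
    let I : Ideal (PowerSeries L) := Ideal.span {PowerSeries.X}
    haveI : IsAdicComplete I (PowerSeries L) := NagataLib.isAdicComplete_X L
    let f : Ca →ₐ[B] PowerSeries L ⧸ I :=
      { toRingHom := ((Ideal.Quotient.mk I).comp (PowerSeries.C (R := L))).comp ψ'
        commutes' := fun b => by
          show Ideal.Quotient.mk I (PowerSeries.C (ψ' (algebraMap B Ca b))) = Ideal.Quotient.mk I (algebraMap B (PowerSeries L) b)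
          rw [Ideal.Quotient.eq, Ideal.mem_span_singleton, PowerSeries.X_dvd_iff, map_sub,
            PowerSeries.constantCoeff_C, IsScalarTower.algebraMap_apply B C Ca, IsLocalization.Away.lift_eq,
            RingHom.comp_apply, hψ, sub_eq_zero]
          show algebraMap A L _ = PowerSeries.constantCoeff (PowerSeries.map (algebraMap A L) _)
          rw [← PowerSeries.coeff_zero_eq_constantCoeff_apply, ← PowerSeries.coeff_zero_eq_constantCoeff_apply,
            PowerSeries.coeff_map]
          rfl }
    obtain ⟨g, hg⟩ := Algebra.FormallySmooth.exists_mkₐ_comp_eq_of_isAdicComplete f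
    have huK : IsUnit (algebraMap A K (α i)) :=
      isUnit_iff_ne_zero.2 ((map_ne_zero_iff _ (IsFractionRing.injective A K)).2 (hα0 i))
    let j : L →+* K := IsLocalization.Away.lift (α i) huK
    have hj : j.comp (algebraMap A L) = algebraMap A K := RingHom.ext fun x => IsLocalization.Away.lift_eq (α i) huK x
    let φ : C →ₐ[B] PowerSeries K :=
      { toRingHom := ((PowerSeries.map j).comp g.toRingHom).comp (algebraMap C Ca)
        commutes' := fun b => by
          show PowerSeries.map j (g (algebraMap C Ca (algebraMap B C b))) = algebraMap B (PowerSeries K) b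
          rw [← IsScalarTower.algebraMap_apply, g.commutes]
          exact PowerSeries.ext fun k => by
            simp only [RingHom.algebraMap_toAlgebra, RingHom.comp_apply, PowerSeries.coeff_map]
            exact RingHom.congr_fun hj _ }
    refine ⟨φ, fun c => ?_, fun c k => ?_⟩
    · have h1 : Ideal.Quotient.mk I (g (algebraMap C Ca c)) = Ideal.Quotient.mk I (PowerSeries.C (ψ' (algebraMap C Ca c))) :=
        AlgHom.congr_fun hg (algebraMap C Ca c)
      rw [Ideal.Quotient.eq, Ideal.mem_span_singleton, PowerSeries.X_dvd_iff, map_sub, PowerSeries.constantCoeff_C,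
        sub_eq_zero, IsLocalization.Away.lift_eq] at h1
      show PowerSeries.constantCoeff (PowerSeries.map j (g (algebraMap C Ca c))) = _
      rw [← PowerSeries.coeff_zero_eq_constantCoeff_apply, PowerSeries.coeff_map,
        PowerSeries.coeff_zero_eq_constantCoeff_apply, h1]
      exact RingHom.congr_fun hj _
    · obtain ⟨n, y, hy⟩ := IsLocalization.Away.surj (α i) (PowerSeries.coeff k (g (algebraMap C Ca c)))
      refine ⟨n, y, ?_⟩
      have h2 := congrArg j hy
      rw [map_mul, map_pow, IsLocalization.Away.lift_eq, IsLocalization.Away.lift_eq] at h2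
      show _ * PowerSeries.coeff k (PowerSeries.map j (g (algebraMap C Ca c))) = _
      rw [PowerSeries.coeff_map, mul_comm, h2]
  choose φ hφ0 hφc using hloc
  have heq : ∀ i, φ i = φ i₀ := fun i => eq_of_sepElem ht PowerSeries.constantCoeff (by
      rw [map_pow, map_pow]
      refine pow_ne_zero _ ?_
      show PowerSeries.constantCoeff (PowerSeries.map (algebraMap A K) (algebraMap B (PowerSeries A) (a i₀))) ≠ 0
      rw [← PowerSeries.coeff_zero_eq_constantCoeff_apply, PowerSeries.coeff_map,
        PowerSeries.coeff_zero_eq_constantCoeff_apply, hα]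
      exact (map_ne_zero_iff _ (IsFractionRing.injective A K)).2 (hα0 i₀)) fun c => by rw [hφ0, hφ0]
  have hmem : ∀ c k, ∃ y : A, algebraMap A K y = PowerSeries.coeff k (φ i₀ c) := fun c k =>
    hA _ fun i => by rw [← heq i]; exact hφc i c k
  choose y hy using hmem
  have hinj : Function.Injective (PowerSeries.map (algebraMap A K)) := fun p q h =>
    PowerSeries.ext fun k => IsFractionRing.injective A K (by
      simpa only [PowerSeries.coeff_map] using congrArg (PowerSeries.coeff k) h)
  have hmap : ∀ c, PowerSeries.map (algebraMap A K) (PowerSeries.mk (y c)) = φ i₀ c := fun c =>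
    PowerSeries.ext fun k => by rw [PowerSeries.coeff_map, PowerSeries.coeff_mk, hy]
  refine ⟨
    { toFun := fun c => PowerSeries.mk (y c)
      map_one' := hinj (by rw [hmap, map_one, map_one])
      map_mul' := fun p q => hinj (by rw [hmap, map_mul, map_mul, hmap, hmap])
      map_zero' := hinj (by rw [hmap, map_zero, map_zero])
      map_add' := fun p q => hinj (by rw [hmap, map_add, map_add, hmap, hmap])
      commutes' := fun b => hinj (by
        show PowerSeries.map (algebraMap A K) (PowerSeries.mk (y (algebraMap B C b))) = _
        rw [hmap, AlgHom.commutes]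
        rfl) }, fun c => IsFractionRing.injective A K ?_⟩
  rw [← hφ0 i₀ c, ← PowerSeries.coeff_zero_eq_constantCoeff_apply, ← PowerSeries.coeff_zero_eq_constantCoeff_apply,
    ← hy]
  simp

end Groth.Agent.HenLineLib
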