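import Mathlib.RingTheory.Unramified.Finite
import Mathlib.RingTheory.Flat.Basic
import Mathlib.RingTheory.LocalRing.MaximalIdeal.Basic
import Mathlib.LinearAlgebra.TensorProduct.Pi
import Mathlib.LinearAlgebra.Dimension.Constructions
import Mathlib.LinearAlgebra.Dimension.StrongRankCondition

/-!
# Sections of a generically split algebra after a flat base change

`C` is a `B`-algebra which embeds `B`-linearly in `B ^ N`, is separable away from each of finitely many
elements `a i`, and is determined by its localizations at the `a i`.  If it has `N` sections with values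
in a flat `B`-algebra `R` which is a domain, then these sections are disjoint.
-/

set_option autoImplicit false
set_option linter.style.haveILetI false

universe u

open TensorProduct

noncomputable section

namespace Groth.Agent.HenLineLib

/-- `t` is a separability element for `C` over `B` up to the factor `b`. -/
structure IsSepElem (B : Type u) {C : Type u} [CommRing B] [CommRing C] [Algebra B C] (b : B) (t : C ⊗[B] C) : Prop where
  lmul : Algebra.TensorProduct.lmul' B t = algebraMap B C b
  annihilate : ∀ c : C, ((1 : C) ⊗ₜ[B] c - c ⊗ₜ[B] (1 : C)) * t = 0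

variable {B C R : Type u} [CommRing B] [CommRing C] [Algebra B C] [CommRing R] [Algebra B R]

/-- Multiples of separability elements. -/
theorem IsSepElem.mul_left {b : B} {t : C ⊗[B] C} (h : IsSepElem B b t) (s : B) :
    IsSepElem B (s * b) (algebraMap B (C ⊗[B] C) s * t) where
  lmul := by rw [map_mul, AlgHom.commutes, h.lmul, map_mul]
  annihilate c := by rw [mul_left_comm, h.annihilate, mul_zero]

/-- The section of `R ⊗ C` given by a section of `C`. -/
def sec (φ : C →ₐ[B] R) : R ⊗[B] C →ₐ[R] R :=
  Algebra.TensorProduct.lift (Algebra.ofId R R) φ fun _ _ => Commute.all _ _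

theorem sec_tmul (φ : C →ₐ[B] R) (x : R) (c : C) : sec φ (x ⊗ₜ c) = x * φ c := by
  simp [sec, Algebra.ofId_apply]

/-- The approximate idempotent of a section. -/
def idem (φ : C →ₐ[B] R) (t : C ⊗[B] C) : R ⊗[B] C := Algebra.TensorProduct.map φ (AlgHom.id B C) t

theorem idem_mul (φ : C →ₐ[B] R) {b : B} {t : C ⊗[B] C} (h : IsSepElem B b t) (x : R ⊗[B] C) :
    x * idem φ t = sec φ x • idem φ t := by
  induction x using TensorProduct.induction_on with
  | zero => simp
  | tmul r c =>
    have h1 := congrArg (Algebra.TensorProduct.map φ (AlgHom.id B C)) (h.annihilate c)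
    rw [map_mul, map_sub, map_zero, Algebra.TensorProduct.map_tmul, Algebra.TensorProduct.map_tmul, map_one,
      AlgHom.id_apply, map_one, sub_mul, sub_eq_zero] at h1
    rw [sec_tmul, show (r ⊗ₜ[B] c : R ⊗[B] C) = (r ⊗ₜ[B] (1 : C)) * ((1 : R) ⊗ₜ[B] c) by simp, mul_assoc]
    unfold idem
    rw [h1, ← mul_assoc, Algebra.TensorProduct.tmul_mul_tmul, mul_one, Algebra.smul_def,
      Algebra.TensorProduct.algebraMap_apply, Algebra.algebraMap_self, RingHom.id_apply]
  | add x y hx hy => rw [add_mul, hx, hy, map_add, add_smul]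

theorem sec_idem (φ ψ : C →ₐ[B] R) (t : C ⊗[B] C) :
    sec ψ (idem φ t) = Algebra.TensorProduct.lift φ ψ (fun _ _ => Commute.all _ _) t := by
  unfold idem
  induction t using TensorProduct.induction_on with
  | zero => simp
  | tmul x y => simp [sec_tmul]
  | add x y hx hy => simp [hx, hy]

theorem sec_idem_self (φ : C →ₐ[B] R) {b : B} {t : C ⊗[B] C} (h : IsSepElem B b t) :
    sec φ (idem φ t) = algebraMap B R b := by
  rw [sec_idem, show Algebra.TensorProduct.lift φ φ (fun _ _ => Commute.all _ _) =
    φ.comp (Algebra.TensorProduct.lmul' B) by ext <;> simp, AlgHom.comp_apply, h.lmul, AlgHom.commutes]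

variable [IsDomain R]

theorem sec_idem_of_ne {φ ψ : C →ₐ[B] R} (hne : φ ≠ ψ) {b : B} {t : C ⊗[B] C} (h : IsSepElem B b t) :
    sec ψ (idem φ t) = 0 := by
  obtain ⟨c, hc⟩ : ∃ c, φ c ≠ ψ c := by simpa [AlgHom.ext_iff] using hne
  have h1 := congrArg (Algebra.TensorProduct.lift φ ψ fun _ _ => Commute.all _ _) (h.annihilate c)
  rw [map_mul, map_sub, map_zero, Algebra.TensorProduct.lift_tmul, Algebra.TensorProduct.lift_tmul, map_one,
    map_one, one_mul, mul_one, mul_eq_zero] at h1
  rw [sec_idem]
  exact h1.resolve_left (sub_ne_zero.2 (Ne.symm hc))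

/-- Sections which agree at one point agree. -/
theorem eq_of_sepElem {φ ψ : C →ₐ[B] R} {b : B} {t : C ⊗[B] C} (h : IsSepElem B b t) {S : Type u} [CommRing S]
    (f : R →+* S) (hb : f (algebraMap B R b) ≠ 0) (hfg : ∀ c, f (φ c) = f (ψ c)) : φ = ψ := by
  by_contra hne
  refine hb ?_
  have key : ∀ s : C ⊗[B] C, f (sec φ (idem φ s)) = f (sec ψ (idem φ s)) := fun s => by
    rw [sec_idem, sec_idem]
    induction s using TensorProduct.induction_on with
    | zero => simp
    | tmul x y => simp [hfg]
    | add x y hx hy => simp [hx, hy]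
  rw [← sec_idem_self φ h, key, sec_idem_of_ne hne h, map_zero]

variable [Module.Flat B R]

/-- The base change of an embedding in a free module. -/
theorem exists_embedding {N : ℕ} (emb : C →ₗ[B] Fin N → B) (hemb : Function.Injective emb) :
    ∃ g : R ⊗[B] C →ₗ[R] Fin N → R, Function.Injective g :=
  ⟨(TensorProduct.piScalarRight B R R (Fin N)).toLinearMap ∘ₗ emb.baseChange R,
    (TensorProduct.piScalarRight B R R (Fin N)).injective.comp
      (Module.Flat.lTensor_preserves_injective_linearMap emb hemb)⟩

/-- The sections separate the base change. -/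
theorem sec_injective {N : ℕ} (emb : C →ₗ[B] Fin N → B) (hemb : Function.Injective emb)
    (φ : Fin N → (C →ₐ[B] R)) (hφ : Function.Injective φ) {b : B} {t : C ⊗[B] C} (h : IsSepElem B b t)
    (hb : algebraMap B R b ≠ 0) {x : R ⊗[B] C} (hx : ∀ j, sec (φ j) x = 0) : x = 0 := by
  obtain ⟨g, hg⟩ := exists_embedding (R := R) emb hemb
  by_contra hx0
  have hli : LinearIndependent R (Fin.cons (g x) fun j => g (idem (φ j) t) : Fin (N + 1) → Fin N → R) := by
    refine Fintype.linearIndependent_iff.2 fun r hr => ?_
    rw [Fin.sum_univ_succ, Fin.cons_zero] at hr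
    simp only [Fin.cons_succ] at hr
    have h0 : r 0 • x + ∑ j : Fin N, r j.succ • idem (φ j) t = 0 := hg (by
      rw [map_add, map_smul, map_sum, map_zero, ← hr]
      simp only [map_smul])
    have hs : ∀ k : Fin N, r k.succ = 0 := fun k => by
      have h2 := congrArg (sec (φ k)) h0
      rw [map_add, map_smul, hx k, smul_zero, zero_add, map_sum, map_zero,
        Finset.sum_eq_single k (fun j _ hj => by rw [map_smul, sec_idem_of_ne (fun e => hj (hφ e)) h, smul_zero])
          (fun hk => absurd (Finset.mem_univ k) hk),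
        map_smul, sec_idem_self _ h, smul_eq_mul, mul_eq_zero] at h2
      exact h2.resolve_right hb
    rw [Finset.sum_eq_zero (fun j _ => by rw [hs j, zero_smul]), add_zero] at h0
    have h00 : r 0 • g x = 0 := by rw [← map_smul, h0, map_zero]
    intro i
    induction i using Fin.cases with
    | zero => exact (smul_eq_zero.1 h00).resolve_right fun e => hx0 (hg (e.trans (map_zero g).symm))
    | succ k => exact hs k
  have := hli.fintype_card_le_finrank
  simp at this

variable {r : ℕ} (a : Fin r → B)

/-- Elements of `C` given compatibly on the localizations at the `a i` are elements of `C`. -/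
def Extends (C : Type u) [CommRing C] [Algebra B C] : Prop :=
  ∀ (n : ℕ) (x : Fin r → C), (∀ i k, a k ^ n • x i = a i ^ n • x k) → ∃ c : C, ∀ i, a i ^ n • c = x i

/-- Gluing survives flat base change. -/
theorem exists_of_extends (hext : Extends a C) (n : ℕ) (x : Fin r → R ⊗[B] C)
    (hx : ∀ i k, a k ^ n • x i = a i ^ n • x k) : ∃ c : R ⊗[B] C, ∀ i, a i ^ n • c = x i := by
  let α : C →ₗ[B] Fin r → C := LinearMap.pi fun i => a i ^ n • LinearMap.id
  let β : (Fin r → C) →ₗ[B] Fin r × Fin r → C :=
    LinearMap.pi fun p => a p.2 ^ n • LinearMap.proj p.1 - a p.1 ^ n • LinearMap.proj p.2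
  have hex : Function.Exact α β := by
    intro y
    constructor
    · intro hy
      obtain ⟨c, hc⟩ := hext n y fun i k => sub_eq_zero.1 (by simpa [β] using congrFun hy (i, k))
      exact ⟨c, funext fun i => by simpa [α] using hc i⟩
    · rintro ⟨c, rfl⟩
      funext p
      simp [α, β, smul_smul, mul_comm]
  let e := TensorProduct.piRight B B R fun _ : Fin r => C
  let e' := TensorProduct.piRight B B R fun _ : Fin r × Fin r => C
  have hα : ∀ (w : R ⊗[B] C) (i : Fin r), e (α.lTensor R w) i = a i ^ n • w := fun w i => by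
    induction w using TensorProduct.induction_on with
    | zero => simp
    | tmul p q => simp [e, α, TensorProduct.tmul_smul]
    | add p q hp hq => simp [hp, hq]
  have hβ : ∀ (z : R ⊗[B] (Fin r → C)) (p : Fin r × Fin r),
      e' (β.lTensor R z) p = a p.2 ^ n • e z p.1 - a p.1 ^ n • e z p.2 := fun z p => by
    induction z using TensorProduct.induction_on with
    | zero => simp
    | tmul v w => simp [e, e', β, TensorProduct.tmul_sub, TensorProduct.tmul_smul]
    | add v w hv hw => simp [hv, hw]; abel
  have hz : β.lTensor R (e.symm x) = 0 := e'.injective (by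
    funext p
    rw [hβ, LinearEquiv.apply_symm_apply, hx p.1 p.2, sub_self, map_zero]
    rfl)
  obtain ⟨w, hw⟩ := (Module.Flat.lTensor_exact R hex _).1 hz
  exact ⟨w, fun i => by rw [← hα, hw, LinearEquiv.apply_symm_apply]⟩

/-- **The sections are disjoint.** -/
theorem exists_separating {N : ℕ} (emb : C →ₗ[B] Fin N → B) (hemb : Function.Injective emb)
    (φ : Fin N → (C →ₐ[B] R)) (hφ : Function.Injective φ) (hext : Extends a C) (i₀ : Fin r)
    (ha : algebraMap B R (a i₀) ≠ 0) (hsep : ∀ i, ∃ (n : ℕ) (t : C ⊗[B] C), IsSepElem B (a i ^ n) t) (j : Fin N) :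
    ∃ e : R ⊗[B] C, ∀ k, sec (φ k) e = if k = j then 1 else 0 := by
  choose n t ht using hsep
  let M := Finset.univ.sup n
  have ht' : ∀ i, IsSepElem B (a i ^ M) (algebraMap B (C ⊗[B] C) (a i ^ (M - n i)) * t i) := fun i => by
    have := (ht i).mul_left (a i ^ (M - n i))
    rwa [← pow_add, Nat.sub_add_cancel (Finset.le_sup (Finset.mem_univ i))] at this
  let x : Fin r → R ⊗[B] C := fun i => idem (φ j) (algebraMap B (C ⊗[B] C) (a i ^ (M - n i)) * t i)
  have hx : ∀ i k, sec (φ k) (x i) = if k = j then algebraMap B R (a i ^ M) else 0 := fun i k => by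
    split
    · subst k; exact sec_idem_self _ (ht' i)
    · exact sec_idem_of_ne (fun e => ‹¬_› (hφ e.symm)) (ht' i)
  have hb : algebraMap B R (a i₀ ^ M) ≠ 0 := by rw [map_pow]; exact pow_ne_zero _ ha
  obtain ⟨e, he⟩ := exists_of_extends a hext M x fun i k => by
    rw [← sub_eq_zero]
    refine sec_injective emb hemb φ hφ (ht' i₀) hb fun l => ?_
    rw [map_sub, ← algebraMap_smul R (a k ^ M) (x i), ← algebraMap_smul R (a i ^ M) (x k), map_smul, map_smul,
      hx, hx, smul_eq_mul, smul_eq_mul]
    split <;> ring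
  refine ⟨e, fun k => mul_left_cancel₀ hb ?_⟩
  have h1 := congrArg (sec (φ k)) (he i₀)
  rw [← algebraMap_smul R (a i₀ ^ M) e, map_smul, smul_eq_mul, hx] at h1
  rw [h1]
  split <;> simp

/-- Distinct sections stay distinct at the closed point. -/
theorem exists_notMem_maximalIdeal [IsLocalRing R] {N : ℕ} (emb : C →ₗ[B] Fin N → B) (hemb : Function.Injective emb)
    (φ : Fin N → (C →ₐ[B] R)) (hφ : Function.Injective φ) (hext : Extends a C) (i₀ : Fin r)
    (ha : algebraMap B R (a i₀) ≠ 0) (hsep : ∀ i, ∃ (n : ℕ) (t : C ⊗[B] C), IsSepElem B (a i ^ n) t)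
    {j k : Fin N} (hjk : j ≠ k) : ∃ c, φ j c - φ k c ∉ IsLocalRing.maximalIdeal R := by
  obtain ⟨e, he⟩ := exists_separating a emb hemb φ hφ hext i₀ ha hsep j
  by_contra! h
  have h1 : ∀ x : R ⊗[B] C, sec (φ j) x - sec (φ k) x ∈ IsLocalRing.maximalIdeal R := fun x => by
    induction x using TensorProduct.induction_on with
    | zero => simp
    | tmul p q => rw [sec_tmul, sec_tmul, ← mul_sub]; exact Ideal.mul_mem_left _ _ (h q)
    | add p q hp hq => rw [map_add, map_add, add_sub_add_comm]; exact add_mem hp hq
  have h2 := h1 e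
  rw [he, he, if_pos rfl, if_neg (Ne.symm hjk), sub_zero] at h2
  exact IsLocalRing.maximalIdeal.isMaximal R |>.ne_top ((Ideal.eq_top_iff_one _).2 h2)

end Groth.Agent.HenLineLib
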