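import Groth.Agent.HenLineLib.Setup
import Groth.Agent.HenLineLib.Split
import Mathlib.RingTheory.Flat.FaithfullyFlat.Algebra
import Mathlib.RingTheory.Localization.FractionRing
import Mathlib.RingTheory.IntegralClosure.IntegrallyClosed

/-!
# Properties of a local ring with a faithfully flat map to power series
-/

set_option autoImplicit false
set_option linter.style.haveILetI false

universe u

open IsLocalRing

noncomputable section

namespace Groth.Agent.HenLineLib

/-- Elements given compatibly away from the `α i` come from `A`. -/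
def ExtendsFrac (A : Type u) [CommRing A] {r : ℕ} (α : Fin r → A) : Prop :=
  ∀ x : FractionRing A, (∀ i, ∃ (n : ℕ) (y : A), algebraMap A _ (α i) ^ n * x = algebraMap A _ y) →
    x ∈ Set.range (algebraMap A (FractionRing A))

/-- Compatible families come from a single element. -/
theorem extends_self {A : Type u} [CommRing A] [IsDomain A] {r : ℕ} {α : Fin r → A} (h : ExtendsFrac A α)
    (i₀ : Fin r) (hα : ∀ i, α i ≠ 0) (n : ℕ) (x : Fin r → A) (hx : ∀ i k, α k ^ n * x i = α i ^ n * x k) :
    ∃ c : A, ∀ i, α i ^ n * c = x i := by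
  let K := FractionRing A
  have hne : ∀ i, algebraMap A K (α i) ^ n ≠ 0 := fun i =>
    pow_ne_zero _ ((map_ne_zero_iff _ (IsFractionRing.injective A K)).2 (hα i))
  have key : ∀ i, algebraMap A K (α i) ^ n * (algebraMap A K (x i₀) / algebraMap A K (α i₀) ^ n) =
      algebraMap A K (x i) := fun i => by
    rw [mul_div_assoc', div_eq_iff (hne i₀)]
    have := congrArg (algebraMap A K) (hx i₀ i)
    rw [map_mul, map_mul, map_pow, map_pow] at this
    rw [this]; ring
  obtain ⟨c, hc⟩ := h _ fun i => ⟨n, x i, key i⟩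
  refine ⟨c, fun i => IsFractionRing.injective A K ?_⟩
  rw [map_mul, map_pow, hc, key]

section PS

variable {A B : Type u} [CommRing A] [CommRing B] [IsLocalRing B] [IsLocalRing A] (ι : B →+* PowerSeries A)
  [IsLocalHom ι] (hι : ι.Flat)

include hι

theorem faithfullyFlat : ι.FaithfullyFlat := by
  letI := ι.toAlgebra
  haveI : Module.Flat B (PowerSeries A) := hι
  haveI : IsLocalHom (algebraMap B (PowerSeries A)) := ‹IsLocalHom ι›
  exact RingHom.faithfullyFlat_algebraMap_iff.2 Module.FaithfullyFlat.of_flat_of_isLocalHom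

theorem mem_span_of_map {b s : B} (h : ι s ∣ ι b) : s ∣ b := by
  letI := ι.toAlgebra
  haveI : Module.FaithfullyFlat B (PowerSeries A) := faithfullyFlat ι hι
  rw [← Ideal.mem_span_singleton]
  rw [← Ideal.comap_map_eq_self_of_faithfullyFlat (B := PowerSeries A) (Ideal.span {s}), Ideal.mem_comap,
    Ideal.map_span, Set.image_singleton, Ideal.mem_span_singleton]
  exact h

theorem injective : Function.Injective ι := (injective_iff_map_eq_zero ι).2 fun b hb => by
  simpa using mem_span_of_map ι hι (b := b) (s := 0) (by simp [hb])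

theorem isDomain [IsDomain A] : IsDomain B := (injective ι hι).isDomain ι

theorem isIntegrallyClosed [IsDomain A] [IsNoetherianRing A] [IsIntegrallyClosed A] : IsIntegrallyClosed B := by
  haveI := isDomain ι hι
  haveI := NagataLib.isIntegrallyClosed_powerSeries A
  let G := FractionRing (PowerSeries A)
  have hinj : Function.Injective ((algebraMap (PowerSeries A) G).comp ι) :=
    (IsFractionRing.injective _ G).comp (injective ι hι)
  obtain ⟨g, hg⟩ : ∃ g : FractionRing B →+* G, ∀ a, g (algebraMap B _ a) = algebraMap (PowerSeries A) G (ι a) :=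
    ⟨IsFractionRing.lift hinj, fun a => IsFractionRing.lift_algebraMap hinj a⟩
  refine (isIntegrallyClosed_iff (FractionRing B)).2 fun {x} hx => ?_
  obtain ⟨p, hp, hpx⟩ := hx
  have hgx : IsIntegral (PowerSeries A) (g x) := ⟨p.map ι, hp.map ι, by
    rw [Polynomial.eval₂_map, show (algebraMap (PowerSeries A) G).comp ι = g.comp (algebraMap B _) from
      RingHom.ext fun a => by rw [RingHom.comp_apply, RingHom.comp_apply, hg], ← Polynomial.hom_eval₂, hpx, map_zero]⟩
  obtain ⟨y, hy⟩ := (IsIntegrallyClosed.isIntegral_iff (R := PowerSeries A) (K := G)).1 hgx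
  obtain ⟨b, s, hs, rfl⟩ := IsFractionRing.div_surjective (A := B) x
  have hs0 : algebraMap B (FractionRing B) s ≠ 0 :=
    (map_ne_zero_iff _ (IsFractionRing.injective B _)).2 (nonZeroDivisors.ne_zero hs)
  obtain ⟨c, rfl⟩ := mem_span_of_map ι hι (b := b) (s := s) ⟨y, IsFractionRing.injective (PowerSeries A) G (by
    have h2 : g (algebraMap B _ b) = g (algebraMap B _ s) * algebraMap (PowerSeries A) G y := by
      rw [hy, ← map_mul, mul_div_cancel₀ _ hs0]
    rw [map_mul]
    rwa [hg, hg] at h2)⟩
  exact ⟨c, by rw [map_mul, mul_div_cancel_left₀ _ hs0]⟩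

/-- Compatible families in the henselized line come from a single element. -/
theorem extends_line [IsDomain A] (j : A →+* B) (hj : ∀ x, ι (j x) = PowerSeries.C x) {r : ℕ} {α : Fin r → A}
    (h : ExtendsFrac A α) (i₀ : Fin r) (hα : ∀ i, α i ≠ 0) (n : ℕ) (x : Fin r → B)
    (hx : ∀ i k, j (α k) ^ n * x i = j (α i) ^ n * x k) : ∃ c : B, ∀ i, j (α i) ^ n * c = x i := by
  haveI := isDomain ι hι
  have hco : ∀ (b : B) (i : Fin r) (m : ℕ),
      PowerSeries.coeff m (ι (j (α i) ^ n * b)) = α i ^ n * PowerSeries.coeff m (ι b) := fun b i m => by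
    rw [map_mul, map_pow, hj, ← map_pow, PowerSeries.coeff_C_mul]
  have hd : ∀ m, ∃ c : A, ∀ i, α i ^ n * c = PowerSeries.coeff m (ι (x i)) := fun m =>
    extends_self h i₀ hα n _ fun i k => by rw [← hco, ← hco, hx]
  choose d hd using hd
  obtain ⟨c, hc⟩ := mem_span_of_map ι hι (b := x i₀) (s := j (α i₀) ^ n) ⟨PowerSeries.mk d, by
    ext m
    rw [map_pow, hj, ← map_pow, PowerSeries.coeff_C_mul, PowerSeries.coeff_mk, hd]⟩
  refine ⟨c, fun i => ?_⟩
  have hne : j (α i₀) ^ n ≠ 0 := pow_ne_zero _ fun h0 => hα i₀ (by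
    have := congrArg (PowerSeries.constantCoeff (R := A)) (congrArg ι h0)
    rwa [hj, PowerSeries.constantCoeff_C, map_zero, map_zero] at this)
  refine mul_left_cancel₀ hne ?_
  rw [mul_left_comm, ← hc, hx]

end PS

end Groth.Agent.HenLineLib
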