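import Groth.Agent.HenLineLib.Comparison
import Groth.Agent.HenLineLib.CodimTwo
import Groth.Agent.HenLineLib.Unram
import Groth.Agent.HenLineLib.SepPairs
import Groth.Agent.HenLineLib.Extension
import Groth.Agent.HenLineLib.Sections
import Mathlib.FieldTheory.PrimitiveElement

/-!
# Galois covers of degree invertible on the base of the henselized line are trivial

The cover is étale away from a nonzero element of the absolutely integrally closed base.
-/

set_option autoImplicit false
set_option linter.style.haveILetI false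
set_option backward.isDefEq.respectTransparency false

universe u

open IsLocalRing Polynomial TensorProduct IntermediateField

noncomputable section

namespace Groth.Agent.HenLineLib

/-- An element of the fraction field is a fraction of elements of the subring. -/
def InFrac {B F : Type u} [CommRing B] [Field F] [Algebra B F] (S : Subring B) (z : F) : Prop :=
  ∃ a ∈ S, ∃ b ∈ S, b ≠ 0 ∧ z * algebraMap B F b = algebraMap B F a

theorem InFrac.mono {B F : Type u} [CommRing B] [Field F] [Algebra B F] {S S' : Subring B} (h : S ≤ S') {z : F}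
    (hz : InFrac S z) : InFrac S' z := by
  obtain ⟨a, ha, b, hb, hb0, hab⟩ := hz
  exact ⟨a, h ha, b, h hb, hb0, hab⟩

/-- The descent data of a cover at a subring. -/
structure IsDefinedOver {B F M : Type u} [CommRing B] [Field F] [Field M] [Algebra B F] [Algebra F M] [Algebra B M]
    (S : Subring B) (θ : M) {n : ℕ} (x y : Fin n → M) : Prop where
  minpoly_mem : ∀ k, InFrac S ((minpoly F θ).coeff k)
  roots_mem : ∀ r : M, aeval r (minpoly F θ) = 0 → ∃ q : F[X], (∀ k, InFrac S (q.coeff k)) ∧ aeval θ q = r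
  x_mem : ∀ i, ∃ q : F[X], (∀ k, InFrac S (q.coeff k)) ∧ aeval θ q = x i
  y_mem : ∀ i, ∃ q : F[X], (∀ k, InFrac S (q.coeff k)) ∧ aeval θ q = y i
  x_int : ∀ i, ∃ p : B[X], p.Monic ∧ (∀ k, p.coeff k ∈ S) ∧ p.eval₂ (algebraMap B M) (x i) = 0
  y_int : ∀ i, ∃ p : B[X], p.Monic ∧ (∀ k, p.coeff k ∈ S) ∧ p.eval₂ (algebraMap B M) (y i) = 0

theorem IsDefinedOver.mono {B F M : Type u} [CommRing B] [Field F] [Field M] [Algebra B F] [Algebra F M] [Algebra B M]
    {S S' : Subring B} (h : S ≤ S') {θ : M} {n : ℕ} {x y : Fin n → M} (hd : IsDefinedOver (F := F) S θ x y) :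
    IsDefinedOver (F := F) S' θ x y where
  minpoly_mem k := (hd.minpoly_mem k).mono h
  roots_mem r hr := (hd.roots_mem r hr).imp fun _ hq => ⟨fun k => (hq.1 k).mono h, hq.2⟩
  x_mem i := (hd.x_mem i).imp fun _ hq => ⟨fun k => (hq.1 k).mono h, hq.2⟩
  y_mem i := (hd.y_mem i).imp fun _ hq => ⟨fun k => (hq.1 k).mono h, hq.2⟩
  x_int i := (hd.x_int i).imp fun _ hp => ⟨hp.1, fun k => h (hp.2.1 k), hp.2.2⟩
  y_int i := (hd.y_int i).imp fun _ hp => ⟨hp.1, fun k => h (hp.2.1 k), hp.2.2⟩

section Data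

variable {B₁ F₁ B F M : Type u} [CommRing B₁] [Field F₁] [Algebra B₁ F₁] [IsFractionRing B₁ F₁]
  [CommRing B] [Field F] [Algebra B F] [Field M] [Algebra F M] [Algebra B M] [IsScalarTower B F M]
  [Algebra F₁ F] [Algebra F₁ M] [IsScalarTower F₁ F M] (β : B₁ →+* B)
  (hβ : ∀ b, algebraMap F₁ F (algebraMap B₁ F₁ b) = algebraMap B F (β b))

include hβ in
/-- Polynomials with coefficients among the fractions lift. -/
theorem lifts_of_inFrac {q : F[X]} (h : ∀ k, InFrac β.range (q.coeff k)) :
    q ∈ Polynomial.lifts (algebraMap F₁ F) := by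
  rw [Polynomial.lifts_iff_coeff_lifts]
  intro k
  obtain ⟨_, ⟨a, rfl⟩, _, ⟨b, rfl⟩, hb, hab⟩ := h k
  refine ⟨algebraMap B₁ F₁ a / algebraMap B₁ F₁ b, ?_⟩
  rcases eq_or_ne (algebraMap B₁ F₁ b) 0 with h0 | h0
  · have h1 := hβ b
    rw [h0, map_zero] at h1
    have h2 : algebraMap B F (β a) = 0 := by rw [← hab, ← h1, mul_zero]
    have h3 : b ≠ 0 := fun hb0 => hb (by rw [hb0, map_zero])
    exact absurd h0 ((map_ne_zero_iff _ (IsFractionRing.injective B₁ F₁)).2 h3)
  · rw [map_div₀, div_eq_iff ((map_ne_zero_iff _ (algebraMap F₁ F).injective).2 h0), hβ, hβ, hab]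

variable [Nontrivial B] [Algebra B₁ M] [IsScalarTower B₁ F₁ M] [FiniteDimensional F M] [IsGalois F M]

include hβ in
/-- The separability pairs at a stage. -/
theorem exists_pairs {θ : M} (hθ : F⟮θ⟯ = ⊤) {n : ℕ} {x y : Fin n → M}
    (hd : IsDefinedOver (F := F) β.range θ x y) {g₁ : B₁} (hsum : ∑ i, y i * x i = algebraMap B M (β g₁))
    (hann : ∀ z : M, ((1 : M) ⊗ₜ[F] z - z ⊗ₜ[F] (1 : M)) * ∑ i, y i ⊗ₜ[F] x i = 0) :
    Module.finrank F₁ F₁⟮θ⟯ = Module.finrank F M ∧ FiniteDimensional F₁ F₁⟮θ⟯ ∧ IsGalois F₁ F₁⟮θ⟯ ∧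
      ∃ x' y' : Fin n → integralClosure B₁ F₁⟮θ⟯,
        (∀ i, ((y' i : F₁⟮θ⟯) : M) = y i) ∧
        ∑ i, y' i * x' i = algebraMap B₁ (integralClosure B₁ F₁⟮θ⟯) g₁ ∧
        ∀ z : F₁⟮θ⟯, ((1 : F₁⟮θ⟯) ⊗ₜ[F₁] z - z ⊗ₜ[F₁] (1 : F₁⟮θ⟯)) *
          ∑ i, (y' i : F₁⟮θ⟯) ⊗ₜ[F₁] (x' i : F₁⟮θ⟯) = 0 := by
  have hg := lifts_of_inFrac β hβ hd.minpoly_mem
  have hBM : ∀ b, algebraMap B₁ M b = algebraMap B M (β b) := fun b => by
    rw [IsScalarTower.algebraMap_apply B₁ F₁ M, IsScalarTower.algebraMap_apply F₁ F M, hβ,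
      ← IsScalarTower.algebraMap_apply B F M]
  have hel : ∀ z : M, (∃ q : F[X], (∀ k, InFrac β.range (q.coeff k)) ∧ aeval θ q = z) →
      (∃ p : B[X], p.Monic ∧ (∀ k, p.coeff k ∈ β.range) ∧ p.eval₂ (algebraMap B M) z = 0) →
      ∃ c : integralClosure B₁ F₁⟮θ⟯, ((c : F₁⟮θ⟯) : M) = z := by
    rintro z ⟨q, hq, rfl⟩ ⟨p, hp, hpc, hpz⟩
    obtain ⟨p₁, hp₁, -, hp₁m⟩ := Polynomial.lifts_and_degree_eq_and_monic
      ((Polynomial.lifts_iff_coeff_lifts p).2 fun k => hpc k) hp
    have hint : IsIntegral B₁ (aeval θ q) := ⟨p₁, hp₁m, by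
      rw [show algebraMap B₁ M = (algebraMap B M).comp β from RingHom.ext hBM, ← Polynomial.eval₂_map, hp₁, hpz]⟩
    exact ⟨⟨⟨_, mem_adjoin_of_lifts θ (lifts_of_inFrac β hβ hq)⟩,
      (isIntegral_algHom_iff ((IntermediateField.val F₁⟮θ⟯).restrictScalars B₁) (fun a b h => Subtype.ext h)).1 hint⟩, rfl⟩
  choose x' hx' using fun i => hel (x i) (hd.x_mem i) (hd.x_int i)
  choose y' hy' using fun i => hel (y i) (hd.y_mem i) (hd.y_int i)
  refine ⟨finrank_adjoin_eq θ hθ hg, finiteDimensional_adjoin_theta θ hg,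
    isGalois_adjoin θ hg fun r hr => ?_, x', y', hy', ?_, ?_⟩
  · obtain ⟨q, hq, hqr⟩ := hd.roots_mem r hr
    exact ⟨q, lifts_of_inFrac β hβ hq, hqr⟩
  · apply Subtype.ext; apply Subtype.ext
    show (((∑ i, y' i * x' i : integralClosure B₁ F₁⟮θ⟯) : F₁⟮θ⟯) : M) = algebraMap B₁ M g₁
    rw [hBM, ← hsum]
    push_cast
    simp [hx', hy']
  · refine annihilate_descend θ hθ hg (fun i => (x' i : F₁⟮θ⟯)) (fun i => (y' i : F₁⟮θ⟯)) fun z => ?_
    simp only [hx', hy']
    exact hann z

end Data

variable {R : Type u} [CommRing R] [IsDomain R] [IsLocalRing R]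

/-- **The key case.** A Galois cover defined over a stage, étale away from `f`, of degree invertible on the base,
is trivial. -/
theorem finrank_eq_one_of_stage (hR : AICCover.MonicRoot R) (P : Ideal R[X]) [P.IsPrime]
    (hP : P = (maximalIdeal R).map C ⊔ Ideal.span {X})
    (B : Type u) [CommRing B] [IsDomain B] [IsLocalRing B] [Algebra (Localization.AtPrime P) B]
    [IsLocalHom (algebraMap (Localization.AtPrime P) B)] [_root_.Hensel.IsHenselization (Localization.AtPrime P) B]
    (F M : Type u) [Field F] [Algebra B F] [IsFractionRing B F] [Field M] [Algebra F M] [FiniteDimensional F M]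
    [IsGalois F M] [Algebra B M] [IsScalarTower B F M] (hN : IsUnit ((Module.finrank F M : ℕ) : R))
    {θ : M} (hθ : F⟮θ⟯ = ⊤) {n : ℕ} (x y : Fin n → M) {f : R} (hf : f ≠ 0)
    (hsum : ∑ i, y i * x i = algebraMap B M (polyMap P B (C f)))
    (hann : ∀ z : M, ((1 : M) ⊗ₜ[F] z - z ⊗ₜ[F] (1 : M)) * ∑ i, y i ⊗ₜ[F] x i = 0)
    (A : Subring R) (hA : IsStage A) (hfA : f ∈ A) (hd : IsDefinedOver (F := F) (lineHom P B A).range θ x y) :
    Module.finrank F M = 1 := by
  classical
  set N := Module.finrank F M with hNdef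
  have hN0 : 0 < N := Module.finrank_pos
  haveI := hA.noetherian
  haveI := hA.integrallyClosed
  haveI := hA.henselian
  haveI := hA.isLocalHom
  let fA : A := ⟨f, hfA⟩
  have hfA0 : fA ≠ 0 := fun h => hf (congrArg Subtype.val h)
  -- the line over the stage
  haveI : HenselianLocalRing (lineAt P A) :=
    (inferInstance : _root_.Hensel.IsHenselization (Localization.AtPrime (originAt P A)) (lineAt P A)).henselian
  obtain ⟨ι, hιl, hι, hιc⟩ := exists_toPowerSeries A (originAt P A) (originAt_eq hP) (lineAt P A)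
  haveI := hιl
  haveI := isDomain ι hι
  haveI := isIntegrallyClosed ι hι
  haveI := isNoetherianRing_line (originAt P A) (lineAt P A)
  have hj : ∀ a, ι (lineMap (originAt P A) (lineAt P A) a) = PowerSeries.C a := fun a =>
    (hιc (C a)).trans (Polynomial.coe_C a)
  let ε : lineAt P A →+* A := (PowerSeries.constantCoeff (R := A)).comp ι
  have hεj : ∀ a, ε (lineMap (originAt P A) (lineAt P A) a) = a := fun a => by
    rw [RingHom.comp_apply, hj, PowerSeries.constantCoeff_C]
  let F₁ := FractionRing (lineAt P A)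
  have hinj₁ : Function.Injective ((algebraMap B F).comp (lineHom P B A)) :=
    (IsFractionRing.injective B F).comp (lineHom_injective P B A)
  letI : Algebra F₁ F := (IsFractionRing.lift hinj₁).toAlgebra
  have hβ₁ : ∀ b, algebraMap F₁ F (algebraMap (lineAt P A) F₁ b) = algebraMap B F (lineHom P B A b) := fun b =>
    IsFractionRing.lift_algebraMap hinj₁ b
  letI : Algebra F₁ M := ((algebraMap F M).comp (algebraMap F₁ F)).toAlgebra
  haveI : IsScalarTower F₁ F M := IsScalarTower.of_algebraMap_eq' rfl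
  letI : Algebra (lineAt P A) M := ((algebraMap F₁ M).comp (algebraMap (lineAt P A) F₁)).toAlgebra
  haveI : IsScalarTower (lineAt P A) F₁ M := IsScalarTower.of_algebraMap_eq' rfl
  let g₁ := lineMap (originAt P A) (lineAt P A) fA
  have hg₁ : lineHom P B A g₁ = polyMap P B (C f) := by
    refine (lineHom_poly P B A (C fA)).trans ?_
    rw [Polynomial.map_C]
    rfl
  obtain ⟨hrk₁, hfd₁, hgal₁, x₁, y₁, hy₁, hmul₁, hann₁⟩ :=
    exists_pairs (F₁ := F₁) (lineHom P B A) hβ₁ hθ hd (g₁ := g₁) (by rw [hg₁]; exact hsum) hann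
  haveI := hfd₁; haveI := hgal₁
  let M₁ := F₁⟮θ⟯
  let C₁ := integralClosure (lineAt P A) M₁
  haveI : IsIntegralClosure C₁ (lineAt P A) M₁ := integralClosure.isIntegralClosure _ _
  haveI het₁ : Algebra.FormallyEtale (lineAt P A) (Localization.Away (algebraMap (lineAt P A) C₁ g₁)) :=
    formallyEtale_of_pairs (F := F₁) (M := M₁) x₁ y₁ (g := g₁) (m := 1) (by rw [pow_one, hmul₁]) hann₁
  haveI : Module.Finite (lineAt P A) C₁ := IsIntegralClosure.finite (lineAt P A) F₁ M₁ C₁
  obtain ⟨m, t, ht⟩ := exists_sepElem (B := lineAt P A) (C := C₁) g₁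
  -- the finite extension of the stage
  let KA := FractionRing A
  let K := FractionRing R
  have hinjA : Function.Injective ((algebraMap R K).comp A.subtype) :=
    (IsFractionRing.injective R K).comp Subtype.val_injective
  letI : Algebra KA K := (IsFractionRing.lift hinjA).toAlgebra
  have hKA : ∀ a : A, algebraMap KA K (algebraMap A KA a) = algebraMap R K a := fun a =>
    IsFractionRing.lift_algebraMap hinjA a
  have hNA : IsUnit ((N : ℕ) : A) := hA.isLocalHom.map_nonunit _ (by rwa [map_natCast])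
  have hfin := finite_height_one hfA0
  choose π hπp hπ0 hπ using fun p : hfin.toFinset =>
    haveI := (hfin.mem_toFinset.1 p.2).1
    exists_local_generator (A := A) p.1 (hfin.mem_toFinset.1 p.2).2.1
  have hθp : ∀ p : hfin.toFinset, ∃ r : R, r ^ N = π p := fun p => by
    obtain ⟨r, hr⟩ := hR (X ^ N - C (π p : R)) (monic_X_pow_sub_C _ hN0.ne') (by rw [natDegree_X_pow_sub_C]; exact hN0)
    refine ⟨r, ?_⟩
    rwa [IsRoot.def, eval_sub, eval_pow, eval_X, eval_C, sub_eq_zero] at hr
  choose θp hθp using hθp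
  choose py hpym hpy using fun i => Algebra.IsIntegral.isIntegral (R := lineAt P A) (y₁ i)
  let Vy : Finset R := Finset.univ.biUnion fun i =>
    ((py i).map (A.subtype.comp ε)).roots.toFinset.filter fun v => IsSeparable KA (algebraMap R K v)
  let V : Finset R := Finset.univ.image θp ∪ Vy
  have hV : ∀ v ∈ V, IsSeparable KA (algebraMap R K v) ∧ A.subtype.IsIntegralElem v := by
    intro v hv
    rcases Finset.mem_union.1 hv with hv | hv
    · obtain ⟨p, -, rfl⟩ := Finset.mem_image.1 hv
      refine ⟨?_, X ^ N - C (π p), monic_X_pow_sub_C _ hN0.ne', by simp [hθp]⟩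
      have hsep : (X ^ N - C (algebraMap A KA (π p)) : KA[X]).Separable := separable_X_pow_sub_C _
        (by rw [← map_natCast (algebraMap A KA)]; exact (hNA.map _).ne_zero)
        ((map_ne_zero_iff _ (IsFractionRing.injective A KA)).2 (hπ0 p))
      exact hsep.of_dvd (minpoly.dvd KA _ (by
        rw [map_sub, map_pow, aeval_X, aeval_C, hKA, ← map_pow, hθp, sub_self]))
    · obtain ⟨i, -, hvi⟩ := Finset.mem_biUnion.1 hv
      obtain ⟨hroot, hs⟩ := Finset.mem_filter.1 hvi
      refine ⟨hs, (py i).map ε, (hpym i).map _, ?_⟩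
      rw [Multiset.mem_toFinset, mem_roots ((hpym i).map _).ne_zero, IsRoot.def, eval_map] at hroot
      rw [eval₂_map]
      exact hroot
  obtain ⟨A', hle, hA', hincl, hVA'⟩ := exists_stage_ext hR A hA hKA V hV
  haveI := hA'.noetherian
  haveI := hA'.integrallyClosed
  haveI := hA'.henselian
  haveI := hA'.isLocalHom
  letI : Algebra A A' := (Subring.inclusion hle).toAlgebra
  haveI : Module.Finite A A' := hincl
  haveI : FaithfulSMul A A' := (faithfulSMul_iff_algebraMap_injective A A').2 fun a b h =>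
    Subtype.ext (congrArg (fun z : A' => (z : R)) h)
  -- the line over the extension
  haveI : HenselianLocalRing (lineAt P A') :=
    (inferInstance : _root_.Hensel.IsHenselization (Localization.AtPrime (originAt P A')) (lineAt P A')).henselian
  obtain ⟨ι', hι'l, hι', hι'c⟩ := exists_toPowerSeries A' (originAt P A') (originAt_eq hP) (lineAt P A')
  haveI := hι'l
  haveI := isDomain ι' hι'
  haveI := isIntegrallyClosed ι' hι'
  haveI := isNoetherianRing_line (originAt P A') (lineAt P A')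
  have hj' : ∀ a, ι' (lineMap (originAt P A') (lineAt P A') a) = PowerSeries.C a := fun a =>
    (hι'c (C a)).trans (Polynomial.coe_C a)
  obtain ⟨g, hgl, hgβ, hgpoly, hcompat⟩ := exists_compare P B hle ι hιc ι' hι'c
  let F₂ := FractionRing (lineAt P A')
  have hinj₂ : Function.Injective ((algebraMap B F).comp (lineHom P B A')) :=
    (IsFractionRing.injective B F).comp (lineHom_injective P B A')
  letI : Algebra F₂ F := (IsFractionRing.lift hinj₂).toAlgebra
  have hβ₂ : ∀ b, algebraMap F₂ F (algebraMap (lineAt P A') F₂ b) = algebraMap B F (lineHom P B A' b) := fun b =>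
    IsFractionRing.lift_algebraMap hinj₂ b
  letI : Algebra F₂ M := ((algebraMap F M).comp (algebraMap F₂ F)).toAlgebra
  haveI : IsScalarTower F₂ F M := IsScalarTower.of_algebraMap_eq' rfl
  letI : Algebra (lineAt P A') M := ((algebraMap F₂ M).comp (algebraMap (lineAt P A') F₂)).toAlgebra
  haveI : IsScalarTower (lineAt P A') F₂ M := IsScalarTower.of_algebraMap_eq' rfl
  let g₂ := lineMap (originAt P A') (lineAt P A') (Subring.inclusion hle fA)
  have hgg : g g₁ = g₂ := by
    refine (hgpoly (C fA)).trans ?_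
    rw [Polynomial.map_C]
    rfl
  obtain ⟨hrk₂, hfd₂, hgal₂, x₂, y₂, hy₂, hmul₂, hann₂⟩ :=
    exists_pairs (F₁ := F₂) (lineHom P B A') hβ₂ hθ (hd.mono (range_lineHom_mono P B hle)) (g₁ := g₂)
      (by rw [← hgg, show lineHom P B A' (g g₁) = lineHom P B A g₁ from RingHom.congr_fun hgβ g₁, hg₁]; exact hsum) hann
  haveI := hfd₂; haveI := hgal₂
  let M₂ := F₂⟮θ⟯
  let C₂ := integralClosure (lineAt P A') M₂
  haveI : IsIntegralClosure C₂ (lineAt P A') M₂ := integralClosure.isIntegralClosure _ _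
  -- the tower
  letI : Algebra (lineAt P A) (lineAt P A') := g.toAlgebra
  have hinjg : Function.Injective g := fun a b h => lineHom_injective P B A (by
    rw [← hgβ, RingHom.comp_apply, RingHom.comp_apply, h])
  have hinj₁₂ : Function.Injective ((algebraMap (lineAt P A') F₂).comp g) :=
    (IsFractionRing.injective (lineAt P A') F₂).comp hinjg
  letI : Algebra F₁ F₂ := (IsFractionRing.lift hinj₁₂).toAlgebra
  have hF₁₂ : ∀ b, algebraMap F₁ F₂ (algebraMap (lineAt P A) F₁ b) = algebraMap (lineAt P A') F₂ (g b) := fun b =>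
    IsFractionRing.lift_algebraMap hinj₁₂ b
  haveI : IsScalarTower (lineAt P A) F₁ F₂ := IsScalarTower.of_algebraMap_eq fun b =>
    (IsScalarTower.algebraMap_apply (lineAt P A) (lineAt P A') F₂ b).trans (hF₁₂ b).symm
  haveI : IsScalarTower F₁ F₂ M := IsScalarTower.of_algebraMap_eq' (IsLocalization.ringHom_ext
    (nonZeroDivisors (lineAt P A)) (RingHom.ext fun b => by
      show algebraMap F M (algebraMap F₁ F (algebraMap _ F₁ b)) =
        algebraMap F M (algebraMap F₂ F (algebraMap F₁ F₂ (algebraMap _ F₁ b)))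
      rw [hF₁₂, hβ₁, hβ₂, ← RingHom.comp_apply (lineHom P B A'), hgβ]))
  have hBM : ∀ b, algebraMap (lineAt P A) M b = algebraMap (lineAt P A') M (g b) := fun b => by
    rw [IsScalarTower.algebraMap_apply (lineAt P A) F₁ M, IsScalarTower.algebraMap_apply F₁ F₂ M, hF₁₂,
      ← IsScalarTower.algebraMap_apply]
  let incl : M₁ →+* M₂ :=
    (M₁.val.toRingHom).codRestrict M₂.toSubalgebra.toSubring fun z => by
      have hle' : M₁ ≤ M₂.restrictScalars F₁ := adjoin_simple_le_iff.2 (mem_adjoin_simple_self F₂ θ)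
      exact hle' z.2
  letI : Algebra M₁ M₂ := incl.toAlgebra
  have hincl : ∀ z : M₁, ((algebraMap M₁ M₂ z : M₂) : M) = z := fun z => rfl
  haveI : IsScalarTower F₁ M₁ M₂ := IsScalarTower.of_algebraMap_eq fun z => Subtype.ext (by
    rw [hincl, IsScalarTower.algebraMap_apply F₁ F₂ M₂]
    exact (IsScalarTower.algebraMap_apply F₁ F₂ M z).symm)
  have hgen : Algebra.adjoin F₂ (Set.range (algebraMap M₁ M₂)) = ⊤ := by
    rw [eq_top_iff]
    rintro ⟨z, hz⟩ -
    have hz' : z ∈ (F₂⟮θ⟯).toSubalgebra := hz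
    rw [adjoin_simple_toSubalgebra_of_isAlgebraic ((exists_minpoly_map θ (lifts_of_inFrac (F₁ := F₂) (lineHom P B A')
      hβ₂ (hd.mono (range_lineHom_mono P B hle)).minpoly_mem)).1.isAlgebraic),
      Algebra.adjoin_singleton_eq_range_aeval] at hz'
    obtain ⟨q, rfl⟩ := hz'
    have he : (⟨(aeval θ) q, hz⟩ : M₂) = aeval (algebraMap M₁ M₂ (AdjoinSimple.gen F₁ θ)) q := Subtype.ext (by
      rw [← IntermediateField.coe_val, ← aeval_algHom_apply]
      rfl)
    change (⟨(aeval θ) q, hz⟩ : M₂) ∈ _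
    rw [he]
    exact Algebra.adjoin_mono (Set.singleton_subset_iff.2 (Set.mem_range_self _))
      (Polynomial.aeval_mem_adjoin_singleton F₂ (algebraMap M₁ M₂ (AdjoinSimple.gen F₁ θ)))
  -- the inclusion of the integral closures
  have hC : ∀ c : C₁, ∃ c' : C₂, ((c' : M₂) : M) = ((c : M₁) : M) := fun c => by
    obtain ⟨p, hp, hpc⟩ := Algebra.IsIntegral.isIntegral (R := lineAt P A) c
    have h1 : p.eval₂ (algebraMap (lineAt P A) M) ((c : M₁) : M) = 0 := by
      have := congrArg ((M₁.val.restrictScalars (lineAt P A)).comp C₁.val).toRingHom hpc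
      rw [Polynomial.hom_eval₂, map_zero] at this
      refine Eq.trans ?_ this
      congr 1
    have hint : IsIntegral (lineAt P A') ((algebraMap M₁ M₂ (c : M₁) : M₂) : M) := ⟨p.map g, hp.map g, by
      rw [hincl, Polynomial.eval₂_map, show (algebraMap (lineAt P A') M).comp g = algebraMap (lineAt P A) M from
        RingHom.ext fun b => (hBM b).symm]
      exact h1⟩
    exact ⟨⟨algebraMap M₁ M₂ (c : M₁),
      (isIntegral_algHom_iff (M₂.val.restrictScalars (lineAt P A')) (fun a b h => Subtype.ext h)).1 hint⟩, rfl⟩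
  choose i hi using hC
  have hext : ∀ a b : C₂, ((a : M₂) : M) = ((b : M₂) : M) → a = b := fun a b h => Subtype.ext (Subtype.ext h)
  let iC : C₁ →+* C₂ :=
    { toFun := i
      map_one' := hext _ _ (by rw [hi]; simp)
      map_mul' := fun a b => hext _ _ (by push_cast; rw [hi, hi, hi]; simp)
      map_zero' := hext _ _ (by rw [hi]; simp)
      map_add' := fun a b => hext _ _ (by push_cast; rw [hi, hi, hi]; simp) }
  have hiB : ∀ b, iC (algebraMap (lineAt P A) C₁ b) = algebraMap (lineAt P A') C₂ (g b) := fun b => hext _ _ (by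
    show ((i (algebraMap (lineAt P A) C₁ b) : M₂) : M) = _
    rw [hi]
    exact hBM b)
  have hiy : ∀ k, iC (y₁ k) = y₂ k := fun k => hext _ _ ((hi _).trans ((hy₁ k).trans (hy₂ k).symm))
  -- unramified in height one, and the sections
  let ε' : lineAt P A' →+* A' := (PowerSeries.constantCoeff (R := A')).comp ι'
  have hεj' : ∀ a, ε' (lineMap (originAt P A') (lineAt P A') a) = a := fun a => by
    rw [RingHom.comp_apply, hj', PowerSeries.constantCoeff_C]
  have hεg : ∀ b, (ε' (g b) : R) = ε b := fun b => by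
    show ((PowerSeries.constantCoeff (ι' (g b)) : A') : R) = _
    rw [hcompat, ← PowerSeries.coeff_zero_eq_constantCoeff_apply, PowerSeries.coeff_map,
      PowerSeries.coeff_zero_eq_constantCoeff_apply]
    rfl
  obtain ⟨ψ, hψ, hψB⟩ := exists_sections (B := lineAt P A') hR ε' (fun a => ⟨_, hεj' a⟩) A'.subtype Subtype.val_injective
    F₂ M₂ C₂ x₂ y₂ (g := g₂) hmul₂ hann₂ (by
      rw [show g₂ = lineMap (originAt P A') (lineAt P A') (Subring.inclusion hle fA) from rfl, hεj']
      exact fun h => hf (congrArg Subtype.val h))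
    (fun χ hχ k => by
      let χ₁ : C₁ →+* R := χ.comp iC
      have hχ₁ : ∀ b, χ₁ (algebraMap (lineAt P A) C₁ b) = (ε b : R) := fun b => by
        rw [RingHom.comp_apply, hiB, hχ, ← hεg]
        rfl
      have hsep := isSeparable_of_sepElem (KA := KA) (L := K) ((algebraMap A KA).comp ε) ht (by
          rw [RingHom.comp_apply, map_pow, hεj, map_ne_zero_iff _ (IsFractionRing.injective A KA)]
          exact pow_ne_zero _ hfA0)
        ((algebraMap R K).comp χ₁) (fun b => by
          show algebraMap R K (χ₁ _) = algebraMap KA K (algebraMap A KA (ε b))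
          rw [hχ₁, hKA]) (y₁ k)
      rw [← hiy]
      refine ⟨⟨χ₁ (y₁ k), hVA' (Finset.mem_coe.2 (Finset.mem_union_right _ (Finset.mem_biUnion.2
        ⟨k, Finset.mem_univ _, Finset.mem_filter.2 ⟨?_, hsep⟩⟩)))⟩, rfl⟩
      rw [Multiset.mem_toFinset, mem_roots ((hpym k).map _).ne_zero, IsRoot.def, eval_map,
        show A.subtype.comp ε = χ₁.comp (algebraMap (lineAt P A) C₁) from RingHom.ext fun b => (hχ₁ b).symm,
        ← Polynomial.hom_eval₂, hpy, map_zero])
  have hunr : ∀ (Q : Ideal C₂) [Q.IsPrime], Q.height ≤ 1 → Algebra.IsUnramifiedAt (lineAt P A') Q := fun Q _ hQ =>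
    unramified_height_le_one ι hι (lineMap (originAt P A) (lineAt P A)) hj ι' hι'
      (lineMap (originAt P A') (lineAt P A')) hj' hcompat F₁ F₂ M₁ M₂ hgen C₁ C₂ fA hfA0 het₁
      (hrk₁.symm ▸ hNA) (fun p hp hp1 hfp => by
        let q : hfin.toFinset := ⟨p, hfin.mem_toFinset.2 ⟨hp, hp1, hfp⟩⟩
        refine ⟨π q, ⟨θp q, hVA' (Finset.mem_coe.2 (Finset.mem_union_left _ (Finset.mem_image.2
          ⟨q, Finset.mem_univ _, rfl⟩)))⟩, ?_, hπp q, hπ q⟩
        apply Subtype.ext
        show θp q ^ _ = (π q : R)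
        rw [hrk₁]
        exact hθp q) Q hQ
  have := finrank_eq_one_of_unramified (originAt P A') (originAt_eq hP) (lineAt P A') ι' hι' hj' F₂ M₂ C₂ hunr ψ hψ
    fun k b => hψB k b
  rw [hrk₂] at this
  exact this

/-- **Galois covers of degree invertible on the base are trivial.** -/
theorem finrank_eq_one_of_galois (hR : AICCover.MonicRoot R) (P : Ideal R[X]) [P.IsPrime]
    (hP : P = (maximalIdeal R).map C ⊔ Ideal.span {X})
    (B : Type u) [CommRing B] [IsDomain B] [IsLocalRing B] [Algebra (Localization.AtPrime P) B]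
    [IsLocalHom (algebraMap (Localization.AtPrime P) B)] [_root_.Hensel.IsHenselization (Localization.AtPrime P) B]
    (F M : Type u) [Field F] [Algebra B F] [IsFractionRing B F] [Field M] [Algebra F M] [FiniteDimensional F M]
    [IsGalois F M] [Algebra B M] [IsScalarTower B F M] (hN : IsUnit ((Module.finrank F M : ℕ) : R))
    {n : ℕ} (x y : Fin n → M) (hx : ∀ i, IsIntegral B (x i)) (hy : ∀ i, IsIntegral B (y i)) {f : R} (hf : f ≠ 0)
    (hsum : ∑ i, y i * x i = algebraMap B M (polyMap P B (C f)))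
    (hann : ∀ z : M, ((1 : M) ⊗ₜ[F] z - z ⊗ₜ[F] (1 : M)) * ∑ i, y i ⊗ₜ[F] x i = 0) :
    Module.finrank F M = 1 := by
  classical
  obtain ⟨T, hT, hTs⟩ := exists_stages R hR
  obtain ⟨θ, hθ⟩ := Field.exists_primitive_element F M
  have hq : ∀ z : M, ∃ q : F[X], aeval θ q = z := fun z => by
    have h : z ∈ (F⟮θ⟯).toSubalgebra := by rw [hθ]; exact IntermediateField.mem_top
    rw [adjoin_simple_toSubalgebra_of_isAlgebraic (Algebra.IsAlgebraic.isAlgebraic θ),
      Algebra.adjoin_singleton_eq_range_aeval] at h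
    exact h
  choose q hq using hq
  choose px hpxm hpx using hx
  choose py hpym hpy using hy
  let SF : Finset F := (minpoly F θ).coeffs ∪ ((minpoly F θ).rootSet M).toFinset.biUnion (fun r => (q r).coeffs) ∪
    Finset.univ.biUnion (fun i => (q (x i)).coeffs) ∪ Finset.univ.biUnion (fun i => (q (y i)).coeffs)
  let SB : Finset B := Finset.univ.biUnion (fun i => (px i).coeffs) ∪ Finset.univ.biUnion (fun i => (py i).coeffs)
  choose num den hden hnd using fun z : F => IsFractionRing.div_surjective (A := B) z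
  choose stage hstage using fun b : B => exists_lineHom_eq (P := P) (B := B) T hT (fun s => (hTs s).2) b
  let s : Finset R := SF.sup (fun z => stage (num z) ∪ stage (den z)) ∪ SB.sup stage ∪ {f}
  have hmono : ∀ {b : B}, stage b ⊆ s → b ∈ (lineHom P B (T s)).range := fun {b} h =>
    range_lineHom_mono P B (hT h) (hstage b)
  have hSF : ∀ q : F[X], q.coeffs ⊆ SF → ∀ k, InFrac (lineHom P B (T s)).range (q.coeff k) := fun p hp k => by
    by_cases h0 : p.coeff k = 0
    · exact ⟨0, zero_mem _, 1, one_mem _, one_ne_zero, by rw [h0, map_zero, zero_mul]⟩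
    have hle : stage (num (p.coeff k)) ∪ stage (den (p.coeff k)) ⊆ s :=
      (Finset.le_sup (f := fun z => stage (num z) ∪ stage (den z)) (hp (coeff_mem_coeffs h0))).trans
        (Finset.subset_union_left.trans Finset.subset_union_left)
    refine ⟨_, hmono (Finset.union_subset_left hle), _, hmono (Finset.union_subset_right hle),
      nonZeroDivisors.ne_zero (hden _), ?_⟩
    exact ((div_eq_iff ((map_ne_zero_iff _ (IsFractionRing.injective B F)).2 (nonZeroDivisors.ne_zero (hden _)))).1
      (hnd (p.coeff k))).symm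
  have hSB : ∀ p : B[X], p.coeffs ⊆ SB → ∀ k, p.coeff k ∈ (lineHom P B (T s)).range := fun p hp k => by
    by_cases h0 : p.coeff k = 0
    · rw [h0]; exact zero_mem _
    exact hmono ((Finset.le_sup (f := stage) (hp (coeff_mem_coeffs h0))).trans
      (Finset.subset_union_right.trans Finset.subset_union_left))
  refine finrank_eq_one_of_stage hR P hP B F M hN hθ x y hf hsum hann (T s) (hTs s).1
    ((hTs s).2 (Finset.mem_coe.2 (Finset.mem_union_right _ (Finset.mem_singleton_self f)))) ?_
  refine ⟨hSF _ (Finset.subset_union_left.trans (Finset.subset_union_left.trans Finset.subset_union_left)),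
    fun r hr => ⟨q r, hSF _ (fun c hc => ?_), hq r⟩,
    fun i => ⟨q (x i), hSF _ (fun c hc => ?_), hq _⟩, fun i => ⟨q (y i), hSF _ (fun c hc => ?_), hq _⟩,
    fun i => ⟨px i, hpxm i, hSB _ (fun c hc => ?_), hpx i⟩, fun i => ⟨py i, hpym i, hSB _ (fun c hc => ?_), hpy i⟩⟩
  · refine Finset.mem_union_left _ (Finset.mem_union_left _ (Finset.mem_union_right _ (Finset.mem_biUnion.2
      ⟨r, Set.mem_toFinset.2 (Polynomial.mem_rootSet.2 ⟨minpoly.ne_zero (IsIntegral.of_finite F θ), hr⟩), hc⟩)))
  · exact Finset.mem_union_left _ (Finset.mem_union_right _ (Finset.mem_biUnion.2 ⟨i, Finset.mem_univ _, hc⟩))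
  · exact Finset.mem_union_right _ (Finset.mem_biUnion.2 ⟨i, Finset.mem_univ _, hc⟩)
  · exact Finset.mem_union_left _ (Finset.mem_biUnion.2 ⟨i, Finset.mem_univ _, hc⟩)
  · exact Finset.mem_union_right _ (Finset.mem_biUnion.2 ⟨i, Finset.mem_univ _, hc⟩)

end Groth.Agent.HenLineLib
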