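import Groth.Agent.HenLineLib.Rigidity
import Mathlib.RingTheory.RingHom.Etale

/-!
# Rigidity for covers given by affine pieces over a punctured henselized line
-/

set_option autoImplicit false
set_option linter.style.haveILetI false

universe u

open IsLocalRing

noncomputable section

namespace Groth.Agent.HenLineLib

/-- **Rigidity, from affine pieces.** A field extension whose normalizations over the pieces `B[1/αᵢ]` are étale, with
as many points over the zero section as its degree, is trivial. -/
theorem finrank_eq_one_of_pieces {A B : Type u} [CommRing A] [IsDomain A] [IsNoetherianRing A] [IsIntegrallyClosed A]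
    [IsLocalRing A] [CommRing B] [HenselianLocalRing B] [IsNoetherianRing B] (ι : B →+* PowerSeries A)
    [IsLocalHom ι] (hι : ι.Flat) (j : A →+* B) (hj : ∀ x, ι (j x) = PowerSeries.C x) {r : ℕ} (α : Fin r → A)
    (hA : ExtendsFrac A α) (i₀ : Fin r) (hα : ∀ i, α i ≠ 0)
    (F M : Type u) [Field F] [Algebra B F] [IsFractionRing B F] [Field M] [Algebra F M] [FiniteDimensional F M]
    [Algebra.IsSeparable F M] [Algebra B M] [IsScalarTower B F M]
    (E : Fin r → Type u) [∀ i, CommRing (E i)] (g : ∀ i, B →+* E i) (e : ∀ i, E i →+* M)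
    (he : ∀ i, Function.Injective (e i)) (hge : ∀ i b, e i (g i b) = algebraMap B M b)
    (hu : ∀ i, IsUnit (g i (j (α i))))
    (hint : ∀ i x, ∃ m : ℕ, IsIntegral B (algebraMap B M (j (α i)) ^ m * e i x))
    (hclosed : ∀ i (z : M), IsIntegral B z → ∃ x, e i x = z) (het : ∀ i, (g i).Etale)
    (K : Type u) [Field K] [Algebra A K] [IsFractionRing A K]
    (χ : Fin (Module.finrank F M) → (E i₀ →+* K)) (hχ : Function.Injective χ)
    (hχB : ∀ k b, χ k (g i₀ b) = algebraMap A K (PowerSeries.constantCoeff (ι b))) :
    Module.finrank F M = 1 := by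
  let C := integralClosure B M
  haveI : IsIntegralClosure C B M := integralClosure.isIntegralClosure B M
  choose κ hκ using fun i (c : C) => hclosed i (c : M) c.2
  let κh : ∀ i, C →+* E i := fun i =>
    { toFun := κ i
      map_one' := he i (by rw [hκ, map_one]; rfl)
      map_mul' := fun p q => he i (by rw [hκ, map_mul, hκ, hκ]; rfl)
      map_zero' := he i (by rw [hκ, map_zero]; rfl)
      map_add' := fun p q => he i (by rw [hκ, map_add, hκ, hκ]; rfl) }
  have hκg : ∀ i b, κ i (algebraMap B C b) = g i b := fun i b => he i (by rw [hκ, hge]; rfl)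
  let a : Fin r → B := fun i => j (α i)
  have hfrac : ∀ i (x : E i), ∃ (m : ℕ) (c : C), κ i c = g i (a i) ^ m * x := fun i x => by
    obtain ⟨m, hm⟩ := hint i x
    exact ⟨m, ⟨_, hm⟩, he i (by rw [hκ, map_mul, map_pow, hge])⟩
  have hloc : ∀ i, Algebra.FormallyEtale B (Localization.Away (algebraMap B C (a i))) := fun i => by
    letI : Algebra B (E i) := (g i).toAlgebra
    haveI : Algebra.Etale B (E i) := RingHom.etale_algebraMap.1 (het i)
    letI : Algebra C (E i) := (κh i).toAlgebra
    haveI : IsScalarTower B C (E i) := IsScalarTower.of_algebraMap_eq fun b => (hκg i b).symm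
    have hua : IsUnit (algebraMap C (E i) (algebraMap B C (a i))) := by
      show IsUnit (κ i _)
      rw [hκg]; exact hu i
    haveI : IsLocalization.Away (algebraMap B C (a i)) (E i) := by
      refine ⟨⟨?_, fun z => ?_, fun {p q} h => ⟨1, ?_⟩⟩⟩
      · rintro ⟨_, n, rfl⟩
        simp only [map_pow]
        exact hua.pow n
      · obtain ⟨m, c, hc⟩ := hfrac i z
        refine ⟨⟨c, ⟨_, m, rfl⟩⟩, ?_⟩
        show z * κh i (algebraMap B C (a i) ^ m) = κ i c
        rw [hc, map_pow, show κh i (algebraMap B C (a i)) = g i (a i) from hκg i _, mul_comm]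
      · have h2 : e i (κ i p) = e i (κ i q) := congrArg (e i) h
        rw [hκ, hκ] at h2
        rw [Subtype.ext h2]
    exact Algebra.FormallyEtale.of_equiv ((IsLocalization.algEquiv (Submonoid.powers (algebraMap B C (a i))) (E i)
      (Localization.Away (algebraMap B C (a i)))).restrictScalars B)
  have hval : ∀ k (c : C), ∃ x : A, algebraMap A K x = χ k (κ i₀ c) := fun k c => by
    refine IsIntegrallyClosed.isIntegral_iff.1 ?_
    obtain ⟨p, hp, hpc⟩ := c.2
    refine ⟨p.map ((PowerSeries.constantCoeff (R := A)).comp ι), hp.map _, ?_⟩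
    have h1 : p.eval₂ (g i₀) (κ i₀ c) = 0 := he i₀ (by
      rw [Polynomial.hom_eval₂, map_zero, hκ, show (e i₀).comp (g i₀) = algebraMap B M from RingHom.ext (hge i₀)]
      exact hpc)
    rw [Polynomial.eval₂_map, show (algebraMap A K).comp ((PowerSeries.constantCoeff (R := A)).comp ι) =
      (χ k).comp (g i₀) from RingHom.ext fun b => (hχB k b).symm, ← Polynomial.hom_eval₂, h1, map_zero]
  choose v hv using hval
  have hinjK := IsFractionRing.injective A K
  let ψ : Fin (Module.finrank F M) → (C →+* A) := fun k =>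
    { toFun := v k
      map_one' := hinjK (by rw [hv, map_one, show κ i₀ 1 = 1 from map_one (κh i₀), map_one])
      map_mul' := fun p q => hinjK (by rw [hv, map_mul, hv, hv, show κ i₀ (p * q) = κ i₀ p * κ i₀ q from map_mul (κh i₀) p q, map_mul])
      map_zero' := hinjK (by rw [hv, map_zero, show κ i₀ 0 = 0 from map_zero (κh i₀), map_zero])
      map_add' := fun p q => hinjK (by rw [hv, map_add, hv, hv, show κ i₀ (p + q) = κ i₀ p + κ i₀ q from map_add (κh i₀) p q, map_add]) }
  refine finrank_eq_one ι hι j hj α hA i₀ hα F M C hloc ψ (fun k l hkl => hχ (RingHom.ext fun x => ?_))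
    fun k b => hinjK (by rw [show ψ k (algebraMap B C b) = v k (algebraMap B C b) from rfl, hv, hκg, hχB])
  obtain ⟨m, c, hc⟩ := hfrac i₀ x
  have h1 : χ k (κ i₀ c) = χ l (κ i₀ c) := by
    rw [← hv, ← hv]
    exact congrArg (algebraMap A K) (RingHom.congr_fun hkl c)
  rw [hc, map_mul, map_mul, map_pow, map_pow, hχB, hχB] at h1
  refine mul_left_cancel₀ (pow_ne_zero _ ((map_ne_zero_iff _ hinjK).2 ?_)) h1
  rw [show a i₀ = j (α i₀) from rfl, hj, PowerSeries.constantCoeff_C]
  exact hα i₀

end Groth.Agent.HenLineLib
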