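import Groth.Prelude.Def_SGA1t
import Groth.Agent.GeomIrred.ClopenDescend
import Groth.Agent.UnivHomeo.Basic
import Mathlib.AlgebraicGeometry.Limits
import Mathlib.AlgebraicGeometry.Morphisms.FlatMono
import Mathlib.AlgebraicGeometry.Morphisms.FlatDescent

/-!
# Principal covers with a section are trivial; sections descend along radicial covers
-/

set_option autoImplicit false
set_option linter.style.haveILetI false
set_option backward.isDefEq.respectTransparency false
set_option maxHeartbeats 1000000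

universe u

open CategoryTheory CategoryTheory.Limits AlgebraicGeometry

noncomputable section

namespace Groth.Agent.HenLineLib

/-- A section of a finite étale morphism is a clopen immersion. -/
theorem clopen_section {X P : Scheme.{u}} (h : P ⟶ X) [IsFinite h] [AlgebraicGeometry.Etale h]
    (s : X ⟶ P) (hs : s ≫ h = 𝟙 X) : IsOpenImmersion s ∧ IsClosed (Set.range s) := by
  haveI : AlgebraicGeometry.Etale (s ≫ h) := by rw [hs]; infer_instance
  haveI : AlgebraicGeometry.Etale s := AlgebraicGeometry.Etale.of_comp s h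
  haveI : IsClosedImmersion (s ≫ h) := by rw [hs]; infer_instance
  haveI : IsClosedImmersion s := IsClosedImmersion.of_comp s h
  exact ⟨IsOpenImmersion.of_flat_of_mono s, s.isClosedEmbedding.isClosed_range⟩

open scoped Function in
/-- **A principal cover with a section is trivial.** -/
theorem trivial_of_section {X : Scheme.{u}} (G : Type u) [Group G] [Finite G] (P : FEt.Cat X) (ρ : G →* Aut P)
    (hP : ∀ (Ω : Type u) [Field Ω] [IsAlgClosed Ω] (ξ : Spec (CommRingCat.of Ω) ⟶ X) (s t : FEt.fiberObj ξ P),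
      ∃! g : G, (FEt.fiber ξ).map (ρ g).hom s = t)
    (s : X ⟶ P.left) (hs : s ≫ P.hom = 𝟙 X) :
    ∃ (n : ℕ) (e : P.left ≅ ∐ fun _ : Fin n => X), e.hom ≫ Sigma.desc (fun _ => 𝟙 X) = P.hom := by
  haveI : IsFinite P.hom := P.prop.1
  haveI : AlgebraicGeometry.Etale P.hom := P.prop.2
  let ε : Fin (Nat.card G) ≃ G := (Finite.equivFin G).symm
  let t : Fin (Nat.card G) → (X ⟶ P.left) := fun i => s ≫ (ρ (ε i)).hom.left
  have ht : ∀ i, t i ≫ P.hom = 𝟙 X := fun i => by
    rw [Category.assoc, MorphismProperty.Over.w, hs]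
  haveI : ∀ i, IsOpenImmersion (t i) := fun i => (clopen_section P.hom (t i) (ht i)).1
  have hdisj : Pairwise (Disjoint on (Set.range <| t ·)) := fun i j hij => by
    show Disjoint (Set.range (t i)) (Set.range (t j))
    rw [Set.disjoint_iff_forall_ne]
    rintro _ ⟨x, rfl⟩ _ ⟨x', rfl⟩ he
    obtain rfl : x = x' := by
      have h0 : (t i ≫ P.hom) x = (t j ≫ P.hom) x' := congrArg P.hom he
      rw [ht, ht] at h0
      exact h0
    let V : X.Opens := t i ⁻¹ᵁ (t j).opensRange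
    have hxV : x ∈ V := ⟨x, he.symm⟩
    have hfac : Set.range (V.ι ≫ t i) ⊆ Set.range (t j) := by
      rintro _ ⟨v, rfl⟩
      exact v.2
    have hl := IsOpenImmersion.lift_fac (t j) (V.ι ≫ t i) hfac
    have hι : IsOpenImmersion.lift (t j) (V.ι ≫ t i) hfac = V.ι := by
      have := congrArg (· ≫ P.hom) hl
      simpa only [Category.assoc, ht, Category.comp_id] using this
    rw [hι] at hl
    let Ω := AlgebraicClosure ((V : Scheme.{u}).residueField ⟨x, hxV⟩)
    let ξ : Spec (CommRingCat.of Ω) ⟶ X :=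
      Spec.map (CommRingCat.ofHom (algebraMap ((V : Scheme.{u}).residueField ⟨x, hxV⟩) Ω)) ≫ (V : Scheme.{u}).fromSpecResidueField ⟨x, hxV⟩ ≫ V.ι
    have hξ : ξ ≫ t i = ξ ≫ t j := by simp only [ξ, Category.assoc, hl]
    let s₀ : FEt.fiberObj ξ P := ⟨ξ ≫ s, by rw [Category.assoc, hs, Category.comp_id]⟩
    let t₀ : FEt.fiberObj ξ P := ⟨ξ ≫ t i, by rw [Category.assoc, ht, Category.comp_id]⟩
    exact hij (ε.injective ((hP Ω ξ s₀ t₀).unique (Subtype.ext (Category.assoc _ _ _))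
      (Subtype.ext ((Category.assoc _ _ _).trans hξ.symm))))
  haveI : IsOpenImmersion (Sigma.desc t) := isOpenImmersion_sigmaDesc _ _ hdisj
  haveI : IsIso (Sigma.desc t) := isIso_of_isOpenImmersion_of_opensRange_eq_top _ (by
    rw [eq_top_iff]
    intro y _
    let Ω := AlgebraicClosure (P.left.residueField y)
    let η : Spec (CommRingCat.of Ω) ⟶ P.left :=
      Spec.map (CommRingCat.ofHom (algebraMap (P.left.residueField y) Ω)) ≫ P.left.fromSpecResidueField y
    obtain ⟨g, hg, -⟩ := hP Ω (η ≫ P.hom) ⟨(η ≫ P.hom) ≫ s,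
      (Category.assoc _ _ _).trans ((congrArg ((η ≫ P.hom) ≫ ·) hs).trans (Category.comp_id _))⟩ ⟨η, rfl⟩
    obtain ⟨i, rfl⟩ := ε.surjective g
    have h1 : ((η ≫ P.hom) ≫ t i) = η := (Category.assoc _ _ _).symm.trans (congrArg Subtype.val hg)
    refine ⟨Sigma.ι (fun _ => X) i ((η ≫ P.hom) default), ?_⟩
    have h2 : (Sigma.ι (fun _ => X) i ≫ Sigma.desc t) ((η ≫ P.hom) default) = y := by
      rw [Sigma.ι_desc]
      show ((η ≫ P.hom) ≫ t i) default = y
      rw [h1]
      simp only [η, Scheme.Hom.comp_apply]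
      exact Scheme.fromSpecResidueField_apply _ _
    exact h2)
  refine ⟨Nat.card G, (asIso (Sigma.desc t)).symm, ?_⟩
  rw [Iso.symm_hom, asIso_inv, IsIso.inv_comp_eq]
  refine Sigma.hom_ext _ _ fun i => ?_
  rw [Sigma.ι_desc, Sigma.ι_desc_assoc, ht]

/-- **Sections of finite étale morphisms descend along radicial covers.** -/
theorem exists_section_of_radicial {X' X P : Scheme.{u}} (p : X' ⟶ X) [Flat p] [Surjective p] [IsIntegralHom p]
    [UniversallyInjective p] (h : P ⟶ X) [IsFinite h] [AlgebraicGeometry.Etale h] (s' : X' ⟶ P) (hs : s' ≫ h = p) :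
    ∃ s : X ⟶ P, s ≫ h = 𝟙 X := by
  let q := pullback.fst h p
  let σ : X' ⟶ pullback h p := pullback.lift s' (𝟙 X') (by rw [hs, Category.id_comp])
  have hσ : σ ≫ pullback.snd h p = 𝟙 X' := pullback.lift_snd _ _ _
  haveI : IsFinite (pullback.snd h p) := inferInstance
  obtain ⟨hop, -⟩ := clopen_section (pullback.snd h p) σ hσ
  haveI := hop
  haveI : IsIntegralHom q := MorphismProperty.pullback_fst _ _ inferInstance
  haveI : UniversallyInjective q := MorphismProperty.pullback_fst _ _ inferInstance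
  haveI : Surjective q := MorphismProperty.pullback_fst _ _ inferInstance
  have hq : IsHomeomorph q := UnivHomeo.isHomeomorph (UnivHomeo.of_isIntegralHom q)
  let C : P.Opens := ⟨q '' Set.range σ, hq.isOpenMap _ σ.isOpenEmbedding.isOpen_range⟩
  have hpre : ∀ z, z ∈ q ⁻¹ᵁ C ↔ z ∈ Set.range σ := fun z => by
    refine ⟨fun ⟨w, hw, hwz⟩ => ?_, fun hz => ⟨z, hz, rfl⟩⟩
    rwa [← hq.injective hwz]
  have sq : IsPullback (q ∣_ C) ((q ⁻¹ᵁ C).ι ≫ pullback.snd h p) (C.ι ≫ h) p :=
    (isPullback_morphismRestrict q C).paste_vert (IsPullback.of_hasPullback h p)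
  let σ₀ : X' ⟶ (q ⁻¹ᵁ C : Scheme.{u}) := IsOpenImmersion.lift (q ⁻¹ᵁ C).ι σ (by
    rw [Scheme.Opens.range_ι]
    exact fun z hz => (hpre z).2 hz)
  have hσ₀ : σ₀ ≫ (q ⁻¹ᵁ C).ι = σ := IsOpenImmersion.lift_fac _ _ _
  haveI : IsOpenImmersion (σ₀ ≫ (q ⁻¹ᵁ C).ι) := by rw [hσ₀]; infer_instance
  haveI : IsOpenImmersion σ₀ := IsOpenImmersion.of_comp σ₀ (q ⁻¹ᵁ C).ι
  haveI : IsIso σ₀ := isIso_of_isOpenImmersion_of_opensRange_eq_top σ₀ (by
    rw [eq_top_iff]
    rintro ⟨z, hz⟩ -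
    obtain ⟨w, hw⟩ := (hpre z).1 hz
    refine ⟨w, (q ⁻¹ᵁ C).ι.isOpenEmbedding.injective ?_⟩
    rw [← Scheme.Hom.comp_apply, hσ₀, hw]
    rfl)
  have hiso : IsIso ((q ⁻¹ᵁ C).ι ≫ pullback.snd h p) := by
    have h1 : σ₀ ≫ (q ⁻¹ᵁ C).ι ≫ pullback.snd h p = 𝟙 X' := by rw [← Category.assoc, hσ₀, hσ]
    haveI : IsIso (σ₀ ≫ (q ⁻¹ᵁ C).ι ≫ pullback.snd h p) := by rw [h1]; infer_instance
    exact IsIso.of_isIso_comp_left σ₀ _
  haveI : IsIso (C.ι ≫ h) := MorphismProperty.of_isPullback_of_descendsAlong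
    (P := MorphismProperty.isomorphisms Scheme.{u}) (Q := @Surjective ⊓ @Flat ⊓ @QuasiCompact) sq.flip
    ⟨⟨inferInstance, inferInstance⟩, inferInstance⟩ hiso
  exact ⟨inv (C.ι ≫ h) ≫ C.ι, by simp⟩

end Groth.Agent.HenLineLib
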