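import Groth.Agent.HenLineLib.Lift
import Groth.Agent.HenLineLib.Line
import Groth.Agent.Hensel.Local
import Mathlib.RingTheory.DedekindDomain.IntegralClosure
import Mathlib.RingTheory.Localization.BaseChange
import Mathlib.RingTheory.Localization.Integer

/-!
# Rigidity of covers of the henselized line trivial on the zero section
-/

set_option autoImplicit false
set_option linter.style.haveILetI false

universe u

open IsLocalRing TensorProduct

noncomputable section

namespace Groth.Agent.HenLineLib

/-- A finite torsion free algebra embeds in a free module of the generic rank. -/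
theorem exists_emb {B C F M : Type u} [CommRing B] [IsDomain B] [CommRing C] [Algebra B C] [Module.Finite B C]
    [Field F] [Algebra B F] [IsFractionRing B F] [Field M] [Algebra F M] [FiniteDimensional F M] [Algebra B M]
    [IsScalarTower B F M] [Algebra C M] [IsScalarTower B C M] (hinj : Function.Injective (algebraMap C M)) :
    ∃ (emb : C →ₗ[B] Fin (Module.finrank F M) → B) (L : M →ₗ[F] Fin (Module.finrank F M) → F),
      Function.Injective emb ∧ Function.Injective L ∧ ∀ c k, L (algebraMap C M c) k = algebraMap B F (emb c k) := by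
  classical
  let bas := Module.finBasis F M
  obtain ⟨s, hs⟩ := (Module.Finite.fg_top : (⊤ : Submodule B C).FG)
  obtain ⟨⟨d, hd⟩, hdd⟩ := IsLocalization.exist_integer_multiples_of_finite (nonZeroDivisors B)
    (fun p : s × Fin (Module.finrank F M) => bas.repr (algebraMap C M p.1) p.2)
  let L : M →ₗ[F] Fin (Module.finrank F M) → F := algebraMap B F d • bas.equivFun.toLinearMap
  let G : C →ₗ[B] Fin (Module.finrank F M) → F :=
    L.restrictScalars B ∘ₗ (IsScalarTower.toAlgHom B C M).toLinearMap
  have hG : ∀ c k, ∃ y : B, algebraMap B F y = G c k := fun c k => by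
    have hc : c ∈ Submodule.span B (s : Set C) := hs ▸ Submodule.mem_top
    induction hc using Submodule.span_induction with
    | mem x hx =>
      obtain ⟨y, hy⟩ := hdd (⟨x, hx⟩, k)
      refine ⟨y, hy.trans ?_⟩
      simp [G, L, Algebra.smul_def]
    | zero => exact ⟨0, by simp⟩
    | add x y _ _ hx hy =>
      obtain ⟨p, hp⟩ := hx; obtain ⟨q, hq⟩ := hy
      exact ⟨p + q, by rw [map_add, hp, hq, map_add]; rfl⟩
    | smul r x _ hx =>
      obtain ⟨p, hp⟩ := hx
      exact ⟨r * p, by rw [map_mul, hp, map_smul, Pi.smul_apply, Algebra.smul_def]⟩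
  choose y hy using hG
  have hinjB := IsFractionRing.injective B F
  have hL : Function.Injective L := fun p q h => bas.equivFun.injective
    (smul_right_injective _ ((map_ne_zero_iff _ hinjB).2 (nonZeroDivisors.ne_zero hd)) h)
  refine ⟨{ toFun := y, map_add' := fun p q => funext fun k => hinjB (by simp [hy]),
            map_smul' := fun r p => funext fun k => hinjB (by
              simp only [RingHom.id_apply, Pi.smul_apply, smul_eq_mul, map_mul, hy, map_smul]; rw [Algebra.smul_def]) }, L, ?_, hL,
    fun c k => (hy c k).symm⟩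
  intro p q h
  exact hinj (hL (funext fun k => (hy p k).symm.trans ((congrArg (algebraMap B F) (congrFun h k)).trans (hy q k))))

/-- Separability elements away from `b`. -/
theorem exists_sepElem {B C : Type u} [CommRing B] [CommRing C] [Algebra B C] [Algebra.FiniteType B C] (b : B)
    [Algebra.FormallyUnramified B (Localization.Away (algebraMap B C b))] :
    ∃ (n : ℕ) (t : C ⊗[B] C), IsSepElem B (b ^ n) t := by
  classical
  let Ca := Localization.Away (algebraMap B C b)
  haveI : Algebra.EssFiniteType C Ca := Algebra.EssFiniteType.of_isLocalization Ca (Submonoid.powers (algebraMap B C b))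
  haveI : Algebra.EssFiniteType B Ca := Algebra.EssFiniteType.comp B C Ca
  obtain ⟨t, ht₁, ht₂⟩ := Algebra.FormallyUnramified.iff_exists_tensorProduct.1
    (inferInstance : Algebra.FormallyUnramified B Ca)
  let g : C →ₐ[B] Ca := IsScalarTower.toAlgHom B C Ca
  let h : C ⊗[B] C →ₐ[B] Ca ⊗[B] Ca := Algebra.TensorProduct.map g g
  haveI : IsLocalization (Algebra.algebraMapSubmonoid C (Submonoid.powers b)) Ca := by
    rw [show Algebra.algebraMapSubmonoid C (Submonoid.powers b) = Submonoid.powers (algebraMap B C b) from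
      Submonoid.map_powers _ _]
    infer_instance
  haveI hg : IsLocalizedModule (Submonoid.powers b) g.toLinearMap := isLocalizedModule_iff_isLocalization.2 inferInstance
  -- lifting
  have hsurj : ∀ z : Ca ⊗[B] Ca, ∃ (n : ℕ) (w : C ⊗[B] C), h w = b ^ n • z := fun z => by
    induction z using TensorProduct.induction_on with
    | zero => exact ⟨0, 0, by simp⟩
    | tmul x y =>
      obtain ⟨⟨p, ⟨_, m, rfl⟩⟩, hp⟩ := IsLocalizedModule.surj (Submonoid.powers b) g.toLinearMap x
      obtain ⟨⟨q, ⟨_, k, rfl⟩⟩, hq⟩ := IsLocalizedModule.surj (Submonoid.powers b) g.toLinearMap y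
      refine ⟨m + k, p ⊗ₜ q, ?_⟩
      simp only [Submonoid.smul_def, AlgHom.toLinearMap_apply] at hp hq
      rw [Algebra.TensorProduct.map_tmul, ← hp, ← hq, TensorProduct.smul_tmul_smul, pow_add]
    | add x y hx hy =>
      obtain ⟨m, p, hp⟩ := hx; obtain ⟨k, q, hq⟩ := hy
      refine ⟨m + k, b ^ k • p + b ^ m • q, ?_⟩
      rw [map_add, map_smul, map_smul, hp, hq, smul_add, smul_smul, smul_smul, ← pow_add, ← pow_add, add_comm m k]
  -- torsion
  have hker : ∀ z : C ⊗[B] C, h z = 0 → ∃ n : ℕ, b ^ n • z = 0 := fun z hz => by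
    have e : h.toLinearMap = (g.toLinearMap.rTensor Ca) ∘ₗ (g.toLinearMap.lTensor C) := by
      apply TensorProduct.ext'; intro x y; simp [h]
    haveI : IsLocalizedModule (Submonoid.powers b) (AlgebraTensorModule.rTensor B Ca g.toLinearMap) :=
      inferInstance
    have h1 : AlgebraTensorModule.rTensor B Ca g.toLinearMap (g.toLinearMap.lTensor C z) = 0 :=
      (LinearMap.congr_fun e z).symm.trans hz
    obtain ⟨⟨_, n, rfl⟩, hn⟩ := (IsLocalizedModule.eq_zero_iff (Submonoid.powers b) _).1 h1
    haveI : IsLocalizedModule (Submonoid.powers b) (AlgebraTensorModule.rTensor B C g.toLinearMap) :=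
      inferInstance
    have h2 : AlgebraTensorModule.rTensor B C g.toLinearMap (TensorProduct.comm B C C (b ^ n • z)) = 0 := by
      have : ∀ w, AlgebraTensorModule.rTensor B C g.toLinearMap (TensorProduct.comm B C C w) =
          TensorProduct.comm B C Ca (g.toLinearMap.lTensor C w) := fun w => by
        induction w using TensorProduct.induction_on with
        | zero => simp
        | tmul x y => simp
        | add x y hx hy => rw [map_add, map_add, map_add, map_add, hx, hy]
      rw [this, map_smul]
      rw [Submonoid.smul_def] at hn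
      rw [hn, map_zero]
    obtain ⟨⟨_, m, rfl⟩, hm⟩ := (IsLocalizedModule.eq_zero_iff (Submonoid.powers b) _).1 h2
    refine ⟨m + n, (TensorProduct.comm B C C).injective ?_⟩
    rw [Submonoid.smul_def, ← map_smul, smul_smul, ← pow_add] at hm
    rw [hm, map_zero]
  obtain ⟨n, t₀, ht₀⟩ := hsurj t
  obtain ⟨gens, hgens⟩ := (inferInstance : Algebra.FiniteType B C).1
  have h1 : ∀ c : C, h (((1 : C) ⊗ₜ[B] c - c ⊗ₜ[B] (1 : C)) * t₀) = 0 := fun c => by
    rw [map_mul, ht₀, map_sub, Algebra.TensorProduct.map_tmul, Algebra.TensorProduct.map_tmul, map_one,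
      mul_smul_comm, ht₁, smul_zero]
  choose m hm using fun c : C => hker _ (h1 c)
  obtain ⟨l, hl⟩ : ∃ l : ℕ, b ^ l • Algebra.TensorProduct.lmul' B t₀ = b ^ (l + n) • (1 : C) := by
    have e : g (Algebra.TensorProduct.lmul' B t₀) = g (b ^ n • 1) := by
      rw [map_smul, map_one, show g (Algebra.TensorProduct.lmul' B t₀) = Algebra.TensorProduct.lmul' B (h t₀) from
        AlgHom.congr_fun (show g.comp (Algebra.TensorProduct.lmul' B) = (Algebra.TensorProduct.lmul' B).comp h by
          ext <;> simp [h]) t₀, ht₀, map_smul, ht₂]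
    obtain ⟨⟨_, l, rfl⟩, hl⟩ := IsLocalizedModule.exists_of_eq (S := Submonoid.powers b) (f := g.toLinearMap) e
    refine ⟨l, ?_⟩
    have hl' : b ^ l • Algebra.TensorProduct.lmul' B t₀ = b ^ l • (b ^ n • (1 : C)) := hl
    rw [hl', smul_smul, ← pow_add]
  let M := gens.sup m + l
  refine ⟨M + n, b ^ M • t₀, ?_, fun c => ?_⟩
  · rw [map_smul, Algebra.algebraMap_eq_smul_one, show M = gens.sup m + l from rfl, pow_add, mul_smul, hl, smul_smul,
      ← pow_add, ← add_assoc]
  · have hall : ∀ c : C, ((1 : C) ⊗ₜ[B] c - c ⊗ₜ[B] (1 : C)) * (b ^ M • t₀) = 0 := by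
      intro c
      have hc : c ∈ Algebra.adjoin B (gens : Set C) := hgens ▸ Algebra.mem_top
      induction hc using Algebra.adjoin_induction with
      | mem x hx =>
        obtain ⟨k, hk⟩ := Nat.le.dest ((Finset.le_sup (f := m) hx).trans (Nat.le_add_right _ l))
        rw [mul_smul_comm, ← show m x + k = M from hk, add_comm, pow_add, mul_smul, hm, smul_zero]
      | algebraMap r => rw [← Algebra.TensorProduct.tmul_one_eq_one_tmul, sub_self, zero_mul]
      | add x y _ _ hx hy => rw [tmul_add, add_tmul, add_sub_add_comm, add_mul, hx, hy, add_zero]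
      | mul x y _ _ hx hy =>
        rw [show (1 : C) ⊗ₜ[B] (x * y) - (x * y) ⊗ₜ[B] (1 : C) =
            ((1 : C) ⊗ₜ[B] x) * ((1 : C) ⊗ₜ[B] y - y ⊗ₜ[B] (1 : C)) +
              (y ⊗ₜ[B] (1 : C)) * ((1 : C) ⊗ₜ[B] x - x ⊗ₜ[B] (1 : C)) by
          simp only [mul_sub, Algebra.TensorProduct.tmul_mul_tmul, one_mul, mul_one, mul_comm y x]; abel,
          add_mul, mul_assoc, hy, mul_zero, mul_assoc, hx, mul_zero, add_zero]
    exact hall c

/-- **Rigidity.** A cover of the henselized line which is etale away from a set of codimension two, and split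
on the zero section, is trivial. -/
theorem finrank_eq_one {A B : Type u} [CommRing A] [IsDomain A] [IsNoetherianRing A] [IsIntegrallyClosed A]
    [IsLocalRing A] [CommRing B] [HenselianLocalRing B] [IsNoetherianRing B] (ι : B →+* PowerSeries A)
    [IsLocalHom ι] (hι : ι.Flat) (j : A →+* B) (hj : ∀ x, ι (j x) = PowerSeries.C x) {r : ℕ} (α : Fin r → A)
    (hA : ExtendsFrac A α) (i₀ : Fin r) (hα : ∀ i, α i ≠ 0)
    (F M : Type u) [Field F] [Algebra B F] [IsFractionRing B F] [Field M] [Algebra F M] [FiniteDimensional F M]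
    [Algebra.IsSeparable F M] [Algebra B M] [IsScalarTower B F M]
    (C : Type u) [CommRing C] [Algebra B C] [Algebra C M] [IsScalarTower B C M] [IsIntegralClosure C B M]
    (het : ∀ i, Algebra.FormallyEtale B (Localization.Away (algebraMap B C (j (α i)))))
    (ψ : Fin (Module.finrank F M) → (C →+* A)) (hψ : Function.Injective ψ)
    (hψB : ∀ k b, ψ k (algebraMap B C b) = PowerSeries.constantCoeff (ι b)) :
    Module.finrank F M = 1 := by
  haveI := isDomain ι hι
  haveI := isIntegrallyClosed ι hι
  haveI : Module.Finite B C := IsIntegralClosure.finite B F M C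
  have hinjC : Function.Injective (algebraMap C M) := IsIntegralClosure.algebraMap_injective C B M
  haveI : IsDomain C := hinjC.isDomain _
  obtain ⟨emb, L, hemb, hL, hLe⟩ := exists_emb (B := B) (F := F) hinjC
  let a : Fin r → B := fun i => j (α i)
  have ha0 : ∀ i, a i ≠ 0 := fun i h => hα i (by
    have := congrArg (PowerSeries.constantCoeff (R := A)) (congrArg ι h)
    rwa [hj, PowerSeries.constantCoeff_C, map_zero, map_zero] at this)
  have hext : Extends a C := by
    intro n x hx
    have hne : algebraMap B M (a i₀) ^ n ≠ 0 := pow_ne_zero _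
      (by rw [IsScalarTower.algebraMap_apply B F M, map_ne_zero_iff _ (algebraMap F M).injective,
        map_ne_zero_iff _ (IsFractionRing.injective B F)]; exact ha0 i₀)
    let c : M := algebraMap C M (x i₀) / algebraMap B M (a i₀) ^ n
    have hc : ∀ i, algebraMap B M (a i) ^ n * c = algebraMap C M (x i) := fun i => by
      have := congrArg (algebraMap C M) (hx i₀ i)
      rw [Algebra.smul_def, Algebra.smul_def, map_mul, map_mul, ← IsScalarTower.algebraMap_apply B C M,
        ← IsScalarTower.algebraMap_apply B C M, map_pow, map_pow] at this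
      rw [mul_div_assoc', div_eq_iff hne, this, mul_comm]
    have hd : ∀ k : ℕ, ∃ d : Fin (Module.finrank F M) → B, ∀ l, algebraMap B F (d l) = L (c ^ k) l := fun k => by
      have hcomp : ∀ i l, algebraMap B F (j (α i) ^ (n * k)) * L (c ^ k) l = algebraMap B F (emb (x i ^ k) l) :=
        fun i l => by
        rw [← hLe, map_pow (algebraMap C M), ← hc, mul_pow, ← pow_mul, ← map_pow (algebraMap B M),
          IsScalarTower.algebraMap_apply B F M, ← Algebra.smul_def (R := F) (A := M), map_smul, Pi.smul_apply, smul_eq_mul]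
      have he : ∀ l, ∃ d : B, ∀ i, j (α i) ^ (n * k) * d = emb (x i ^ k) l := fun l =>
        extends_line ι hι j hj hA i₀ hα (n * k) _ fun p q => IsFractionRing.injective B F (by
          rw [map_mul, map_mul, ← hcomp, ← hcomp]; ring)
      choose d hd using he
      refine ⟨d, fun l => mul_left_cancel₀ ((map_ne_zero_iff _ (IsFractionRing.injective B F)).2
        (pow_ne_zero (n * k) (ha0 i₀))) ?_⟩
      rw [← map_mul, hd, hcomp]
    choose d hd using hd
    have hint : IsIntegral B c := by
      refine IsIntegral.of_mem_of_fg (Algebra.adjoin B {c}) ?_ c (Algebra.self_mem_adjoin_singleton B c)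
      let Λ : Submodule B (Fin (Module.finrank F M) → F) :=
        Submodule.map (LinearMap.pi fun l => Algebra.linearMap B F ∘ₗ LinearMap.proj l) ⊤
      have hΛ : Λ.FG := Submodule.FG.map _ Module.Finite.fg_top
      have hle : (Algebra.adjoin B {c}).toSubmodule.map (L.restrictScalars B) ≤ Λ := by
        rw [Algebra.adjoin_eq_span, Submodule.map_span_le]
        intro z hz
        obtain ⟨k, rfl⟩ := Submonoid.mem_closure_singleton.1 hz
        exact ⟨d k, trivial, funext fun l => hd k l⟩
      haveI : IsNoetherian B Λ := isNoetherian_of_fg_of_noetherian Λ hΛ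
      have h1 := (IsNoetherian.noetherian (Submodule.comap Λ.subtype
        ((Algebra.adjoin B {c}).toSubmodule.map (L.restrictScalars B)))).map Λ.subtype
      rw [Submodule.map_comap_subtype, inf_eq_right.2 hle] at h1
      exact Submodule.fg_of_fg_map_injective (L.restrictScalars B) hL h1
    obtain ⟨c', hc'⟩ := (IsIntegralClosure.isIntegral_iff (A := C) (R := B) (B := M)).1 hint
    refine ⟨c', fun i => hinjC ?_⟩
    rw [Algebra.smul_def, map_mul, ← IsScalarTower.algebraMap_apply B C M, map_pow, hc', hc]
  letI : Algebra B (PowerSeries A) := ι.toAlgebra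
  haveI : Module.Flat B (PowerSeries A) := hι
  have hsep : ∀ i, ∃ (n : ℕ) (t : C ⊗[B] C), IsSepElem B (a i ^ n) t := fun i => by
    haveI := het i
    exact exists_sepElem (a i)
  obtain ⟨m, t, ht⟩ := hsep i₀
  choose φ hφ using fun k => exists_lift_powerSeries a α (fun i => by
      show PowerSeries.constantCoeff (ι (j (α i))) = _
      rw [hj, PowerSeries.constantCoeff_C]) hα (FractionRing A) hA
    (fun i => by haveI := het i; infer_instance) ht (ψ k) (hψB k)
  have hφi : Function.Injective φ := fun p q h => hψ (RingHom.ext fun c => by rw [← hφ, ← hφ, h])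
  have hb : algebraMap B (PowerSeries A) (a i₀) ≠ 0 := fun h => ha0 i₀ (injective ι hι (by rwa [map_zero]))
  haveI : IsLocalRing C := by
    obtain ⟨J, _, Cj, _, hloc, ⟨e⟩⟩ := Hensel.exists_pi_local_of_henselian B C
    haveI : IsDomain (∀ k, Cj k) := e.toMulEquiv.symm.isDomain
    haveI := hloc
    classical
    haveI : Nonempty J := by
      by_contra hJ
      rw [not_nonempty_iff] at hJ
      exact one_ne_zero (α := ∀ k, Cj k) (Subsingleton.elim _ _)
    haveI : Subsingleton J := ⟨fun p q => by
      by_contra hpq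
      have h0 : (Pi.single p (1 : Cj p) : ∀ k, Cj k) * Pi.single q (1 : Cj q) = 0 := funext fun k => by
        rcases eq_or_ne k p with rfl | hk
        · simp [hpq]
        · simp [hk]
      rcases mul_eq_zero.1 h0 with h | h
      · exact one_ne_zero (α := Cj p) (by simpa using congrFun h p)
      · exact one_ne_zero (α := Cj q) (by simpa using congrFun h q)⟩
    let p := Classical.arbitrary J
    haveI : Unique J := uniqueOfSubsingleton p
    exact ((RingEquiv.piUnique Cj).symm.trans e.symm).isLocalRing
  refine le_antisymm ?_ Module.finrank_pos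
  by_contra hN
  rw [not_le] at hN
  obtain ⟨c, hc⟩ := exists_notMem_maximalIdeal a emb hemb φ hφi hext i₀ hb hsep
    (show (⟨0, by omega⟩ : Fin (Module.finrank F M)) ≠ ⟨1, hN⟩ by simp)
  refine hc ?_
  rw [mem_maximalIdeal, mem_nonunits_iff, PowerSeries.isUnit_iff_constantCoeff, map_sub, hφ, hφ,
    ← residue_ne_zero_iff_isUnit, not_not, map_sub, sub_eq_zero]
  let χ : Fin (Module.finrank F M) → (C →+* ResidueField A) := fun k => (residue A).comp (ψ k)
  have hsurj : ∀ k, Function.Surjective (χ k) := fun k y => by
    obtain ⟨y, rfl⟩ := residue_surjective y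
    exact ⟨algebraMap B C (j y), by simp [χ, hψB, hj]⟩
  have hker : ∀ k, RingHom.ker (χ k) = maximalIdeal C := fun k =>
    eq_maximalIdeal (RingHom.ker_isMaximal_of_surjective _ (hsurj k))
  obtain ⟨y, hy⟩ := residue_surjective (χ ⟨0, by omega⟩ c)
  have hmem : ∀ k, χ k (algebraMap B C (j y)) = residue A y := fun k => by simp [χ, hψB, hj]
  have h0 : c - algebraMap B C (j y) ∈ maximalIdeal C := by
    rw [← hker ⟨0, by omega⟩, RingHom.mem_ker, map_sub, hmem, ← hy, sub_self]
  rw [← hker ⟨1, hN⟩, RingHom.mem_ker, map_sub, hmem, hy, sub_eq_zero] at h0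
  exact h0.symm

end Groth.Agent.HenLineLib
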