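import Groth.Agent.EtH1Lib.Torsor

/-!
# Torsors under finite constant groups

A class in `H¹` of a finite constant sheaf gives a finite étale surjective scheme with an action of the group which
is transitive on the geometric points of each fibre; the class vanishes when this has a section.
-/

set_option autoImplicit false
set_option backward.isDefEq.respectTransparency false
set_option backward.isDefEq.respectTransparency.types false
set_option linter.style.haveILetI false
set_option maxHeartbeats 1000000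

universe u

open CategoryTheory CategoryTheory.Limits AlgebraicGeometry Opposite GrothendieckTopology Abelian

noncomputable section

namespace Groth.Agent.HenLineLib

open EtPtsLib FLCLib EtRepLib EtH1Lib

variable {Z : Scheme.{u}}

section SES

variable {S : ShortComplex (EtCoh.Ab Z)} (hS : S.ShortExact)

include hS in
/-- The lifts of a section are represented by a finite étale scheme. -/
theorem exists_lifts_representing (hF : EtCoh.IsFiniteLocallyConstant S.X₁) (q : EtCoh.sect S.X₃ (EtCoh.top Z)) :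
    ∃ (T : Z.Etale) (_ : IsFinite T.hom) (_ : Surjective T.hom) (t : (lifts q).obj (op T)),
      ∀ W : Z.Etale, Function.Bijective fun h : W ⟶ T => (lifts q).map h.op t := by
  haveI := hS.epi_g
  haveI : Sheaf.IsLocallySurjective S.g :=
    (Sheaf.isLocallySurjective_iff_epi' AddCommGrpCat.{u + 1} S.g).2 inferInstance
  choose V₀ g₀ v₀ hg₀ hv₀ using fun z : Z =>
    exists_mem_of_covering (Presheaf.imageSieve_mem Z.smallEtaleTopology S.g.hom (U := op (EtCoh.top Z)) q) z
  choose V₁ M θ hV₁ hM hθ using (finiteLocallyConstant_iff S.X₁).1 hF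
  haveI : ∀ z, Finite (M z) := hM
  -- a common refinement
  have href : ∀ z : Z, ∃ (U : Z.Etale) (a : U ⟶ V₀ z) (b : U ⟶ V₁ z), z ∈ Set.range U.hom := fun z => by
    obtain ⟨y, hy⟩ := hV₁ z
    have hx : (V₀ z).hom (v₀ z) = (V₁ z).hom y := by
      rw [hy, show (V₀ z).hom = (g₀ z).left from (Over.w (g₀ z).hom).symm.trans (Category.comp_id _)]
      exact hv₀ z
    obtain ⟨w, hw, -⟩ := Scheme.Pullback.exists_preimage_pullback (f := (V₀ z).hom) (g := (V₁ z).hom) _ _ hx
    haveI := (V₀ z).prop
    haveI := (V₁ z).prop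
    refine ⟨Scheme.Etale.mk (pullback.fst (V₀ z).hom (V₁ z).hom ≫ (V₀ z).hom),
      MorphismProperty.Over.homMk (pullback.fst _ _) rfl,
      MorphismProperty.Over.homMk (pullback.snd _ _) pullback.condition.symm, w, ?_⟩
    show (V₀ z).hom (pullback.fst (V₀ z).hom (V₁ z).hom w) = z
    rw [hw, show (V₀ z).hom = (g₀ z).left from (Over.w (g₀ z).hom).symm.trans (Category.comp_id _)]
    exact hv₀ z
  choose U a b hU using href
  choose i₀ hi₀ using hg₀
  have hi : ∀ z, S.g.hom.app (op (U z)) (S.X₂.obj.map (a z).op (i₀ z)) =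
      S.X₃.obj.map ((EtCore.topIsTerminal Z).from (U z)).op q := fun z => by
    rw [app_map, hi₀, ← CategoryTheory.comp_apply, ← Functor.map_comp, ← op_comp,
      (EtCore.topIsTerminal Z).hom_ext (a z ≫ g₀ z) ((EtCore.topIsTerminal Z).from (U z))]
  have hg0 : ∀ (W : Z.Etale) (m : EtCoh.sect S.X₁ W), S.g.hom.app (op W) (S.f.hom.app (op W) m) = 0 := fun W m => by
    exact congrArg (fun q : S.X₁ ⟶ S.X₃ => q.hom.app (op W) m) S.zero
  let D : ConstData (lifts q) :=
    { ι := Z, U := U, cov := fun z => ⟨z, hU z⟩, n := fun z => Nat.card (M z)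
      θ := fun z m => ⟨S.X₂.obj.map (a z).op (i₀ z) +
          S.f.hom.app (op (U z)) ((θ z ≫ S.X₁.obj.map (b z).op) ((Finite.equivFin (M z)).symm m)), by
        show S.g.hom.app (op (U z)) _ = _
        rw [map_add, hi, hg0, add_zero]⟩
      gen := fun z W g σ v => by
        obtain ⟨d, hd⟩ := exists_preimage hS W (σ.1 - S.X₂.obj.map g.op (S.X₂.obj.map (a z).op (i₀ z))) (by
          rw [map_sub, app_map, hi, σ.2, ← CategoryTheory.comp_apply, ← Functor.map_comp, ← op_comp,
            (EtCore.topIsTerminal Z).hom_ext (g ≫ (EtCore.topIsTerminal Z).from (U z))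
              ((EtCore.topIsTerminal Z).from W), sub_self])
        obtain ⟨l, hl⟩ := exists_lift_geomPt v
        obtain ⟨m, hm⟩ := (((hθ z).map (b z)).map g _ _ l).2 (germ _ S.X₁ l d)
        obtain ⟨T, e, t, ht, he⟩ := ((Scheme.pointSmallEtale _).toPresheafFiber_eq_iff' W l _ _).1 hm
        refine ⟨T, e, liftHom _ t default, Finite.equivFin (M z) m, ?_, ?_⟩
        · refine Eq.trans ?_ hl
          refine Eq.trans ?_ (congrArg (fun q => liftHom _ q default) ht)
          rw [liftHom_map]
          rfl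
        · refine Subtype.ext ?_
          show S.X₂.obj.map e.op σ.1 = S.X₂.obj.map (e ≫ g).op _
          rw [Equiv.symm_apply_apply, op_comp, Functor.map_comp, CategoryTheory.comp_apply,
            show σ.1 = S.X₂.obj.map g.op (S.X₂.obj.map (a z).op (i₀ z)) + S.f.hom.app (op W) d by
              rw [hd]; abel, EtH1Lib.map_add', EtH1Lib.map_add' _ g, EtH1Lib.map_add' _ e, ← app_map, ← app_map]
          exact congrArg₂ (· + ·) rfl ((congrArg (fun w => S.f.hom.app (op T) w) he.symm).trans (app_map S.f e _))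
      sep := fun z W g v m m' hm => by
        have h1 : S.X₂.obj.map g.op (_ + _) = S.X₂.obj.map g.op (_ + _) := congrArg Subtype.val hm
        rw [EtH1Lib.map_add', EtH1Lib.map_add', add_left_cancel_iff, ← app_map, ← app_map] at h1
        obtain ⟨l, -⟩ := exists_lift_geomPt v
        exact (Finite.equivFin (M z)).symm.injective
          ((((hθ z).map (b z)).map g _ _ l).1 (congrArg (germ _ S.X₁ l) (app_injective hS W h1))) }
  obtain ⟨T, hT, t, ht⟩ := D.exists_representing (isSheaf_lifts q)
  haveI : Surjective T.hom := ⟨fun z => by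
    obtain ⟨w, hw⟩ := hU z
    obtain ⟨h, -⟩ := (ht (U z)).2 ⟨_, hi z⟩
    refine ⟨h.left w, ?_⟩
    exact ((Scheme.Hom.comp_apply h.left T.hom w).symm.trans
      (congrArg (fun f : (U z).left ⟶ Z => f w) (MorphismProperty.Over.w h))).trans hw⟩
  exact ⟨T, hT, inferInstance, t, ht⟩

end SES

/-- A scheme with an action of a group which is transitive on the geometric points of the fibres. -/
structure IsPseudoTorsor {W : Scheme.{u}} (p : W ⟶ Z) (A : Type) [AddCommGroup A] (τ : A → (W ⟶ W)) : Prop where
  comp_proj : ∀ c, τ c ≫ p = p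
  add : ∀ c c', τ (c + c') = τ c ≫ τ c'
  transitive : ∀ {Ω : Type u} [Field Ω] [IsSepClosed Ω] (x y : Spec (CommRingCat.of Ω) ⟶ W), x ≫ p = y ≫ p →
    ∃ c, x ≫ τ c = y

/-- `H¹` of a finite constant sheaf vanishes when torsors have sections. -/
theorem subsingleton_H1_of_torsor (A : Type) [AddCommGroup A] [Finite A]
    (hsec : ∀ {W : Scheme.{u}} (p : W ⟶ Z) [AlgebraicGeometry.Etale p] [IsFinite p] [Surjective p] (τ : A → (W ⟶ W)),
      IsPseudoTorsor p A τ → ∃ s : Z ⟶ W, s ≫ p = 𝟙 Z) :
    Subsingleton (EtCoh.H Z (EtCoh.const Z A) 1) := by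
  let F := EtCoh.const Z A
  have hF : EtCoh.IsFiniteLocallyConstant F := isFiniteLocallyConstant_const A
  let S := ShortComplex.mk (Injective.ι F) (cokernel.π (Injective.ι F)) (cokernel.condition _)
  have hS : S.ShortExact := { exact := ShortComplex.exact_of_g_is_cokernel S (cokernelIsCokernel _) }
  haveI : Injective S.X₂ := Injective.injective_under F
  refine subsingleton_of_forall_eq 0 fun x => ?_
  obtain ⟨y, rfl⟩ := Ext.covariant_sequence_exact₁ _ hS x (Ext.eq_zero_of_injective _) (zero_add 1)
  let q := Sheaf.H.equiv₀ S.X₃ (EtCore.topIsTerminal Z) y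
  obtain ⟨T, _, _, t, ht⟩ := exists_lifts_representing hS hF q
  haveI : AlgebraicGeometry.Etale T.hom := T.prop
  let Mc : AddCommGrpCat.{u + 1} := AddCommGrpCat.of (ULift.{u + 1} A)
  have hg0 : ∀ (W : Z.Etale) (m : EtCoh.sect S.X₁ W), S.g.hom.app (op W) (S.f.hom.app (op W) m) = 0 := fun W m => by
    exact congrArg (fun q : S.X₁ ⟶ S.X₃ => q.hom.app (op W) m) S.zero
  let K : ∀ (W : Z.Etale), A → EtCoh.sect S.X₂ W := fun W c => S.f.hom.app (op W) (cst Mc W (ULift.up c))
  have hK : ∀ {W V : Z.Etale} (g : V ⟶ W) (c : A), S.X₂.obj.map g.op (K W c) = K V c := fun g c => by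
    show S.X₂.obj.map g.op _ = _
    rw [← app_map]
    exact congrArg _ (ConcreteCategory.congr_hom (cst_map Mc g) (ULift.up c))
  have hKadd : ∀ W (c c' : A), K W (c + c') = K W c + K W c' := fun W c c' => by
    show S.f.hom.app (op W) (cst Mc W (ULift.up c + ULift.up c')) = _
    rw [map_add, map_add]
  have hτ : ∀ c : A, ∃ a : T ⟶ T, S.X₂.obj.map a.op t.1 = t.1 + K T c := fun c => by
    obtain ⟨a, ha⟩ := (ht T).2 ⟨t.1 + K T c, by
      rw [map_add, hg0, add_zero]; exact t.2⟩
    exact ⟨a, congrArg Subtype.val ha⟩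
  choose τ hτ using hτ
  have huniq : ∀ {W : Z.Etale} (a b : W ⟶ T), S.X₂.obj.map a.op t.1 = S.X₂.obj.map b.op t.1 → a = b :=
    fun {W} a b h => (ht W).1 (Subtype.ext h)
  have hadd : ∀ c c', τ (c + c') = τ c ≫ τ c' := fun c c' => huniq _ _ (by
    rw [op_comp, Functor.map_comp, CategoryTheory.comp_apply, hτ, hτ, EtH1Lib.map_add', hτ, hK, hKadd, add_assoc])
  have htor : IsPseudoTorsor T.hom A fun c => (τ c).left :=
    { comp_proj := fun c => MorphismProperty.Over.w (τ c)
      add := fun c c' => congrArg (fun a : T ⟶ T => a.left) (hadd c c')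
      transitive := fun {Ω} _ _ x y hxy => by
        let V : Z.Etale := Scheme.Etale.mk (pullback.fst T.hom T.hom ≫ T.hom)
        let p₁ : V ⟶ T := MorphismProperty.Over.homMk (pullback.fst T.hom T.hom) rfl
        let p₂ : V ⟶ T := MorphismProperty.Over.homMk (pullback.snd T.hom T.hom) pullback.condition.symm
        let ξ := x ≫ T.hom
        let l : (Scheme.pointSmallEtale ξ).fiber.obj V := Over.homMk (pullback.lift x y hxy) (by
          show pullback.lift x y hxy ≫ pullback.fst T.hom T.hom ≫ T.hom = ξ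
          rw [pullback.lift_fst_assoc])
        obtain ⟨d, hd⟩ := exists_preimage hS V (S.X₂.obj.map p₂.op t.1 - S.X₂.obj.map p₁.op t.1) (by
          rw [map_sub, app_map, app_map, t.2, ← CategoryTheory.comp_apply, ← Functor.map_comp, ← op_comp,
            ← CategoryTheory.comp_apply, ← Functor.map_comp, ← op_comp,
            (EtCore.topIsTerminal Z).hom_ext (p₂ ≫ (EtCore.topIsTerminal Z).from T)
              (p₁ ≫ (EtCore.topIsTerminal Z).from T), sub_self])
        obtain ⟨c, hc⟩ := (germ_cst_bijective ξ Mc l).2 (germ ξ _ l d)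
        obtain ⟨W, e, z, hz, he⟩ := ((Scheme.pointSmallEtale ξ).toPresheafFiber_eq_iff' V l _ _).1 hc
        have key : e ≫ p₂ = (e ≫ p₁) ≫ τ c.down := huniq _ _ (by
          rw [op_comp, Functor.map_comp, CategoryTheory.comp_apply,
            show S.X₂.obj.map p₂.op t.1 = S.X₂.obj.map p₁.op t.1 + S.f.hom.app (op V) d by rw [hd]; abel,
            EtH1Lib.map_add', ← app_map, op_comp, Functor.map_comp, CategoryTheory.comp_apply, hτ, op_comp,
            Functor.map_comp, CategoryTheory.comp_apply, EtH1Lib.map_add', EtH1Lib.map_add', hK, hK]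
          refine congrArg₂ (· + ·) rfl (congrArg (S.f.hom.app (op W)) ?_)
          exact he.symm.trans (ConcreteCategory.congr_hom (cst_map Mc e) c))
        refine ⟨c.down, ?_⟩
        have hl : liftHom ξ z ≫ e.left = pullback.lift x y hxy := by
          rw [← liftHom_map, hz]
          rfl
        have h1 : liftHom ξ z ≫ (e ≫ p₂).left = liftHom ξ z ≫ ((e ≫ p₁) ≫ τ c.down).left := by rw [key]
        change liftHom ξ z ≫ e.left ≫ pullback.snd T.hom T.hom =
          liftHom ξ z ≫ (e.left ≫ pullback.fst T.hom T.hom) ≫ (τ c.down).left at h1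
        rw [← Category.assoc, hl, pullback.lift_snd, Category.assoc, ← Category.assoc (liftHom ξ z), hl,
          pullback.lift_fst_assoc] at h1
        exact h1.symm }
  obtain ⟨s, hs⟩ := hsec T.hom (fun c => (τ c).left) htor
  let s' : EtCoh.top Z ⟶ T := MorphismProperty.Over.homMk s hs
  let i := S.X₂.obj.map s'.op t.1
  have hi : S.g.hom.app (op (EtCoh.top Z)) i = q := by
    refine ((lifts q).map s'.op t).2.trans ?_
    rw [(EtCore.topIsTerminal Z).hom_ext ((EtCore.topIsTerminal Z).from _) (𝟙 _), op_id, S.X₃.obj.map_id]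
    rfl
  have hy : y = Sheaf.H.map S.g 0 ((Sheaf.H.equiv₀ S.X₂ (EtCore.topIsTerminal Z)).symm i) := by
    rw [Sheaf.H.equiv₀_symm_naturality]
    exact ((Sheaf.H.equiv₀ S.X₃ (EtCore.topIsTerminal Z)).eq_symm_apply.2 hi.symm)
  rw [hy, Sheaf.H.map_apply, Ext.comp_assoc_of_second_deg_zero, hS.comp_extClass, Ext.comp_zero]

end Groth.Agent.HenLineLib
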