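import Groth.Agent.HenLineLib.Pieces
import Groth.Agent.FEtLib.Normal
import Groth.Agent.FEtLib.Galois
import Groth.Agent.FEtLib.Coprod
import Groth.Agent.NormalSch.Basic
import Mathlib.AlgebraicGeometry.FunctionField
import Mathlib.AlgebraicGeometry.Morphisms.Finite
import Mathlib.RingTheory.Unramified.Field
import Mathlib.FieldTheory.PrimitiveElement
import Mathlib.RingTheory.LocalRing.ResidueField.Basic

/-!
# Connected covers of a punctured henselized line split over the generic point of the zero section
-/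

set_option autoImplicit false
set_option linter.style.haveILetI false
set_option backward.isDefEq.respectTransparency false
set_option maxHeartbeats 1000000

universe u

open CategoryTheory CategoryTheory.Limits AlgebraicGeometry IsLocalRing

noncomputable section

namespace Groth.Agent.HenLineLib

variable {B : Type u} [CommRing B] [IsDomain B]

theorem isIntegral_open (V : (Spec (CommRingCat.of B)).Opens) (hV : (⟨⊥, Ideal.isPrime_bot⟩ : PrimeSpectrum B) ∈ V) :
    IsIntegral (V : Scheme.{u}) :=
  haveI : IsIntegral (Spec (CommRingCat.of B)) := inferInstance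
  haveI : Nonempty (V : Scheme.{u}) := ⟨⟨_, hV⟩⟩
  isIntegral_of_isOpenImmersion V.ι

theorem isNormalScheme_open [IsIntegrallyClosed B] (V : (Spec (CommRingCat.of B)).Opens) :
    Pi1.IsNormalScheme (V : Scheme.{u}) := fun x => by
  let p : PrimeSpectrum B := x.1
  let e : ((V : Scheme.{u}).presheaf.stalk x : Type u) ≃+* Localization.AtPrime p.asIdeal :=
    (V.stalkIso x).commRingCatIsoToRingEquiv.trans (StructureSheaf.stalkIso B p).symm.toRingEquiv
  haveI : IsDomain (Localization.AtPrime p.asIdeal) :=
    IsLocalization.isDomain_of_local_atPrime inferInstance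
  haveI : IsIntegrallyClosed (Localization.AtPrime p.asIdeal) :=
    isIntegrallyClosed_of_isLocalization _ p.asIdeal.primeCompl p.asIdeal.primeCompl_le_nonZeroDivisors
  exact ⟨e.toMulEquiv.isDomain, IsIntegrallyClosed.of_equiv e.symm⟩

variable {A : Type u} [CommRing A] [IsDomain A] [IsNoetherianRing A] [IsIntegrallyClosed A] [IsLocalRing A]
  [HenselianLocalRing B] [IsNoetherianRing B] (ι : B →+* PowerSeries A) [IsLocalHom ι]

/-- **A connected cover of a punctured henselized line, split over the generic point of the zero section, is the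
base.** -/
theorem isIso_of_split_generic (hι : ι.Flat) (j : A →+* B) (hj : ∀ x, ι (j x) = PowerSeries.C x) {r : ℕ}
    (α : Fin r → A) (hA : ExtendsFrac A α) (i₀ : Fin r) (hα : ∀ i, α i ≠ 0)
    (V : (Spec (CommRingCat.of B)).Opens) (hαV : ∀ i, PrimeSpectrum.basicOpen (j (α i)) ≤ V)
    (ξ : Spec (CommRingCat.of (FractionRing A)) ⟶ (V : Scheme.{u}))
    (hξ : ξ ≫ V.ι =
      Spec.map (CommRingCat.ofHom ((algebraMap A (FractionRing A)).comp ((PowerSeries.constantCoeff (R := A)).comp ι))))
    (W : FEt.Cat (V : Scheme.{u})) [ConnectedSpace W.left]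
    (hsplit : ∀ a : FEtLib.Fib (Spec.map (CommRingCat.ofHom (algebraMap (FractionRing A)
        (AlgebraicClosure (FractionRing A)))) ≫ ξ) W,
      ∃ p : Spec (CommRingCat.of (FractionRing A)) ⟶ W.left, p ≫ W.hom = ξ ∧
        Spec.map (CommRingCat.ofHom (algebraMap (FractionRing A) (AlgebraicClosure (FractionRing A)))) ≫ p = a.left) :
    IsIso W.hom := by
  classical
  haveI := isDomain ι hι
  haveI := isIntegrallyClosed ι hι
  let K := FractionRing A
  let Kb := AlgebraicClosure K
  let a : Fin r → B := fun i => j (α i)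
  have hεa : ∀ i, (PowerSeries.constantCoeff (R := A)).comp ι (a i) = α i := fun i => by
    rw [RingHom.comp_apply, show ι (a i) = _ from hj (α i), PowerSeries.constantCoeff_C]
  have ha0 : ∀ i, a i ≠ 0 := fun i h => hα i (by rw [← hεa i, h, map_zero])
  let bot : PrimeSpectrum B := ⟨⊥, Ideal.isPrime_bot⟩
  have hbotD : ∀ i, bot ∈ PrimeSpectrum.basicOpen (a i) := fun i => fun h => ha0 i ((Submodule.mem_bot B).1 h)
  have hbot : bot ∈ V := hαV i₀ (hbotD i₀)
  haveI := isIntegral_open V hbot
  have hN : Pi1.IsNormalScheme (V : Scheme.{u}) := isNormalScheme_open V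
  haveI : IsFinite W.hom := W.prop.1
  haveI : AlgebraicGeometry.Etale W.hom := W.prop.2
  let W₀ : Scheme.{u} := W.left
  let w : W₀ ⟶ (V : Scheme.{u}) := W.hom
  haveI : IsIntegral W₀ := FEtLib.isIntegral_of_connected hN W
  have hWn : Pi1.IsNormalScheme W₀ := FEtLib.normal_left hN W
  let h : W₀ ⟶ Spec (CommRingCat.of B) := w ≫ V.ι
  let η := genericPoint W₀
  have hη : h η = bot := by
    obtain ⟨η', hs, he⟩ := FEtLib.exists_specializes_over_genericPoint W η
    have h1 : η' = η := (hs.antisymm (genericPoint_specializes η')).eq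
    show V.ι (w η) = bot
    rw [← h1, show w η' = genericPoint (V : Scheme.{u}) from he, genericPoint_eq_of_isOpenImmersion V.ι]
    exact genericPoint_eq_bot_of_affine _
  let D : Fin r → (Spec (CommRingCat.of B)).Opens := fun i => PrimeSpectrum.basicOpen (a i)
  let U : Fin r → W₀.Opens := fun i => h ⁻¹ᵁ D i
  have hηU : ∀ i, η ∈ U i := fun i => by
    show h η ∈ D i
    rw [hη]; exact hbotD i
  haveI : ∀ i, Nonempty (U i) := fun i => ⟨⟨η, hηU i⟩⟩
  have hUaff : ∀ i, IsAffineOpen (U i) := fun i =>
    (((show IsAffineOpen (D i) from IsAffineOpen.Spec_basicOpen (R := CommRingCat.of B) (a i))).preimage_of_isOpenImmersion V.ι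
      (by rw [Scheme.Opens.opensRange_ι]; exact hαV i)).preimage w
  let fs : ∀ i, Spec Γ(W₀, U i) ⟶ W₀ := fun i => (hUaff i).fromSpec
  let g : ∀ i, CommRingCat.of B ⟶ Γ(W₀, U i) := fun i => Spec.preimage (fs i ≫ h)
  have hg : ∀ i, Spec.map (g i) = fs i ≫ h := fun i => Spec.map_preimage _
  have hu : ∀ i, IsUnit ((g i).hom (a i)) := fun i => by
    by_contra hn
    obtain ⟨Q, hQ, hmem⟩ := exists_max_ideal_of_mem_nonunits hn
    let q : PrimeSpectrum Γ(W₀, U i) := ⟨Q, hQ.isPrime⟩
    have h1 : h (fs i q) ∈ D i := by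
      have : fs i q ∈ (U i : Set W₀) := by
        rw [← (hUaff i).range_fromSpec]
        exact Set.mem_range_self (f := ⇑(hUaff i).fromSpec) q
      exact this
    rw [← Scheme.Hom.comp_apply, ← hg] at h1
    exact h1 hmem
  -- the pieces are finite étale over `B[1/aᵢ]`
  let g' : ∀ i, CommRingCat.of (Localization.Away (a i)) ⟶ Γ(W₀, U i) := fun i =>
    CommRingCat.ofHom (IsLocalization.Away.lift (a i) (hu i))
  have hg' : ∀ i, CommRingCat.ofHom (algebraMap B (Localization.Away (a i))) ≫ g' i = g i := fun i =>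
    CommRingCat.hom_ext (IsLocalization.Away.lift_comp (a i) (hu i))
  have hpiece : ∀ i, (g' i).hom.Finite ∧ (g i).hom.Etale := fun i => by
    let lo := Spec.map (CommRingCat.ofHom (algebraMap B (Localization.Away (a i))))
    have hrlo : lo.opensRange = D i :=
      TopologicalSpace.Opens.ext (PrimeSpectrum.localization_away_comap_range (Localization.Away (a i)) (a i))
    have hle : Set.range lo ⊆ Set.range V.ι := by
      rw [Scheme.Opens.range_ι]
      intro x hx
      have hx' : x ∈ lo.opensRange := hx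
      rw [hrlo] at hx'
      exact hαV i hx'
    let iV := IsOpenImmersion.lift V.ι lo hle
    have hiV : iV ≫ V.ι = lo := IsOpenImmersion.lift_fac _ _ _
    haveI : IsOpenImmersion (iV ≫ V.ι) := by rw [hiV]; infer_instance
    haveI : IsOpenImmersion iV := IsOpenImmersion.of_comp iV V.ι
    have sq : IsPullback (Spec.map (g' i)) (fs i) iV w := by
      refine IsOpenImmersion.isPullback _ _ _ _ ?_ ?_
      · rw [← cancel_mono V.ι, Category.assoc, Category.assoc, hiV, ← Spec.map_comp, hg']
        exact (hg i).symm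
      · apply TopologicalSpace.Opens.ext
        rw [show (fs i).opensRange = U i from (hUaff i).opensRange_fromSpec]
        ext x
        show w x ∈ Set.range iV ↔ h x ∈ D i
        rw [← hrlo]
        show w x ∈ Set.range iV ↔ h x ∈ Set.range lo
        constructor
        · rintro ⟨z, hz⟩
          refine ⟨z, ?_⟩
          rw [← hiV, Scheme.Hom.comp_apply, hz]
          rfl
        · rintro ⟨z, hz⟩
          rw [← hiV, Scheme.Hom.comp_apply] at hz
          exact ⟨z, V.ι.isOpenEmbedding.injective hz⟩
    refine ⟨(IsFinite.SpecMap_iff _).1 (MorphismProperty.of_isPullback sq.flip inferInstance),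
      (HasRingHomProperty.Spec_iff (P := @AlgebraicGeometry.Etale)).1 ?_⟩
    rw [hg]
    infer_instance
  -- the function field
  let M := W₀.functionField
  let e : ∀ i, Γ(W₀, U i) ⟶ M := fun i => W₀.germToFunctionField (U i)
  have he : ∀ i, Function.Injective (e i).hom := fun i => W₀.germToFunctionField_injective (U i)
  have hfrom : ∀ i, Spec.map (e i) ≫ fs i = W₀.fromSpecStalk η := fun i =>
    (hUaff i).fromSpecStalk_eq_fromSpecStalk (hηU i)
  have hge : ∀ i, g i ≫ e i = g i₀ ≫ e i₀ := fun i => Spec.map_injective (by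
    rw [Spec.map_comp, Spec.map_comp, hg, hg]
    exact ((Category.assoc _ _ _).symm.trans (congrArg (· ≫ h) (hfrom i))).trans
      ((Category.assoc _ _ _).symm.trans (congrArg (· ≫ h) (hfrom i₀))).symm)
  letI : Algebra B M := (g i₀ ≫ e i₀).hom.toAlgebra
  have hgeM : ∀ i b, (e i).hom ((g i).hom b) = algebraMap B M b := fun i b => ConcreteCategory.congr_hom (hge i) b
  have hinjB : Function.Injective (algebraMap B M) := by
    rw [RingHom.injective_iff_ker_eq_bot]
    let z : PrimeSpectrum M := ⟨⊥, Ideal.isPrime_bot⟩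
    have h1 : (Spec.map (g i₀ ≫ e i₀)) z = bot := by
      rw [Spec.map_comp, hg, ← Category.assoc, hfrom, Scheme.Hom.comp_apply]
      exact (congrArg h ((congrArg (W₀.fromSpecStalk η) (Subsingleton.elim (α := PrimeSpectrum M) _ _)).trans
        Scheme.fromSpecStalk_closedPoint)).trans hη
    exact congrArg PrimeSpectrum.asIdeal h1
  let F := FractionRing B
  letI : Algebra F M := (IsFractionRing.lift hinjB).toAlgebra
  haveI : IsScalarTower B F M := IsScalarTower.of_algebraMap_eq fun b => (IsFractionRing.lift_algebraMap hinjB b).symm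
  haveI : IsFractionRing Γ(W₀, U i₀) M := functionField_isFractionRing_of_isAffineOpen W₀ (U i₀) (hUaff i₀)
  have hdiv : ∀ z : M, ∃ x y, z = (e i₀).hom x / (e i₀).hom y := fun z => by
    obtain ⟨x, y, -, hxy⟩ := IsFractionRing.div_surjective (A := Γ(W₀, U i₀)) z
    exact ⟨x, y, hxy.symm⟩
  have hint : ∀ i (x : Γ(W₀, U i)), ∃ m : ℕ, IsIntegral B (algebraMap B M (a i) ^ m * (e i).hom x) := fun i x => by
    letI : Algebra (Localization.Away (a i)) M := ((e i).hom.comp (g' i).hom).toAlgebra
    haveI : IsScalarTower B (Localization.Away (a i)) M := IsScalarTower.of_algebraMap_eq fun b => by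
      rw [← hgeM i, ← hg' i]
      rfl
    have hx : IsIntegral (Localization.Away (a i)) ((e i).hom x) := by
      obtain ⟨p, hp, hpx⟩ := RingHom.IsIntegral.of_finite (hpiece i).1 x
      exact ⟨p, hp, by
        show p.eval₂ ((e i).hom.comp (g' i).hom) ((e i).hom x) = 0
        rw [← Polynomial.hom_eval₂, hpx, map_zero]⟩
    obtain ⟨⟨_, m, rfl⟩, hm⟩ :=
      IsIntegral.exists_multiple_integral_of_isLocalization (Submonoid.powers (a i)) _ hx
    exact ⟨m, by rwa [Submonoid.smul_def, Algebra.smul_def, map_pow] at hm⟩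
  have hclosed : ∀ i (z : M), IsIntegral B z → ∃ x, (e i).hom x = z := fun i z hz => by
    refine NormalSch.exists_section_of_isIntegral hWn (U i) z ?_
    obtain ⟨p, hp, hpz⟩ := hz
    refine ⟨p.map (g i).hom, hp.map _, ?_⟩
    rw [Polynomial.eval₂_map, show (algebraMap Γ(W₀, U i) M).comp (g i).hom = algebraMap B M from RingHom.ext (hgeM i)]
    exact hpz
  have hintF : ∀ x, IsIntegral F ((e i₀).hom x) := fun x => by
    obtain ⟨m, hm⟩ := hint i₀ x
    have h1 := (isIntegral_algebraMap (R := F) (A := M)
      (x := (algebraMap B F (a i₀) ^ m)⁻¹)).mul (hm.tower_top (A := F))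
    rwa [map_inv₀, map_pow, ← IsScalarTower.algebraMap_apply, ← mul_assoc, inv_mul_cancel₀
      (pow_ne_zero _ ((map_ne_zero_iff _ hinjB).2 (ha0 i₀))), one_mul] at h1
  letI : Algebra B Γ(W₀, U i₀) := (g i₀).hom.toAlgebra
  haveI : Algebra.Etale B Γ(W₀, U i₀) := RingHom.etale_algebraMap.1 (hpiece i₀).2
  haveI : IsScalarTower B Γ(W₀, U i₀) M := IsScalarTower.of_algebraMap_eq fun b => (hgeM i₀ b).symm
  obtain ⟨gens, hgens⟩ := (inferInstance : Algebra.FiniteType B Γ(W₀, U i₀)).1
  let T : Set M := (e i₀).hom '' (gens : Set Γ(W₀, U i₀))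
  have htop : IntermediateField.adjoin F T = ⊤ := by
    rw [eq_top_iff]
    intro z _
    have hmem : ∀ x, (e i₀).hom x ∈ IntermediateField.adjoin F T := fun x => by
      have hx : x ∈ Algebra.adjoin B (gens : Set Γ(W₀, U i₀)) := hgens ▸ Algebra.mem_top
      induction hx using Algebra.adjoin_induction with
      | mem y hy => exact IntermediateField.subset_adjoin F _ ⟨y, hy, rfl⟩
      | algebraMap b =>
        rw [show (e i₀).hom (algebraMap B Γ(W₀, U i₀) b) = algebraMap B M b from hgeM i₀ b,
          IsScalarTower.algebraMap_apply B F M]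
        exact IntermediateField.algebraMap_mem _ _
      | add p q _ _ hp hq => rw [map_add]; exact add_mem hp hq
      | mul p q _ _ hp hq => rw [map_mul]; exact mul_mem hp hq
    obtain ⟨x, y, rfl⟩ := hdiv z
    exact div_mem (hmem x) (hmem y)
  haveI : FiniteDimensional F M := by
    haveI : Finite T := ((gens.finite_toSet).image _).to_subtype
    haveI := IntermediateField.finiteDimensional_adjoin (K := F) (S := T) fun z ⟨x, _, hx⟩ => hx ▸ hintF x
    exact Module.Finite.equiv ((IntermediateField.equivOfEq htop).trans IntermediateField.topEquiv).toLinearEquiv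
  haveI : Algebra.IsSeparable F M := by
    haveI : Algebra.FormallyUnramified Γ(W₀, U i₀) M :=
      Algebra.FormallyUnramified.of_isLocalization (nonZeroDivisors Γ(W₀, U i₀))
    haveI : Algebra.FormallyUnramified B M := Algebra.FormallyUnramified.comp B Γ(W₀, U i₀) M
    haveI : Algebra.FormallyUnramified F M := Algebra.FormallyUnramified.of_restrictScalars B F M
    exact Algebra.FormallyUnramified.isSeparable F M
  -- the geometric generic fibre
  let Fb := AlgebraicClosure F
  let bFb : CommRingCat.of B ⟶ CommRingCat.of Fb := CommRingCat.ofHom ((algebraMap F Fb).comp (algebraMap B F))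
  have hker : RingHom.ker bFb.hom = ⊥ := (RingHom.injective_iff_ker_eq_bot _).1
    ((algebraMap F Fb).injective.comp (IsFractionRing.injective B F))
  let ηb : Spec (CommRingCat.of Fb) ⟶ (V : Scheme.{u}) := IsOpenImmersion.lift V.ι (Spec.map bFb) (by
    rw [Scheme.Opens.range_ι]
    rintro _ ⟨z, rfl⟩
    rw [show (Spec.map bFb) z = bot from PrimeSpectrum.ext (by
      rw [show z = (⟨⊥, Ideal.isPrime_bot⟩ : PrimeSpectrum Fb) from Subsingleton.elim (α := PrimeSpectrum Fb) _ _]
      exact hker)]
    exact hbot)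
  have hηb : ηb ≫ V.ι = Spec.map bFb := IsOpenImmersion.lift_fac _ _ _
  let Φ : (M →ₐ[F] Fb) → FEtLib.Fib ηb W := fun σ =>
    FEtLib.fibMk (Spec.map (CommRingCat.ofHom σ.toRingHom) ≫ Spec.map (e i₀) ≫ fs i₀) (by
      rw [← cancel_mono V.ι, hηb, Category.assoc, Category.assoc, Category.assoc, ← hg, ← Spec.map_comp, ← Spec.map_comp]
      refine congrArg Spec.map (CommRingCat.hom_ext (RingHom.ext fun b => ?_))
      show σ ((e i₀).hom ((g i₀).hom b)) = algebraMap F Fb (algebraMap B F b)
      rw [hgeM, IsScalarTower.algebraMap_apply B F M, AlgHom.commutes])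
  have hΦ : Function.Bijective Φ := by
    refine ⟨fun σ σ' hσ => ?_, fun pt => ?_⟩
    · have h1 : Spec.map (e i₀ ≫ CommRingCat.ofHom σ.toRingHom) = Spec.map (e i₀ ≫ CommRingCat.ofHom σ'.toRingHom) := by
        rw [← cancel_mono (fs i₀), Spec.map_comp, Spec.map_comp, Category.assoc, Category.assoc]
        exact congrArg (fun c : FEtLib.Fib ηb W => c.left) hσ
      refine AlgHom.ext fun z => ?_
      obtain ⟨x, y, rfl⟩ := hdiv z
      have h2 := fun t => ConcreteCategory.congr_hom (Spec.map_injective h1) t
      rw [map_div₀, map_div₀]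
      exact congrArg₂ (· / ·) (h2 x) (h2 y)
    · let pl : Spec (CommRingCat.of Fb) ⟶ W₀ := pt.left
      have hpl : pl ≫ h = Spec.map bFb := by
        rw [← hηb, ← Category.assoc]
        exact congrArg (· ≫ V.ι) (FEtLib.fib_w pt)
      have hrange : Set.range pl ⊆ Set.range (fs i₀) := by
        rintro _ ⟨z, rfl⟩
        rw [(hUaff i₀).range_fromSpec]
        show h (pl z) ∈ D i₀
        rw [← Scheme.Hom.comp_apply, hpl, show (Spec.map bFb) z = bot from PrimeSpectrum.ext (by
          rw [show z = (⟨⊥, Ideal.isPrime_bot⟩ : PrimeSpectrum Fb) from Subsingleton.elim (α := PrimeSpectrum Fb) _ _]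
          exact hker)]
        exact hbotD i₀
      let τ : Γ(W₀, U i₀) ⟶ CommRingCat.of Fb := Spec.preimage (IsOpenImmersion.lift (fs i₀) pl hrange)
      have hτ : Spec.map τ ≫ fs i₀ = pl := by rw [Spec.map_preimage, IsOpenImmersion.lift_fac]
      have hτg : g i₀ ≫ τ = bFb := Spec.map_injective (by rw [Spec.map_comp, hg, ← Category.assoc, hτ, hpl])
      have hτinj : Function.Injective τ.hom := by
        rw [injective_iff_map_eq_zero]
        intro x hx
        by_contra hx0
        have hint0 : IsIntegral F ((e i₀).hom x) := hintF x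
        have hex : (e i₀).hom x ≠ 0 := (map_ne_zero_iff _ (he i₀)).2 hx0
        obtain ⟨m, hm⟩ := hint i₀ x
        obtain ⟨c, hc⟩ := hclosed i₀ _ hm
        have hc' : c = (g i₀).hom (a i₀) ^ m * x := he i₀ (by rw [hc, map_mul, map_pow, hgeM])
        have hc0 : c ≠ 0 := fun h0 => by
          rw [h0, map_zero, eq_comm] at hc
          exact mul_ne_zero (pow_ne_zero _ ((map_ne_zero_iff _ hinjB).2 (ha0 i₀))) hex hc
        have hci : IsIntegral B c := (isIntegral_algHom_iff (IsScalarTower.toAlgHom B Γ(W₀, U i₀) M) (he i₀)).1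
          (by rw [IsScalarTower.coe_toAlgHom']; exact hc ▸ hm)
        let P := RingHom.ker τ.hom
        have hcP : c ∈ P := by rw [hc', RingHom.mem_ker, map_mul, hx, mul_zero]
        let S := Algebra.adjoin B ({c} : Set Γ(W₀, U i₀))
        haveI : Algebra.IsIntegral B S := Algebra.IsIntegral.adjoin fun z hz => by
          rw [Set.mem_singleton_iff.1 hz]; exact hci
        haveI : IsDomain Γ(W₀, U i₀) := inferInstance
        have h2 : P.comap S.val.toRingHom = ⊥ := by
          refine Ideal.eq_bot_of_comap_eq_bot (R := B) ?_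
          rw [← le_bot_iff]
          intro b hb
          have h3 : bFb.hom b = 0 := by rw [← hτg]; exact hb
          exact hker ▸ h3
        have h4 : (⟨c, Algebra.self_mem_adjoin_singleton B c⟩ : S) ∈ P.comap S.val.toRingHom := hcP
        rw [h2, Submodule.mem_bot] at h4
        exact hc0 (congrArg Subtype.val h4)
      let σ : M →+* Fb := IsFractionRing.lift hτinj
      have hσe : ∀ x, σ ((e i₀).hom x) = τ.hom x := fun x => IsFractionRing.lift_algebraMap hτinj x
      have hσF : σ.comp (algebraMap F M) = algebraMap F Fb := IsLocalization.ringHom_ext (nonZeroDivisors B)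
        (RingHom.ext fun b => by
          show σ (algebraMap F M (algebraMap B F b)) = algebraMap F Fb (algebraMap B F b)
          rw [← IsScalarTower.algebraMap_apply B F M, ← hgeM i₀, hσe]
          exact ConcreteCategory.congr_hom hτg b)
      refine ⟨{ σ with commutes' := RingHom.congr_fun hσF }, FEtLib.fib_ext ?_⟩
      refine Eq.trans ?_ hτ
      show Spec.map (CommRingCat.ofHom σ) ≫ Spec.map (e i₀) ≫ fs i₀ = _
      rw [← Category.assoc, ← Spec.map_comp]
      exact congrArg (fun q => Spec.map q ≫ fs i₀) (CommRingCat.hom_ext (RingHom.ext hσe))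
  have hcard : ∀ {L : Type u} [Field L] [IsAlgClosed L] (z : Spec (CommRingCat.of L) ⟶ (V : Scheme.{u})),
      Nat.card (FEtLib.Fib z W) = Module.finrank F M := fun z => by
    rw [FEtLib.card_fib_eq (ξ := ηb) W z, ← Nat.card_eq_of_bijective Φ hΦ, Nat.card_eq_fintype_card, AlgHom.card]
  -- the points over the zero section
  let ξb := Spec.map (CommRingCat.ofHom (algebraMap K Kb)) ≫ ξ
  haveI := FEtLib.finite_fib ξb W
  let en : Fin (Module.finrank F M) ≃ FEtLib.Fib ξb W :=
    (finCongr (hcard ξb).symm).trans (Finite.equivFin _).symm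
  choose p hpw hpa using fun k => hsplit (en k)
  have hpr : ∀ k, Set.range (p k) ⊆ Set.range (fs i₀) := fun k => by
    rintro _ ⟨z, rfl⟩
    rw [(hUaff i₀).range_fromSpec]
    show h (p k z) ∈ D i₀
    rw [show h (p k z) = (p k ≫ w ≫ V.ι) z from rfl, ← Category.assoc, show p k ≫ w = ξ from hpw k, hξ]
    intro hmem
    refine z.2.ne_top (Ideal.eq_top_of_isUnit_mem _ hmem (isUnit_iff_ne_zero.2 ?_))
    show algebraMap A K ((PowerSeries.constantCoeff (R := A)).comp ι (a i₀)) ≠ 0
    rw [hεa]
    exact (map_ne_zero_iff _ (IsFractionRing.injective A K)).2 (hα i₀)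
  let χ : Fin (Module.finrank F M) → (Γ(W₀, U i₀) →+* K) := fun k =>
    (Spec.preimage (IsOpenImmersion.lift (fs i₀) (p k) (hpr k))).hom
  have hχp : ∀ k, Spec.map (CommRingCat.ofHom (χ k)) ≫ fs i₀ = p k := fun k => by
    rw [CommRingCat.ofHom_hom, Spec.map_preimage, IsOpenImmersion.lift_fac]
  have hone : Module.finrank F M = 1 := by
    refine finrank_eq_one_of_pieces ι hι j hj α hA i₀ hα F M (fun i => Γ(W₀, U i)) (fun i => (g i).hom)
      (fun i => (e i).hom) he hgeM hu hint hclosed (fun i => (hpiece i).2) K χ (fun k l hkl => ?_) fun k b => ?_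
    · have h1 : p k = p l := by rw [← hχp k, ← hχp l, hkl]
      refine en.injective (FEtLib.fib_ext ?_)
      rw [← hpa k, ← hpa l, h1]
    · have h1 : g i₀ ≫ CommRingCat.ofHom (χ k) = CommRingCat.ofHom ((algebraMap A K).comp
          ((PowerSeries.constantCoeff (R := A)).comp ι)) := Spec.map_injective (by
        rw [Spec.map_comp, hg, ← Category.assoc, hχp]
        show p k ≫ w ≫ V.ι = _
        rw [← Category.assoc, show p k ≫ w = ξ from hpw k, hξ])
      exact ConcreteCategory.congr_hom h1 b
  haveI : IsIso (FEtLib.toOne W) := FEtLib.isIso_of_pmap_bijective _ fun L _ _ z => by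
    haveI := FEtLib.finite_fib z W
    obtain ⟨hs, hne⟩ := Nat.card_eq_one_iff_unique.1 ((hcard z).trans hone)
    exact ⟨fun p q _ => Subsingleton.elim p q, fun o => ⟨hne.some, FEtLib.fib_one_subsingleton _ _⟩⟩
  exact (inferInstance : IsIso (FEtLib.toOne W).left)

end Groth.Agent.HenLineLib
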