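import Groth.Agent.HenLineLib.ZeroSection

/-!
# Covers of a punctured henselized line split over the generic point of the zero section are trivial
-/

set_option autoImplicit false
set_option linter.style.haveILetI false
set_option backward.isDefEq.respectTransparency false
set_option maxHeartbeats 1000000

universe u

open CategoryTheory CategoryTheory.Limits AlgebraicGeometry IsLocalRing TopologicalSpace

noncomputable section

namespace Groth.Agent.HenLineLib

variable {A B : Type u} [CommRing B] [IsDomain B] [CommRing A] [IsDomain A] [IsNoetherianRing A] [IsIntegrallyClosed A]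
  [IsLocalRing A] [HenselianLocalRing B] [IsNoetherianRing B] (ι : B →+* PowerSeries A) [IsLocalHom ι]

open scoped Function in
/-- **A cover of a punctured henselized line, split over the generic point of the zero section, is trivial.** -/
theorem trivial_of_split_generic (hι : ι.Flat) (j : A →+* B) (hj : ∀ x, ι (j x) = PowerSeries.C x) {r : ℕ}
    (α : Fin r → A) (hA : ExtendsFrac A α) (i₀ : Fin r) (hα : ∀ i, α i ≠ 0)
    (V : (Spec (CommRingCat.of B)).Opens) (hαV : ∀ i, PrimeSpectrum.basicOpen (j (α i)) ≤ V)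
    (ξ : Spec (CommRingCat.of (FractionRing A)) ⟶ (V : Scheme.{u}))
    (hξ : ξ ≫ V.ι =
      Spec.map (CommRingCat.ofHom ((algebraMap A (FractionRing A)).comp ((PowerSeries.constantCoeff (R := A)).comp ι))))
    (W : FEt.Cat (V : Scheme.{u}))
    (hsplit : ∀ a : FEtLib.Fib (Spec.map (CommRingCat.ofHom (algebraMap (FractionRing A)
        (AlgebraicClosure (FractionRing A)))) ≫ ξ) W,
      ∃ p : Spec (CommRingCat.of (FractionRing A)) ⟶ W.left, p ≫ W.hom = ξ ∧
        Spec.map (CommRingCat.ofHom (algebraMap (FractionRing A) (AlgebraicClosure (FractionRing A)))) ≫ p = a.left) :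
    ∃ (n : ℕ) (e : W.left ≅ ∐ fun _ : Fin n => (V : Scheme.{u})), e.hom ≫ Sigma.desc (fun _ => 𝟙 _) = W.hom := by
  classical
  let W₀ : Scheme.{u} := W.left
  let w : W₀ ⟶ (V : Scheme.{u}) := W.hom
  haveI : IsFinite w := W.prop.1
  haveI : IsNoetherian (Spec (CommRingCat.of B)) := inferInstance
  haveI : CompactSpace ↥(V : Scheme.{u}) := isCompact_iff_compactSpace.1 (NoetherianSpace.isCompact (V : Set ↥(Spec (CommRingCat.of B))))
  haveI : IsLocallyNoetherian W₀ := LocallyOfFiniteType.isLocallyNoetherian w
  haveI : CompactSpace W₀ := QuasiCompact.compactSpace_of_compactSpace w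
  haveI : IsNoetherian W₀ := ⟨⟩
  haveI := FEtLib.finite_connectedComponents (T := W₀)
  let U : Fin (Nat.card (_root_.ConnectedComponents W₀)) → W₀.Opens := fun k =>
    ⟨ConnectedComponents.mk ⁻¹' {(Finite.equivFin _).symm k},
      (isClopen_discrete _).2.preimage ConnectedComponents.continuous_coe⟩
  have hUc : ∀ k, IsClosed (U k : Set W₀) := fun k =>
    (isClopen_discrete {(Finite.equivFin (_root_.ConnectedComponents W₀)).symm k}).1.preimage
      ConnectedComponents.continuous_coe
  let Wc : Fin (Nat.card (_root_.ConnectedComponents W₀)) → FEt.Cat (V : Scheme.{u}) := fun k =>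
    FEtLib.clopenPart W (U k) (hUc k)
  have hiso : ∀ k, IsIso (Wc k).hom := fun k => by
    haveI : ConnectedSpace (Wc k).left := by
      obtain ⟨t, ht⟩ := ConnectedComponents.surjective_coe ((Finite.equivFin (_root_.ConnectedComponents W₀)).symm k)
      have : (U k : Set W₀) = connectedComponent t := by
        show ConnectedComponents.mk ⁻¹' {(Finite.equivFin _).symm k} = _
        rw [← ht]
        exact connectedComponents_preimage_singleton
      exact isConnected_iff_connectedSpace.1 (this ▸ isConnected_connectedComponent : _root_.IsConnected (U k : Set W₀))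
    refine isIso_of_split_generic ι hι j hj α hA i₀ hα V hαV ξ hξ (Wc k) fun a => ?_
    obtain ⟨p, hpw, hpa⟩ := hsplit (FEtLib.pmap (FEtLib.clopenPartι W (U k) (hUc k)) a)
    let al : Spec (CommRingCat.of (AlgebraicClosure (FractionRing A))) ⟶ (U k : Scheme.{u}) := a.left
    let p₀ : Spec (CommRingCat.of (FractionRing A)) ⟶ W₀ := p
    have hpa' : Spec.map (CommRingCat.ofHom (algebraMap (FractionRing A) (AlgebraicClosure (FractionRing A)))) ≫ p₀ =
        al ≫ (U k).ι := hpa
    have hr : Set.range p₀ ⊆ Set.range (U k).ι := by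
      rintro _ ⟨z, rfl⟩
      rw [show z = (Spec.map (CommRingCat.ofHom (algebraMap (FractionRing A) (AlgebraicClosure (FractionRing A)))))
        (⟨⊥, Ideal.isPrime_bot⟩ : PrimeSpectrum (AlgebraicClosure (FractionRing A))) from
          Subsingleton.elim (α := PrimeSpectrum (FractionRing A)) _ _, ← Scheme.Hom.comp_apply, hpa',
        Scheme.Hom.comp_apply]
      exact Set.mem_range_self _
    have hl := IsOpenImmersion.lift_fac (U k).ι p₀ hr
    refine ⟨IsOpenImmersion.lift (U k).ι p₀ hr, ?_, ?_⟩
    · show IsOpenImmersion.lift (U k).ι p₀ hr ≫ (U k).ι ≫ w = ξ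
      rw [← Category.assoc, hl]
      exact hpw
    · show _ = al
      rw [← cancel_mono (U k).ι, Category.assoc, hl, hpa']
  let t : Fin (Nat.card (_root_.ConnectedComponents W₀)) → ((V : Scheme.{u}) ⟶ W₀) := fun k =>
    (haveI := hiso k; inv (Wc k).hom) ≫ (U k).ι
  haveI : ∀ k, IsOpenImmersion (t k) := fun k => by
    haveI := hiso k
    exact IsOpenImmersion.comp (inv (Wc k).hom) (U k).ι
  have ht : ∀ k, t k ≫ w = 𝟙 _ := fun k => by
    haveI := hiso k
    show (inv (Wc k).hom ≫ (U k).ι) ≫ w = 𝟙 _
    rw [Category.assoc]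
    exact IsIso.inv_hom_id (Wc k).hom
  have hrt : ∀ k, Set.range (t k) = (U k : Set W₀) := fun k => by
    haveI := hiso k
    haveI : Surjective (inv (Wc k).hom) := inferInstance
    show Set.range ⇑((inv (Wc k).hom ≫ (U k).ι)) = _
    rw [Scheme.Hom.comp_base, TopCat.coe_comp, Set.range_comp, (Scheme.Hom.surjective (inv (Wc k).hom)).range_eq,
      Set.image_univ]
    exact Scheme.Opens.range_ι _
  have hdisj : Pairwise (Disjoint on (Set.range <| t ·)) := fun k l hkl => by
    show Disjoint (Set.range (t k)) (Set.range (t l))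
    rw [hrt, hrt, Set.disjoint_iff_forall_ne]
    rintro z hz _ hz' rfl
    exact hkl ((Finite.equivFin _).symm.injective (hz.symm.trans hz'))
  haveI : IsOpenImmersion (Sigma.desc t) := isOpenImmersion_sigmaDesc _ _ hdisj
  haveI : IsIso (Sigma.desc t) := isIso_of_isOpenImmersion_of_opensRange_eq_top _ (by
    rw [eq_top_iff]
    intro z _
    obtain ⟨k, hk⟩ := (Finite.equivFin (_root_.ConnectedComponents W₀)).symm.surjective (ConnectedComponents.mk z)
    obtain ⟨v, hv⟩ : z ∈ Set.range (t k) := by rw [hrt]; exact hk.symm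
    exact ⟨Sigma.ι (fun _ => (V : Scheme.{u})) k v, by rw [← Scheme.Hom.comp_apply, Sigma.ι_desc, hv]⟩)
  refine ⟨_, (asIso (Sigma.desc t)).symm, ?_⟩
  rw [Iso.symm_hom, asIso_inv, IsIso.inv_comp_eq]
  refine Sigma.hom_ext _ _ fun k => ?_
  rw [Sigma.ι_desc, Sigma.ι_desc_assoc]
  exact (ht k).symm

end Groth.Agent.HenLineLib
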